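import Groth.Agent.DispLib.OfNormal

/-!
# Base change of 3n-displays
-/

universe u v w

namespace Groth.Agent.DispLib

open W4c1extbt610 Dieu

section General

variable {A : Type u} {B : Type v} [CommRing A] [CommRing B] (g : A →+* B)
variable {M : Type w} [AddCommGroup M] [Module A M]

theorem BC_finite [Module.Finite A M] : Module.Finite B (BC g M) := by
  obtain ⟨n, x, hx⟩ := Module.Finite.exists_fin (R := A) (M := M)
  refine ⟨Submodule.fg_def.2 ⟨_, Set.finite_range fun i => BC.tmul g 1 (x i), ?_⟩⟩
  rw [eq_top_iff]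
  rintro z -
  induction z using BC.induction_on g with
  | zero => exact Submodule.zero_mem _
  | tmul b y =>
    obtain ⟨c, rfl⟩ := (Submodule.mem_span_range_iff_exists_fun A).1 (hx ▸ Submodule.mem_top : y ∈ _)
    rw [BC.tmul_eq_smul_tmul_one, ← BC.ι_apply, map_sum]
    refine Submodule.smul_mem _ _ (Submodule.sum_mem _ fun i _ => ?_)
    rw [map_smulₛₗ]
    exact Submodule.smul_mem _ _ (Submodule.subset_span ⟨i, rfl⟩)
  | add a b ha hb => exact Submodule.add_mem _ ha hb

theorem BC_projective [Module.Finite A M] [Module.Projective A M] : Module.Projective B (BC g M) := by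
  obtain ⟨N, π, hπ⟩ := Module.Finite.exists_fin' A M
  obtain ⟨ι, hι⟩ := Module.projective_lifting_property π LinearMap.id hπ
  let i₀ : M →ₛₗ[g] (Fin N → B) :=
    { toFun := fun x j => g (ι x j)
      map_add' := fun x y => by funext j; simp
      map_smul' := fun a x => by funext j; simp }
  let r : (Fin N → B) →ₗ[B] BC g M := Fintype.linearCombination B fun j => BC.tmul g 1 (π (Pi.single j 1))
  refine Module.Projective.of_split (BC.lift g i₀) r (BC.ext g fun x => ?_)
  rw [LinearMap.comp_apply, BC.lift_tmul, one_smul, LinearMap.id_apply]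
  conv_rhs => rw [← LinearMap.id_apply (R := A) x, ← hι, LinearMap.comp_apply, pi_eq_sum_univ' (ι x),
    map_sum, ← BC.ι_apply, map_sum]
  rw [Fintype.linearCombination_apply]
  refine Finset.sum_congr rfl fun j _ => ?_
  rw [map_smul, map_smulₛₗ, BC.ι_apply]
  rfl

/-- `1 ⊗ z = 0` in the scalar extension along a surjection means `z ∈ ker • M`. -/
theorem mem_of_ι_eq_zero (s : B → A) (hs : ∀ b, g (s b) = b) (z : M) (hz : BC.ι g M z = 0) :
    z ∈ RingHom.ker g • (⊤ : Submodule A M) := by
  set K := RingHom.ker g • (⊤ : Submodule A M)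
  have hmk : ∀ a a' : A, g a = g a' → ∀ x : M, K.mkQ (a • x) = K.mkQ (a' • x) := fun a a' h x => by
    rw [Submodule.mkQ_apply, Submodule.mkQ_apply, Submodule.Quotient.eq, ← sub_smul]
    exact Submodule.smul_mem_smul (by rw [RingHom.mem_ker, map_sub, h, sub_self]) Submodule.mem_top
  let f : Res g →+ M →+ M ⧸ K :=
    { toFun := fun b => (K.mkQ ∘ₗ (s b.val • LinearMap.id)).toAddMonoidHom
      map_zero' := by
        ext x
        show K.mkQ (s 0 • x) = 0
        rw [hmk _ 0 (by rw [hs, map_zero]), zero_smul, map_zero]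
      map_add' := fun a b => by
        ext x
        show K.mkQ (s (a.val + b.val) • x) = K.mkQ (s a.val • x) + K.mkQ (s b.val • x)
        rw [← map_add, ← add_smul]
        exact hmk _ _ (by simp [hs]) x }
  have hbal : ∀ (a : A) (b : Res g) (x : M), f (a • b) x = f b (a • x) := fun a b x => by
    show K.mkQ (s (g a * b.val) • x) = K.mkQ (s b.val • a • x)
    rw [smul_smul]
    exact hmk _ _ (by simp [hs, mul_comm]) x
  let L : BC g M →+ M ⧸ K := TensorProduct.liftAddHom f hbal
  have h1 : L (BC.ι g M z) = K.mkQ (s 1 • z) := TensorProduct.liftAddHom_tmul f hbal _ _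
  rw [hz, map_zero, hmk _ 1 (by rw [hs, map_one]), one_smul] at h1
  exact (Submodule.Quotient.mk_eq_zero _).1 h1.symm

end General

variable {p : ℕ} [Fact p.Prime] {S R : Type u} [CommRing S] [CommRing R] (f : S →+* R)

theorem map_comp_frobenius_apply (x : WittVector p S) :
    WittVector.frobenius (WittVector.map f x) = WittVector.map f (WittVector.frobenius x) :=
  ((WittVector.frobenius_isPoly p).map f x).symm

theorem map_verschiebung_apply (x : WittVector p S) :
    WittVector.map f (WittVector.verschiebung x) = WittVector.verschiebung (WittVector.map f x) :=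
  WittVector.map_verschiebung f x

variable {P : Type v} [AddCommGroup P] [Module (WittVector p S) P]

local notation "Wf" => (WittVector.map f : WittVector p S →+* WittVector p R)
local notation "σS" => (WittVector.frobenius : WittVector p S →+* WittVector p S)
local notation "σR" => (WittVector.frobenius : WittVector p R →+* WittVector p R)

/-- The base change of a Frobenius-semilinear endomorphism. -/
noncomputable def bcEndo (φ : P →ₛₗ[σS] P) : BC Wf P →ₛₗ[σR] BC Wf P :=
  let ψ : P →ₛₗ[(σR).comp Wf] BC Wf P :=
    { toFun := fun x => BC.tmul Wf 1 (φ x)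
      map_add' := fun x y => by rw [map_add, BC.tmul_add]
      map_smul' := fun a x => by
        rw [map_smulₛₗ, ← BC.tmul_apply_eq, BC.smul_tmul, mul_one, RingHom.comp_apply,
          map_comp_frobenius_apply] }
  (BC.lift _ ψ).comp (BC.push Wf σR)

theorem bcEndo_tmul (φ : P →ₛₗ[σS] P) (w : WittVector p R) (x : P) :
    bcEndo f φ (BC.tmul Wf w x) = BC.tmul Wf (WittVector.frobenius w) (φ x) := by
  rw [bcEndo, LinearMap.comp_apply, BC.push_tmul, BC.lift_tmul]
  show _ • BC.tmul Wf 1 (φ x) = _
  rw [BC.smul_tmul, mul_one]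

theorem tmul_verschiebung_mem (D : Display3n p S P) (w : WittVector p R) (x : P) :
    BC.tmul Wf (WittVector.verschiebung w) x ∈ LinearMap.ker (bcQuotMap f D.Q) := by
  rw [LinearMap.mem_ker, bcQuotMap_tmul]
  show BC.tmul _ ((WittVector.verschiebung w).coeff 0) _ = 0
  rw [WittVector.verschiebung_coeff_zero, BC.zero_tmul]

theorem tmul_mem (D : Display3n p S P) (w : WittVector p R) {x : P} (hx : x ∈ D.Q) :
    BC.tmul Wf w x ∈ LinearMap.ker (bcQuotMap f D.Q) := by
  rw [LinearMap.mem_ker, bcQuotMap_tmul, Submodule.mkQ_apply, (Submodule.Quotient.mk_eq_zero _).2 hx,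
    BC.tmul_zero]

theorem existsUnique_baseChange (D : Display3n p S P) :
    ∃! DR : Display3n p R (BC Wf P), IsDispBaseChange f D DR := by
  haveI := D.finite
  haveI := D.projective
  haveI := BC_finite (M := P) Wf
  haveI := BC_projective (M := P) Wf
  obtain ⟨L, T, hLT, hQ⟩ := D.exists_normal
  let eL : P →ₗ[WittVector p S] P := L.subtype ∘ₗ Submodule.projectionOnto L T hLT
  let eT : P →ₗ[WittVector p S] P := T.subtype ∘ₗ Submodule.projectionOnto T L hLT.symm
  have hadd : ∀ x, eL x + eT x = x := fun x =>
    Submodule.projection_add_projection_eq_self hLT x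
  have heLl : ∀ l : L, eL l = l := fun l => by simp [eL]
  have heLt : ∀ t : T, eL t = 0 := fun t => by simp [eL]
  have heid : ∀ x, eL (eL x) = eL x := fun x => heLl _
  let φ := phi D L T hLT hQ
  let EL := BC.map Wf eL
  have hEid : ∀ z, EL (EL z) = EL z := by
    intro z
    refine LinearMap.congr_fun (f := EL ∘ₗ EL) (g := EL) (BC.ext _ fun x => ?_) z
    simp [EL, heid]
  have hspan : Submodule.span (WittVector p R) (Set.range (bcEndo f φ)) = ⊤ := by
    rw [eq_top_iff]
    rintro z -
    induction z using BC.induction_on Wf with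
    | zero => exact Submodule.zero_mem _
    | tmul b x =>
      rw [BC.tmul_eq_smul_tmul_one]
      refine Submodule.smul_mem _ _ ?_
      have hx : x ∈ Submodule.span (WittVector p S) (Set.range φ) := by
        rw [span_range_phi]; exact Submodule.mem_top
      refine Submodule.span_induction (p := fun x _ => BC.tmul Wf 1 x ∈ _) ?_ ?_ ?_ ?_ hx
      · rintro _ ⟨y, rfl⟩
        exact Submodule.subset_span ⟨BC.tmul Wf 1 y, by rw [bcEndo_tmul, map_one]⟩
      · rw [BC.tmul_zero]; exact Submodule.zero_mem _
      · intro a b _ _ ha hb; rw [BC.tmul_add]; exact Submodule.add_mem _ ha hb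
      · intro a x _ hx
        rw [← BC.tmul_apply_eq, BC.tmul_eq_smul_tmul_one]
        exact Submodule.smul_mem _ _ hx
    | add a b ha hb => exact Submodule.add_mem _ ha hb
  obtain ⟨E, hEQ, hEV, hEF⟩ := exists_display EL hEid (bcEndo f φ) hspan
  have hETQ : ∀ t : T, BC.tmul Wf 1 (t : P) ∈ LinearMap.range (LinearMap.id - EL) := fun t =>
    ⟨BC.tmul Wf 1 (t : P), by simp [EL, heLt]⟩
  have hQeq : E.Q = LinearMap.ker (bcQuotMap f D.Q) := by
    have hIVR : IV p R • (⊤ : Submodule (WittVector p R) (BC Wf P)) ≤ LinearMap.ker (bcQuotMap f D.Q) := by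
      rw [Submodule.smul_le]
      intro r hr z _
      rw [LinearMap.mem_ker, map_smulₛₗ]
      rw [IV_eq_ker, RingHom.mem_ker] at hr
      rw [hr, zero_smul]
    refine le_antisymm ?_ fun z hz => ?_
    · rw [hEQ]
      refine sup_le ?_ ((Submodule.smul_mono le_rfl le_top).trans hIVR)
      rintro _ ⟨z, rfl⟩
      induction z using BC.induction_on Wf with
      | zero => rw [map_zero]; exact Submodule.zero_mem _
      | tmul b x =>
        rw [show EL (BC.tmul Wf b x) = BC.tmul Wf b (eL x) from BC.map_tmul _ _ _ _]
        exact tmul_mem f D b (le_Q D L T hQ (Submodule.coe_mem _))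
      | add a b ha hb => rw [map_add]; exact Submodule.add_mem _ ha hb
    · let ET := BC.map Wf eT
      let c : WittVector p R →+* R := WittVector.constantCoeff
      haveI : RingHomCompTriple Wf c (c.comp Wf) := ⟨rfl⟩
      have hker : D.Q ≤ LinearMap.ker ((BC.ι c (BC Wf P)).comp ((BC.ι Wf P).comp eT)) := by
        rw [hQ]
        refine sup_le (fun l hl => ?_) ?_
        · simp only [LinearMap.mem_ker, LinearMap.comp_apply]
          rw [show eT l = 0 by simp [eT, Submodule.projectionOnto_apply_right hLT.symm ⟨l, hl⟩]]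
          simp
        · rw [Submodule.smul_le]
          intro r hr t _
          rw [LinearMap.mem_ker, map_smulₛₗ]
          rw [IV_eq_ker, RingHom.mem_ker] at hr
          have h1 : c (Wf r) = f (WittVector.constantCoeff r) := rfl
          rw [RingHom.comp_apply, h1, hr, map_zero, zero_smul]
      let Ψ := BC.lift (c.comp Wf) (D.Q.liftQ _ hker)
      have hET' : ∀ (b : WittVector p R) (x : P), ET (BC.tmul Wf b x) = b • BC.ι Wf P (eT x) := fun b x =>
        (BC.map_tmul Wf eT b x).trans (BC.tmul_eq_smul_tmul_one Wf b (eT x))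
      have hΨ : ∀ z, Ψ (bcQuotMap f D.Q z) = BC.ι c _ (ET z) := by
        intro z
        induction z using BC.induction_on Wf with
        | zero => simp only [map_zero]
        | tmul b x =>
          rw [bcQuotMap_tmul, BC.lift_tmul, Submodule.mkQ_apply, Submodule.liftQ_apply, hET',
            LinearMap.map_smulₛₗ, LinearMap.comp_apply, LinearMap.comp_apply]
        | add a b ha hb => simp only [map_add, ha, hb]
      have h0 : BC.ι c _ (ET z) = 0 := by rw [← hΨ, LinearMap.mem_ker.1 hz, map_zero]
      have h1 := mem_of_ι_eq_zero c (fun r => WittVector.teichmuller p r)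
        (fun r => WittVector.teichmuller_coeff_zero p r) (ET z) h0
      rw [← IV_eq_ker] at h1
      have hETz : ET z = z - EL z := by
        refine LinearMap.congr_fun (f := ET) (g := LinearMap.id - EL) (BC.ext _ fun x => ?_) z
        simp only [ET, EL, LinearMap.sub_apply, LinearMap.id_apply, BC.map_tmul]
        conv_rhs => rw [← hadd x, BC.tmul_add]
        simp [map_add, heid, show eL (eT x) = 0 from heLt _]
      rw [hEQ]
      refine Submodule.mem_sup.2 ⟨EL z, ⟨z, rfl⟩, z - EL z, ?_, add_sub_cancel _ _⟩
      have h2 : (LinearMap.id - EL : BC Wf P →ₗ[WittVector p R] BC Wf P) (ET z) ∈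
          (IV p R • (⊤ : Submodule (WittVector p R) (BC Wf P))).map (LinearMap.id - EL : BC Wf P →ₗ[WittVector p R] BC Wf P) :=
        Submodule.mem_map_of_mem h1
      rw [Submodule.map_smul'', Submodule.map_top] at h2
      convert h2 using 1
      rw [hETz]
      simp [hEid]
  have hF : ∀ (w : WittVector p R) (x : P),
      E.F (BC.tmul Wf w x) = BC.tmul Wf (WittVector.frobenius w) (D.F x) := fun w x => by
    rw [hEF, show EL (BC.tmul Wf w x) = BC.tmul Wf w (eL x) from BC.map_tmul _ _ _ _]
    have h1 : BC.tmul Wf w x - BC.tmul Wf w (eL x) = BC.tmul Wf w (eT x) := by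
      conv_lhs => rw [← hadd x, BC.tmul_add]
      simp [map_add, heid, show eL (eT x) = 0 from heLt _]
    rw [h1, bcEndo_tmul, bcEndo_tmul]
    have h2 : (p : WittVector p R) • BC.tmul Wf (WittVector.frobenius w) (φ (eL x)) =
        BC.tmul Wf (WittVector.frobenius w) ((p : WittVector p S) • φ (eL x)) := by
      rw [← BC.tmul_mul_apply, map_natCast, BC.smul_tmul, mul_comm]
    rw [h2, ← BC.tmul_add]
    congr 1
    rw [show φ (eT x) = D.F (eT x) from phi_right D L T hLT hQ _]
    conv_rhs => rw [← hadd x, map_add]
    congr 1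
    rw [F_eq_Vinv D (eL x), show φ (eL x) = D.Vinv _ from phi_left D L T hLT hQ _,
      ← WittVector.frobenius_verschiebung (1 : WittVector p S) |>.trans (one_mul _), ← map_smulₛₗ]
    rfl
  have hV0 : ∀ (w : WittVector p R) (x : P) (h : BC.tmul Wf (WittVector.verschiebung w) x ∈ E.Q),
      E.Vinv ⟨_, h⟩ = BC.tmul Wf w (D.F x) := fun w x h => by
    have h1 := E.Vinv_verschiebung_smul w (BC.tmul Wf 1 x)
    rw [hF, map_one] at h1
    refine Eq.trans ?_ (h1.trans (BC.tmul_eq_smul_tmul_one _ _ _).symm)
    exact congrArg E.Vinv (Subtype.ext (BC.tmul_eq_smul_tmul_one _ _ _))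
  refine ⟨E, ⟨hQeq, hF, ?_, hV0⟩, fun E' h' => ?_⟩
  · intro w y h
    have key : ∀ y : D.Q, E.Vinv ⟨BC.tmul Wf w (y : P), hQeq ▸ tmul_mem f D w y.2⟩ =
        BC.tmul Wf (WittVector.frobenius w) (D.Vinv y) := by
      refine Q_induction D L T hLT hQ (fun l => ?_) (fun a t => ?_) (fun x y hx hy => ?_)
      · have h1 : EL (BC.tmul Wf w (l : P)) = BC.tmul Wf w (l : P) := by simp [EL, heLl]
        have h2 := hEV (BC.tmul Wf w (l : P)) (by rw [h1]; exact hQeq ▸ tmul_mem f D w (le_Q D L T hQ l.2))
        simp only [h1] at h2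
        rw [bcEndo_tmul] at h2
        rw [← phi_left D L T hLT hQ l]
        exact h2
      · have h1 : BC.tmul Wf w (WittVector.verschiebung a • (t : P)) =
            BC.tmul Wf (WittVector.verschiebung (WittVector.frobenius w * WittVector.map f a)) (t : P) := by
          rw [← BC.tmul_mul_apply, map_verschiebung_apply, mul_comm (WittVector.frobenius w),
            WittVector.verschiebung_mul_frobenius, mul_comm]
        rw [D.Vinv_verschiebung_smul]
        refine Eq.trans ?_ ((hV0 _ (t : P) (hQeq ▸ tmul_verschiebung_mem f D _ _)).trans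
          (BC.tmul_mul_apply Wf (WittVector.frobenius w) a _))
        exact congrArg E.Vinv (Subtype.ext h1)
      · rw [map_add, BC.tmul_add, ← hx, ← hy, ← map_add]
        exact congrArg E.Vinv (Subtype.ext (by simp [BC.tmul_add]))
    exact key y
  · refine display_ext (h'.Q_eq.trans hQeq.symm) (fun z => ?_) fun z hz hz' => ?_
    · induction z using BC.induction_on Wf with
      | zero => simp only [map_zero]
      | tmul b x => rw [h'.F_tmul, hF]
      | add a b ha hb => rw [map_add, map_add, ha, hb]
    · have hle : E.Q ≤ E'.Q := (h'.Q_eq.trans hQeq.symm).ge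
      suffices hall : ∀ z : E.Q, E'.Vinv (Submodule.inclusion hle z) = E.Vinv z from hall ⟨z, hz'⟩
      refine Q_induction E _ _ ?_ hEQ (fun l => ?_) (fun a t => ?_) (fun x y hx hy => by
        rw [map_add, map_add, map_add, hx, hy])
      · have hk : LinearMap.ker EL = LinearMap.range (LinearMap.id - EL) := by
          refine le_antisymm (fun z hz => ⟨z, by simp [LinearMap.mem_ker.1 hz]⟩) ?_
          rintro _ ⟨z, rfl⟩
          simp [hEid]
        exact hk ▸ LinearMap.IsIdempotentElem.isCompl (f := EL) (LinearMap.ext hEid)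
      · obtain ⟨_, z, rfl⟩ := l
        induction z using BC.induction_on Wf with
        | zero =>
          simp only [map_zero]
          exact (map_zero E'.Vinv).trans (map_zero E.Vinv).symm
        | tmul b x =>
          have h1 : EL (BC.tmul Wf b x) = BC.tmul Wf b (eL x) := BC.map_tmul _ _ _ _
          have h2 := h'.Vinv_tmul b ⟨eL x, le_Q D L T hQ (Submodule.coe_mem _)⟩
            (h'.Q_eq ▸ tmul_mem f D b (le_Q D L T hQ (Submodule.coe_mem _)))
          have h3 := hEV (BC.tmul Wf b x) (hEQ ▸ Submodule.mem_sup_left ⟨_, rfl⟩)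
          simp only [h1] at h3
          rw [bcEndo_tmul] at h3
          rw [show φ (eL x) = D.Vinv _ from phi_left D L T hLT hQ _] at h3
          exact (congrArg E'.Vinv (Subtype.ext h1)).trans
            ((h2.trans h3.symm).trans (congrArg E.Vinv (Subtype.ext h1.symm)))
        | add a b ha hb =>
          refine Eq.trans ?_ ((congrArg₂ (· + ·) ha hb).trans ?_)
          · rw [← map_add]; exact congrArg E'.Vinv (Subtype.ext (map_add EL a b))
          · rw [← map_add]; exact congrArg E.Vinv (Subtype.ext (map_add EL a b).symm)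
      · have hFeq : E'.F (t : BC Wf P) = E.F t := by
          generalize (t : BC Wf P) = z
          induction z using BC.induction_on Wf with
          | zero => simp only [map_zero]
          | tmul b x => rw [h'.F_tmul, hF]
          | add a b ha hb => rw [map_add, map_add, ha, hb]
        rw [E.Vinv_verschiebung_smul, ← hFeq, ← E'.Vinv_verschiebung_smul]
        rfl

end Groth.Agent.DispLib
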