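import Groth.Agent.DispLib.LevelOne
import Groth.Agent.S14855

/-!
# Modules over Witt vectors and their truncations
-/

universe u v

namespace Groth.Agent.DispLib

variable {p : ℕ} [Fact p.Prime] {R : Type u} [CommRing R]

local notation "In" => fun n => RingHom.ker (WittVector.truncate (p := p) (R := R) n)

theorem ker_truncate_anti {m n : ℕ} (h : m ≤ n) :
    RingHom.ker (WittVector.truncate (p := p) (R := R) n) ≤ RingHom.ker (WittVector.truncate (p := p) (R := R) m) :=
  fun x hx => by
    rw [WittVector.mem_ker_truncate] at hx ⊢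
    exact fun i hi => hx i (hi.trans_le h)

theorem eq_zero_of_mem_all {x : WittVector p R}
    (h : ∀ n, x ∈ RingHom.ker (WittVector.truncate (p := p) (R := R) n)) : x = 0 :=
  WittVector.ext fun i => by
    rw [WittVector.zero_coeff]
    exact WittVector.mem_ker_truncate i.succ x |>.1 (h (i + 1)) i (Nat.lt_succ_self i)

/-- A compatible family modulo the truncation ideals has a limit. -/
theorem exists_limit_of_compat (a : ℕ → WittVector p R)
    (h : ∀ n, a (n + 1) - a n ∈ RingHom.ker (WittVector.truncate (p := p) (R := R) n)) :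
    ∃ w, ∀ n, w - a n ∈ RingHom.ker (WittVector.truncate (p := p) (R := R) n) := by
  have h' : ∀ n m, n ≤ m → WittVector.truncate n (a m) = WittVector.truncate (p := p) (R := R) n (a n) := by
    intro n m hnm
    induction m, hnm using Nat.le_induction with
    | base => rfl
    | succ m hm ih =>
      rw [← ih, ← sub_eq_zero, ← map_sub]
      exact ker_truncate_anti hm (h m)
  refine ⟨WittVector.mk p fun i => (a (i + 1)).coeff i, fun n => ?_⟩
  rw [RingHom.mem_ker, map_sub, sub_eq_zero]
  refine TruncatedWittVector.ext fun i => ?_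
  rw [WittVector.coeff_truncate, WittVector.coeff_truncate, WittVector.coeff_mk]
  have h2 := congrArg (fun z => TruncatedWittVector.coeff (⟨i, Nat.lt_succ_self i⟩ : Fin ((i : ℕ) + 1)) z)
    (h' ((i : ℕ) + 1) n i.2)
  simp only [WittVector.coeff_truncate] at h2
  exact h2.symm

variable {P : Type v} [AddCommGroup P] [Module (WittVector p R) P]

theorem projective_mod_ker [Module.Finite (WittVector p R) P] [Module.Projective (WittVector p R) P]
    (J : Ideal (WittVector p R)) :
    Module.Projective (WittVector p R ⧸ J) (P ⧸ J • (⊤ : Submodule (WittVector p R) P)) := by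
  obtain ⟨N, π, hπ⟩ := Module.Finite.exists_fin' (WittVector p R) P
  obtain ⟨ι, hι⟩ := Module.projective_lifting_property π LinearMap.id hπ
  have hrec : ∀ x : P, x = ∑ j, ι x j • π (Pi.single j 1) := fun x => by
    conv_lhs => rw [← LinearMap.id_apply (R := WittVector p R) x, ← hι, LinearMap.comp_apply,
      pi_eq_sum_univ' (ι x), map_sum]
    simp only [map_smul]
  refine projective_mod_smul_top J ((Algebra.linearMap (WittVector p R) (WittVector p R ⧸ J)).compLeft (Fin N) ∘ₗ ι)
    (fun j => π (Pi.single j 1)) (fun x c hc => ?_)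
  have h1 : x - ∑ j, c j • π (Pi.single j 1) = ∑ j, (ι x j - c j) • π (Pi.single j 1) := by
    simp only [sub_smul, Finset.sum_sub_distrib, ← hrec x]
  rw [h1]
  exact Submodule.sum_mem _ fun j _ => Submodule.smul_mem_smul (Ideal.Quotient.eq.1 (hc j).symm) Submodule.mem_top

theorem separated_of_projective [Module.Finite (WittVector p R) P] [Module.Projective (WittVector p R) P] :
    (⨅ n : ℕ, RingHom.ker (WittVector.truncate (p := p) (R := R) n) • (⊤ : Submodule (WittVector p R) P)) = ⊥ := by
  obtain ⟨N, π, hπ⟩ := Module.Finite.exists_fin' (WittVector p R) P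
  obtain ⟨ι, hι⟩ := Module.projective_lifting_property π LinearMap.id hπ
  rw [eq_bot_iff]
  intro x hx
  have h : ι x = 0 := funext fun j => eq_zero_of_mem_all fun n => by
    refine Submodule.smul_induction_on (Submodule.mem_iInf _ |>.1 hx n) (fun r hr v _ => ?_) (fun u v hu hv => ?_)
    · rw [map_smul]; exact Ideal.mul_mem_right _ _ hr
    · rw [map_add]; exact Ideal.add_mem _ hu hv
  rw [Submodule.mem_bot, ← LinearMap.id_apply (R := WittVector p R) x, ← hι, LinearMap.comp_apply, h, map_zero]

/-- Generators modulo `IV` generate modulo every truncation ideal when `p` is nilpotent. -/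
theorem exists_pow_le (hp : IsNilpotent (p : R)) (n : ℕ) :
    ∃ k, RingHom.ker (WittVector.constantCoeff : WittVector p R →+* R) ^ k ≤
      RingHom.ker (WittVector.truncate (p := p) (R := R) n) := by
  obtain ⟨c, hc⟩ := hp
  refine ⟨c * n + 1, ?_⟩
  rw [Groth.Agent.S14855.ker_pow]
  refine Ideal.mul_le_left.trans ?_
  rw [Ideal.span_singleton_pow, Ideal.span_singleton_le_iff_mem]
  exact Groth.Agent.S14855.mem_ker_truncate_of_pow c hc n

theorem finite_projective_of_truncations (hp : IsNilpotent (p : R))
    (hsep : (⨅ n : ℕ, RingHom.ker (WittVector.truncate (p := p) (R := R) n) • (⊤ : Submodule (WittVector p R) P)) = ⊥)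
    (hn : ∀ n : ℕ, Module.Finite (WittVector p R ⧸ RingHom.ker (WittVector.truncate (p := p) (R := R) n))
        (P ⧸ RingHom.ker (WittVector.truncate (p := p) (R := R) n) • (⊤ : Submodule (WittVector p R) P)) ∧
      Module.Projective (WittVector p R ⧸ RingHom.ker (WittVector.truncate (p := p) (R := R) n))
        (P ⧸ RingHom.ker (WittVector.truncate (p := p) (R := R) n) • (⊤ : Submodule (WittVector p R) P))) :
    Module.Finite (WittVector p R) P ∧ Module.Projective (WittVector p R) P := by
  classical
  set I : ℕ → Ideal (WittVector p R) := fun n => RingHom.ker (WittVector.truncate (p := p) (R := R) n) with hI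
  set IP : ℕ → Submodule (WittVector p R) P := fun n => I n • (⊤ : Submodule (WittVector p R) P) with hIP
  have hanti : ∀ {m n : ℕ}, m ≤ n → IP n ≤ IP m := fun h => Submodule.smul_mono (ker_truncate_anti h) le_rfl
  -- generators modulo `IV`
  have hI1 : I 1 = RingHom.ker (WittVector.constantCoeff : WittVector p R →+* R) := by
    refine Ideal.ext fun x => ?_
    rw [hI, WittVector.mem_ker_truncate, RingHom.mem_ker]
    exact ⟨fun h => h 0 Nat.one_pos, fun h i hi => by rw [Nat.lt_one_iff.1 hi]; exact h⟩
  obtain ⟨N, g, hg⟩ := @Module.Finite.exists_fin (WittVector p R ⧸ I 1) (P ⧸ IP 1) _ _ _ (hn 1).1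
  choose x hx using fun j => (IP 1).mkQ_surjective (g j)
  let S := Submodule.span (WittVector p R) (Set.range x)
  have hS1 : ⊤ ≤ S ⊔ IP 1 := fun y _ => by
    have hy : (IP 1).mkQ y ∈ Submodule.span (WittVector p R ⧸ I 1) (Set.range g) := hg ▸ Submodule.mem_top
    obtain ⟨c, hc⟩ := (Submodule.mem_span_range_iff_exists_fun _).1 hy
    choose c' hc' using fun j => Ideal.Quotient.mk_surjective (c j)
    refine Submodule.mem_sup.2 ⟨∑ j, c' j • x j, ?_, y - ∑ j, c' j • x j, ?_, add_sub_cancel _ _⟩
    · exact Submodule.sum_mem _ fun j _ => Submodule.smul_mem _ _ (Submodule.subset_span ⟨j, rfl⟩)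
    · rw [← Submodule.Quotient.mk_eq_zero, ← Submodule.mkQ_apply, map_sub, sub_eq_zero, ← hc, map_sum]
      refine Finset.sum_congr rfl fun j _ => ?_
      rw [← hc', ← hx]
      rfl
  have hS : ∀ n, ⊤ ≤ S ⊔ IP n := by
    intro n
    have hk : ∀ k, ⊤ ≤ S ⊔ (I 1 ^ k) • (⊤ : Submodule (WittVector p R) P) := by
      intro k
      induction k with
      | zero => rw [pow_zero, Ideal.one_eq_top, Submodule.top_smul]; exact le_sup_right
      | succ k ih =>
        refine ih.trans (sup_le le_sup_left ?_)
        refine (Submodule.smul_mono le_rfl hS1).trans ?_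
        rw [Submodule.smul_sup]
        refine sup_le ((Submodule.smul_le_right).trans le_sup_left) ?_
        rw [hIP, ← Submodule.smul_assoc, smul_eq_mul, ← pow_succ]
        exact le_sup_right
    obtain ⟨k, hk'⟩ := exists_pow_le (R := R) hp n
    exact (hk k).trans (sup_le le_sup_left ((Submodule.smul_mono (hI1 ▸ hk') le_rfl).trans le_sup_right))
  let π : (Fin N → WittVector p R) →ₗ[WittVector p R] P := Fintype.linearCombination (WittVector p R) x
  have hrep : ∀ n y, ∃ c, π c - y ∈ IP n := fun n y => by
    obtain ⟨s, hs, r, hr, rfl⟩ := Submodule.mem_sup.1 (hS n (Submodule.mem_top (x := y)))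
    obtain ⟨c, rfl⟩ := (Submodule.mem_span_range_iff_exists_fun _).1 hs
    exact ⟨c, by simpa [π, Fintype.linearCombination_apply] using (IP n).neg_mem hr⟩
  -- reductions
  let A : ℕ → Type u := fun n => WittVector p R ⧸ I n
  have hπA : ∀ n, ∀ c : Fin N → WittVector p R, (∀ j, c j ∈ I n) → π c ∈ IP n := fun n c hc => by
    rw [Fintype.linearCombination_apply]
    exact Submodule.sum_mem _ fun j _ => Submodule.smul_mem_smul (hc j) Submodule.mem_top
  have hsec : ∀ n, ∃ t : P →ₗ[WittVector p R] (Fin N → WittVector p R ⧸ I n),
      ∀ y c, (∀ j, Ideal.Quotient.mk (I n) (c j) = t y j) → π c - y ∈ IP n := by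
    intro n
    haveI := (hn n).2
    let πn : (Fin N → WittVector p R ⧸ I n) →ₗ[WittVector p R ⧸ I n] P ⧸ IP n :=
      Fintype.linearCombination _ fun j => (IP n).mkQ (x j)
    have hπn : ∀ c : Fin N → WittVector p R, πn (fun j => Ideal.Quotient.mk (I n) (c j)) = (IP n).mkQ (π c) := fun c => by
      simp only [πn, π, Fintype.linearCombination_apply, map_sum]
      exact Finset.sum_congr rfl fun j _ => rfl
    have hsurj : Function.Surjective πn := fun z => by
      obtain ⟨y, rfl⟩ := (IP n).mkQ_surjective z
      obtain ⟨c, hc⟩ := hrep n y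
      exact ⟨_, (hπn c).trans ((Submodule.Quotient.eq _).2 hc)⟩
    obtain ⟨t, ht⟩ := Module.projective_lifting_property πn LinearMap.id hsurj
    refine ⟨{ toFun := fun y => t ((IP n).mkQ y)
              map_add' := fun a b => by rw [map_add, map_add]
              map_smul' := fun r a => by
                rw [map_smul]
                refine (map_smul t (Ideal.Quotient.mk (I n) r) ((IP n).mkQ a)).trans ?_
                rfl }, fun y c hc => ?_⟩
    rw [← Submodule.Quotient.eq, ← Submodule.mkQ_apply, ← hπn, funext hc]
    exact LinearMap.congr_fun ht ((IP n).mkQ y)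
  choose t ht using hsec
  let red : ∀ n, (Fin N → WittVector p R ⧸ I (n + 1)) →ₗ[WittVector p R] (Fin N → WittVector p R ⧸ I n) := fun n =>
    (Submodule.factor (ker_truncate_anti (p := p) (R := R) n.le_succ)).compLeft (Fin N)
  have hstep : ∀ n (s : P →ₗ[WittVector p R] (Fin N → WittVector p R ⧸ I n)),
      (∀ y c, (∀ j, Ideal.Quotient.mk (I n) (c j) = s y j) → π c - y ∈ IP n) →
      ∃ s' : P →ₗ[WittVector p R] (Fin N → WittVector p R ⧸ I (n + 1)),
        (∀ y c, (∀ j, Ideal.Quotient.mk (I (n + 1)) (c j) = s' y j) → π c - y ∈ IP (n + 1)) ∧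
        ∀ y, red n (s' y) = s y := by
    intro n s hs
    let d : P →ₗ[WittVector p R] (Fin N → WittVector p R ⧸ I n) := s - red n ∘ₗ t (n + 1)
    choose z hz using fun j i => Ideal.Quotient.mk_surjective (d (x j) i)
    -- kernel projection applied to the lifts of the correction
    let z' : Fin N → Fin N → WittVector p R ⧸ I (n + 1) := fun j =>
      (fun i => Ideal.Quotient.mk (I (n + 1)) (z j i)) - t (n + 1) (π (z j))
    let μ : Fin N → ((Fin N → WittVector p R ⧸ I (n + 1)) →ₗ[WittVector p R] (Fin N → WittVector p R ⧸ I (n + 1))) := fun j =>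
      { toFun := fun a i => a j * z' j i
        map_add' := fun a b => funext fun i => add_mul _ _ _
        map_smul' := fun r a => funext fun i => smul_mul_assoc r (a j) (z' j i) }
    let s' : P →ₗ[WittVector p R] (Fin N → WittVector p R ⧸ I (n + 1)) :=
      t (n + 1) + (∑ j, μ j) ∘ₗ t (n + 1)
    refine ⟨s', fun y c hc => ?_, fun y => ?_⟩
    · choose a ha using fun j => Ideal.Quotient.mk_surjective (t (n + 1) y j)
      choose b hb using fun j i => Ideal.Quotient.mk_surjective (t (n + 1) (π (z j)) i)
      let c' : Fin N → WittVector p R := a + ∑ j, a j • (z j - b j)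
      have hc' : ∀ i, Ideal.Quotient.mk (I (n + 1)) (c' i) = s' y i := fun i => by
        simp only [c', s', LinearMap.add_apply, LinearMap.comp_apply, LinearMap.sum_apply, Pi.add_apply,
          Finset.sum_apply, Pi.smul_apply, Pi.sub_apply, map_add, map_sum, smul_eq_mul, map_mul, map_sub,
          ha, hb, μ, z', LinearMap.coe_mk, AddHom.coe_mk]
      have h1 : π c - π c' ∈ IP (n + 1) := by
        rw [← map_sub]
        exact hπA _ _ fun j => by
          rw [Pi.sub_apply, ← Ideal.Quotient.eq_zero_iff_mem, map_sub, hc, hc', sub_self]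
      have h2 : π c' - y ∈ IP (n + 1) := by
        have : π c' - y = (π a - y) + ∑ j, a j • -(π (b j) - π (z j)) := by
          simp only [c', map_add, map_sum, map_smul, map_sub, neg_sub]
          abel
        rw [this]
        exact (IP (n + 1)).add_mem (ht _ y a ha) (Submodule.sum_mem _ fun j _ =>
          Submodule.smul_mem _ _ ((IP (n + 1)).neg_mem (ht _ _ _ (hb j))))
      have h3 := (IP (n + 1)).add_mem h1 h2
      rwa [sub_add_sub_cancel] at h3
    · choose a ha using fun j => Ideal.Quotient.mk_surjective (t (n + 1) y j)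
      have hredz : ∀ j, red n (t (n + 1) (π (z j))) = 0 := fun j => by
        have hπz : π (z j) ∈ IP n := by
          choose b hb using fun i => Ideal.Quotient.mk_surjective (s (x j) i)
          choose c hc using fun i => Ideal.Quotient.mk_surjective (t (n + 1) (x j) i)
          have h1 : π (z j) - π (b - c) ∈ IP n := by
            rw [← map_sub]
            refine hπA _ _ fun i => ?_
            rw [Pi.sub_apply, Pi.sub_apply, ← Ideal.Quotient.eq_zero_iff_mem, map_sub, map_sub, hz, hb]
            have hc2 : Ideal.Quotient.mk (I n) (c i) = red n (t (n + 1) (x j)) i := by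
              show _ = Submodule.factor (ker_truncate_anti (p := p) (R := R) n.le_succ) (t (n + 1) (x j) i)
              rw [← hc i]
              rfl
            rw [hc2]
            exact sub_self _
          have h2 : π (b - c) ∈ IP n := by
            have h3 := (IP n).sub_mem (hs _ b hb) (hanti n.le_succ (ht _ _ c hc))
            rw [sub_sub_sub_cancel_right] at h3
            rwa [map_sub]
          have h4 := (IP n).add_mem h1 h2
          rwa [sub_add_cancel] at h4
        have : ∀ v ∈ IP n, red n (t (n + 1) v) = 0 := fun v hv => by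
          refine Submodule.smul_induction_on hv (fun r hr w _ => ?_) (fun u w hu hw => ?_)
          · rw [map_smul, map_smul]
            funext i
            rw [Pi.smul_apply, Pi.zero_apply, Algebra.smul_def, Ideal.Quotient.algebraMap_eq,
              Ideal.Quotient.eq_zero_iff_mem.2 hr, zero_mul]
          · rw [map_add, map_add, hu, hw, add_zero]
        exact this _ hπz
      funext i
      have hsum : ∀ v, d v i = ∑ j, Ideal.Quotient.mk (I n) ((Classical.choose (hrep n v)) j) * d (x j) i := fun v => by
        obtain hv := Classical.choose_spec (hrep n v)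
        set e := Classical.choose (hrep n v)
        have h0 : ∀ w ∈ IP n, d w = 0 := fun w hw => by
          refine Submodule.smul_induction_on hw (fun r hr u _ => ?_) (fun u u' hu hu' => ?_)
          · funext l
            rw [map_smul, Pi.smul_apply, Pi.zero_apply, Algebra.smul_def, Ideal.Quotient.algebraMap_eq,
              Ideal.Quotient.eq_zero_iff_mem.2 hr, zero_mul]
          · rw [map_add, hu, hu', add_zero]
        have h1 : d v = d (π e) := by
          rw [← sub_eq_zero, ← map_sub]
          exact h0 _ (by simpa using (IP n).neg_mem hv)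
        rw [h1, Fintype.linearCombination_apply, map_sum, Finset.sum_apply]
        refine Finset.sum_congr rfl fun j _ => ?_
        rw [map_smul, Pi.smul_apply, Algebra.smul_def, Ideal.Quotient.algebraMap_eq]
      have hd : d y i = ∑ j, Ideal.Quotient.mk (I n) (a j) * d (x j) i := by
        have hya : y - π a ∈ IP n := by simpa using (IP n).neg_mem (hanti n.le_succ (ht _ y a ha))
        have h1 : d y = d (π a) := by
          rw [← sub_eq_zero, ← map_sub]
          refine Submodule.smul_induction_on hya (fun r hr u _ => ?_) (fun u u' hu hu' => ?_)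
          · funext l
            rw [map_smul, Pi.smul_apply, Pi.zero_apply, Algebra.smul_def, Ideal.Quotient.algebraMap_eq,
              Ideal.Quotient.eq_zero_iff_mem.2 hr, zero_mul]
          · rw [map_add, hu, hu', add_zero]
        rw [h1, Fintype.linearCombination_apply, map_sum, Finset.sum_apply]
        refine Finset.sum_congr rfl fun j _ => ?_
        rw [map_smul, Pi.smul_apply, Algebra.smul_def, Ideal.Quotient.algebraMap_eq]
      have h5 : red n (s' y) i = red n (t (n + 1) y) i + d y i := by
        rw [hd]
        simp only [s', LinearMap.add_apply, LinearMap.comp_apply, LinearMap.sum_apply, map_add, map_sum,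
          Pi.add_apply, Finset.sum_apply]
        congr 1
        refine Finset.sum_congr rfl fun j _ => ?_
        show Submodule.factor (ker_truncate_anti (p := p) (R := R) n.le_succ) (t (n + 1) y j * z' j i) = _
        obtain ⟨w, hw⟩ := Ideal.Quotient.mk_surjective (t (n + 1) (π (z j)) i)
        have hw0 : Ideal.Quotient.mk (I n) w = 0 := by
          refine Eq.trans ?_ ((congr_fun (hredz j) i).trans (Pi.zero_apply i))
          show _ = Submodule.factor (ker_truncate_anti (p := p) (R := R) n.le_succ) (t (n + 1) (π (z j)) i)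
          rw [← hw]
          rfl
        rw [← ha j, show z' j i = Ideal.Quotient.mk (I (n + 1)) (z j i) - t (n + 1) (π (z j)) i from rfl, ← hw,
          ← map_sub, ← map_mul]
        show Ideal.Quotient.mk (I n) (a j * (z j i - w)) = _
        rw [map_mul, map_sub, hw0, sub_zero, hz]
      rw [h5]
      simp [d]
  choose next hnext hred using hstep
  let s : ∀ n, {s : P →ₗ[WittVector p R] (Fin N → WittVector p R ⧸ I n) //
      ∀ y c, (∀ j, Ideal.Quotient.mk (I n) (c j) = s y j) → π c - y ∈ IP n} := fun n =>
    n.rec ⟨t 0, ht 0⟩ (fun n s => ⟨next n s.1 s.2, hnext n s.1 s.2⟩)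
  have hs : ∀ n y, red n ((s (n + 1)).1 y) = (s n).1 y := fun n y => hred n (s n).1 (s n).2 y
  choose rep hrep' using fun n y j => Ideal.Quotient.mk_surjective ((s n).1 y j)
  have hcompat : ∀ y j n, rep (n + 1) y j - rep n y j ∈ I n := fun y j n => by
    rw [← Ideal.Quotient.eq, hrep' n, ← hs]
    exact congrArg (Submodule.factor (ker_truncate_anti (p := p) (R := R) n.le_succ)) (hrep' (n + 1) y j)
  choose w hw using fun y j => exists_limit_of_compat (fun n => rep n y j) (hcompat y j)
  have hwn : ∀ y j n, Ideal.Quotient.mk (I n) (w y j) = (s n).1 y j := fun y j n => by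
    rw [← hrep', Ideal.Quotient.eq]
    exact hw y j n
  have hext : ∀ a b : Fin N → WittVector p R, (∀ n j, Ideal.Quotient.mk (I n) (a j) = Ideal.Quotient.mk (I n) (b j)) → a = b :=
    fun a b h => funext fun j => sub_eq_zero.1 (eq_zero_of_mem_all fun n => Ideal.Quotient.eq.1 (h n j))
  let sec : P →ₗ[WittVector p R] (Fin N → WittVector p R) :=
    { toFun := w
      map_add' := fun a b => hext _ _ fun n j => by
        rw [Pi.add_apply, map_add, hwn, hwn, hwn, map_add]
        rfl
      map_smul' := fun r a => hext _ _ fun n j => by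
        rw [RingHom.id_apply, Pi.smul_apply, smul_eq_mul, map_mul, hwn, hwn, map_smul, Pi.smul_apply,
          Algebra.smul_def, Ideal.Quotient.algebraMap_eq] }
  have hsec' : π ∘ₗ sec = LinearMap.id := LinearMap.ext fun y => by
    have h1 : π (w y) - y ∈ (⨅ n, IP n) := (Submodule.mem_iInf _).2 fun n => (s n).2 y (w y) fun j => hwn y j n
    rw [hsep, Submodule.mem_bot, sub_eq_zero] at h1
    exact h1
  exact ⟨Module.Finite.of_surjective π fun y => ⟨sec y, LinearMap.congr_fun hsec' y⟩,
    Module.Projective.of_split sec π hsec'⟩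

end Groth.Agent.DispLib
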