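import Mathlib.RingTheory.WittVector.Truncated
import Mathlib.RingTheory.AdicCompletion.Basic
import Groth.Agent.DispLib.Truncation

/-!
# `p^u W(R)` is closed when `R` is `p`-torsion free and `p`-adically complete
-/

universe u

namespace Groth.Agent.DispLib

open WittVector

variable {p : ℕ} [Fact p.Prime] {R : Type u} [CommRing R]

/-- Reduction of the first `m` coefficients modulo `p^s`. -/
noncomputable def redPow (m s : ℕ) :
    WittVector p R →+* TruncatedWittVector p m (R ⧸ Ideal.span {(p : R) ^ s}) :=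
  (WittVector.truncate m).comp (WittVector.map (Ideal.Quotient.mk _))

theorem redPow_eq_iff (m s : ℕ) (x y : WittVector p R) :
    redPow m s x = redPow m s y ↔ ∀ i < m, x.coeff i - y.coeff i ∈ Ideal.span {(p : R) ^ s} := by
  rw [TruncatedWittVector.ext_iff]
  simp only [redPow, RingHom.comp_apply, coeff_truncate, map_coeff, Ideal.Quotient.eq]
  exact ⟨fun h i hi => h ⟨i, hi⟩, fun h i => h i i.2⟩

theorem redPow_eq_zero_iff (m s : ℕ) (x : WittVector p R) :
    redPow m s x = 0 ↔ ∀ i < m, x.coeff i ∈ Ideal.span {(p : R) ^ s} := by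
  rw [← map_zero (redPow (p := p) (R := R) m s), redPow_eq_iff]
  simp [WittVector.zero_coeff]

theorem redPow_mono {m s t : ℕ} (h : s ≤ t) {x : WittVector p R} (hx : redPow m t x = 0) :
    redPow m s x = 0 := by
  rw [redPow_eq_zero_iff] at hx ⊢
  exact fun i hi => Ideal.span_singleton_le_span_singleton.2 (pow_dvd_pow _ h) (hx i hi)

variable (hR : ∀ y : R, (p : R) * y = 0 → y = 0)

include hR in
theorem pow_dvd_cancel {i : ℕ} {a : R} {s : ℕ} (h : (p : R) ^ i * a ∈ Ideal.span {(p : R) ^ (s + i)}) :
    a ∈ Ideal.span {(p : R) ^ s} := by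
  obtain ⟨c, hc⟩ := Ideal.mem_span_singleton'.1 h
  refine Ideal.mem_span_singleton'.2 ⟨c, ?_⟩
  have key : ∀ k : ℕ, ∀ y : R, (p : R) ^ k * y = 0 → y = 0 := by
    intro k
    induction k with
    | zero => intro y hy; simpa using hy
    | succ k ih => intro y hy; exact hR _ (ih _ (by rw [← mul_assoc, ← pow_succ]; exact hy))
  rw [← sub_eq_zero]
  refine key i _ ?_
  rw [mul_sub, ← hc, pow_add]; ring

include hR in
theorem coeff_mem_of_ghost (z : WittVector p R) : ∀ i s,
    (∀ l ≤ i, ghostComponent l z ∈ Ideal.span {(p : R) ^ (s + i * (i + 1))}) →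
      z.coeff i ∈ Ideal.span {(p : R) ^ s} := by
  intro i
  induction i using Nat.strong_induction_on with
  | _ i ih =>
    intro s h
    have hsmall : ∀ j < i, z.coeff j ∈ Ideal.span {(p : R) ^ (s + i)} := fun j hj => by
      refine ih j hj _ fun l hl => Ideal.span_singleton_le_span_singleton.2 (pow_dvd_pow _ ?_) (h l (hl.trans hj.le))
      have : j * (j + 1) + i ≤ i * (i + 1) := by nlinarith
      omega
    refine pow_dvd_cancel hR (i := i) ?_
    have hi := h i le_rfl
    rw [ghostComponent_apply, aeval_wittPolynomial, Finset.sum_range_succ, Nat.sub_self, pow_zero, pow_one] at hi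
    have hsum : ∑ j ∈ Finset.range i, (p : R) ^ j * z.coeff j ^ p ^ (i - j) ∈ Ideal.span {(p : R) ^ (s + i)} :=
      Submodule.sum_mem _ fun j hj => Ideal.mul_mem_left _ _
        (Ideal.pow_mem_of_mem _ (hsmall j (Finset.mem_range.1 hj)) _ (pow_pos (Fact.out : p.Prime).pos _))
    have hle : Ideal.span {(p : R) ^ (s + i * (i + 1))} ≤ Ideal.span {(p : R) ^ (s + i)} :=
      Ideal.span_singleton_le_span_singleton.2 (pow_dvd_pow _ (by nlinarith))
    have h2 := Ideal.sub_mem _ (hle hi) hsum
    rwa [add_sub_cancel_left] at h2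

theorem ghost_mem_of_coeff {z : WittVector p R} {m l : ℕ} {I : Ideal R} (hl : l < m)
    (h : ∀ i < m, z.coeff i ∈ I) : ghostComponent l z ∈ I := by
  rw [ghostComponent_apply, aeval_wittPolynomial]
  exact Submodule.sum_mem _ fun j hj => Ideal.mul_mem_left _ _
    (Ideal.pow_mem_of_mem _ (h j (lt_of_le_of_lt (Finset.mem_range_succ_iff.1 hj) hl)) _
      (pow_pos (Fact.out : p.Prime).pos _))

include hR in
theorem redPow_cancel (m u s : ℕ) (x : WittVector p R)
    (h : redPow m (s + m * (m + 1) + u) ((p : WittVector p R) ^ u * x) = 0) : redPow m s x = 0 := by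
  rw [redPow_eq_zero_iff] at h ⊢
  intro i hi
  refine coeff_mem_of_ghost hR x i s fun l hl => ?_
  have h1 := ghost_mem_of_coeff (lt_of_le_of_lt hl hi) h
  rw [map_mul, map_pow, map_natCast] at h1
  refine Ideal.span_singleton_le_span_singleton.2 (pow_dvd_pow _ ?_) (pow_dvd_cancel hR h1)
  have : i * (i + 1) ≤ m * (m + 1) := Nat.mul_le_mul hi.le (by omega)
  omega

variable [IsAdicComplete (Ideal.span {(p : R)}) R]

theorem eq_zero_of_forall_mem {r : R} (h : ∀ s, r ∈ Ideal.span {(p : R) ^ s}) : r = 0 :=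
  IsHausdorff.haus (inferInstance : IsHausdorff (Ideal.span {(p : R)}) R) _ fun n => by
    rw [SModEq.zero, smul_eq_mul, Ideal.mul_top, Ideal.span_singleton_pow]
    exact h n

include hR in
theorem exists_exact_solution (a : WittVector p R) (m u : ℕ)
    (h : ∀ s, ∃ z, redPow m s ((p : WittVector p R) ^ u * z - a) = 0) :
    ∃ x : WittVector p R, ∀ i < m, ((p : WittVector p R) ^ u * x - a).coeff i = 0 := by
  choose z hz using fun s => h (s + m * (m + 1) + u)
  have hc : ∀ s t, s ≤ t → ∀ i < m, (z t).coeff i - (z s).coeff i ∈ Ideal.span {(p : R) ^ s} := by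
    intro s t hst
    rw [← redPow_eq_iff, ← sub_eq_zero, ← map_sub]
    refine redPow_cancel hR m u s _ ?_
    rw [mul_sub, ← sub_sub_sub_cancel_right _ _ a, map_sub, hz s,
      redPow_mono (by omega) (hz t), sub_zero]
  have hl : ∀ i, ∃ l : R, ∀ s, i < m → (z s).coeff i - l ∈ Ideal.span {(p : R) ^ s} := by
    intro i
    by_cases hi : i < m
    · obtain ⟨l, hl⟩ := IsPrecomplete.prec (inferInstance : IsPrecomplete (Ideal.span {(p : R)}) R)
        (f := fun s => (z s).coeff i) (fun {s t} hst => by
          rw [SModEq.sub_mem, smul_eq_mul, Ideal.mul_top, Ideal.span_singleton_pow, ← neg_sub]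
          exact Ideal.neg_mem_iff _ |>.2 (hc s t hst i hi))
      refine ⟨l, fun s _ => ?_⟩
      have := hl s
      rwa [SModEq.sub_mem, smul_eq_mul, Ideal.mul_top, Ideal.span_singleton_pow] at this
    · exact ⟨0, fun s hi' => absurd hi' hi⟩
  choose l hl using hl
  refine ⟨WittVector.mk p l, fun i hi => eq_zero_of_forall_mem (p := p) fun s => ?_⟩
  suffices redPow m s ((p : WittVector p R) ^ u * WittVector.mk p l - a) = 0 from
    (redPow_eq_zero_iff m s _).1 this i hi
  have h1 : redPow m s (WittVector.mk p l) = redPow m s (z s) := by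
    rw [redPow_eq_iff]
    intro j hj
    rw [← neg_sub]
    exact Ideal.neg_mem_iff _ |>.2 (hl j s hj)
  rw [map_sub, map_mul, h1, ← map_mul, ← map_sub]
  exact redPow_mono (by omega) (hz s)

include hR in
theorem closed_span_pow (u : ℕ) :
    (⨅ r : ℕ, ⨅ s : ℕ,
        Ideal.span {(p : WittVector p R) ^ u} ⊔ RingHom.ker (WittVector.truncate (p := p) (R := R) r) ⊔
          RingHom.ker (WittVector.map (p := p) (Ideal.Quotient.mk (Ideal.span {(p : R) ^ s})))) =
      Ideal.span {(p : WittVector p R) ^ u} := by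
  refine le_antisymm (fun a ha => ?_) (le_iInf fun r => le_iInf fun s => le_sup_of_le_left le_sup_left)
  simp only [Ideal.mem_iInf] at ha
  have hex : ∀ r, ∃ x, ∀ i < r, ((p : WittVector p R) ^ u * x - a).coeff i = 0 := fun r =>
    exists_exact_solution hR a r u fun s => by
      obtain ⟨_, hb, k, hk, rfl⟩ := Submodule.mem_sup.1 (ha r s)
      obtain ⟨_, hq, i, hi, rfl⟩ := Submodule.mem_sup.1 hb
      obtain ⟨c, rfl⟩ := Ideal.mem_span_singleton'.1 hq
      refine ⟨c, ?_⟩
      have hi' : redPow r s i = 0 := by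
        rw [redPow_eq_zero_iff]
        intro j hj
        rw [(mem_ker_truncate r i).1 hi j hj]
        exact Ideal.zero_mem _
      have hk' : redPow r s k = 0 := by rw [redPow, RingHom.comp_apply, RingHom.mem_ker.1 hk, map_zero]
      rw [mul_comm, map_sub, map_add, map_add, hi', hk']
      simp
  choose x hx using hex
  have hcompat : ∀ r, x (r + 1) - x r ∈ RingHom.ker (WittVector.truncate (p := p) (R := R) r) := by
    intro r
    rw [mem_ker_truncate]
    intro i hi
    refine eq_zero_of_forall_mem (p := p) fun s => (redPow_eq_zero_iff r s _).1 (redPow_cancel hR r u s _ ?_) i hi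
    rw [mul_sub, ← sub_sub_sub_cancel_right _ _ a, map_sub,
      (redPow_eq_zero_iff r _ _).2 fun j hj => by rw [hx (r + 1) j (by omega)]; exact Ideal.zero_mem _,
      (redPow_eq_zero_iff r _ _).2 fun j hj => by rw [hx r j hj]; exact Ideal.zero_mem _, sub_zero]
  obtain ⟨w, hw⟩ := exists_limit_of_compat x hcompat
  refine Ideal.mem_span_singleton'.2 ⟨w, ?_⟩
  rw [mul_comm, ← sub_eq_zero]
  refine eq_zero_of_mem_all fun r => ?_
  rw [show (p : WittVector p R) ^ u * w - a = (p : WittVector p R) ^ u * (w - x r) + ((p : WittVector p R) ^ u * x r - a) by ring]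
  exact Ideal.add_mem _ (Ideal.mul_mem_left _ _ (hw r)) ((mem_ker_truncate r _).2 (hx r))

end Groth.Agent.DispLib
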