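import Groth.Prelude.Def_Dieu
import Mathlib.RingTheory.WittVector.Basic
import Mathlib.RingTheory.TensorProduct.IncludeLeftSubRight
import Mathlib.RingTheory.Flat.Basic

/-!
# Faithfully flat descent for modules over Witt vectors
-/

universe u v

namespace Groth.Agent.DispLib

open Dieu

variable {p : ℕ} [Fact p.Prime] {S R : Type u} [CommRing S] [CommRing R] [Algebra S R]
  [Module.FaithfullyFlat S R]

local notation "gW" => (WittVector.map (algebraMap S R) : WittVector p S →+* WittVector p R)
local notation "i₁" => (WittVector.map (Algebra.TensorProduct.includeLeftRingHom : R →+* TensorProduct S R R) :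
  WittVector p R →+* WittVector p (TensorProduct S R R))
local notation "i₂" => (WittVector.map ((Algebra.TensorProduct.includeRight : R →ₐ[S] TensorProduct S R R) : R →+* TensorProduct S R R) :
  WittVector p R →+* WittVector p (TensorProduct S R R))

/-- `W(S) → W(R) ⇉ W(R ⊗ R)` is an equalizer diagram. -/
theorem witt_descent {z : WittVector p R} (h : i₁ z = i₂ z) : ∃ x : WittVector p S, gW x = z := by
  have hn : ∀ n, ∃ s : S, algebraMap S R s = z.coeff n := fun n => by
    refine ((Algebra.IsEffective.of_faithfullyFlat (R := S) (S := R)) (z.coeff n)).1 ?_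
    rw [Algebra.TensorProduct.includeLeftSubRight_apply, sub_eq_zero]
    have := congrArg (fun w => WittVector.coeff w n) h
    simp only [WittVector.map_coeff] at this
    exact this
  choose s hs using hn
  exact ⟨WittVector.mk p s, WittVector.ext fun n => by rw [WittVector.map_coeff, WittVector.coeff_mk, hs]⟩

variable {M : Type v} [AddCommGroup M] [Module (WittVector p S) M] [Module.Flat (WittVector p S) M]

theorem bc_descent (e : (i₁).comp gW = (i₂).comp gW) :
    Function.Injective (BC.ι gW M) ∧
      ∀ z : BC gW M, (BC.castHom e (BC.push gW i₁ z) = BC.push gW i₂ z ↔ z ∈ Set.range (BC.ι gW M)) := by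
  let a : WittVector p S →ₗ[WittVector p S] Res gW :=
    { toFun := fun x => Res.mk gW (gW x)
      map_add' := fun x y => by rw [map_add, Res.mk_add]
      map_smul' := fun x y => by rw [RingHom.id_apply, Res.smul_mk, smul_eq_mul, map_mul] }
  let j₁ : Res gW →ₗ[WittVector p S] Res ((i₂).comp gW) :=
    { toFun := fun t => Res.mk _ (i₁ t.val)
      map_add' := fun x y => by rw [Res.val_add, map_add, Res.mk_add]
      map_smul' := fun x y => by
        rw [RingHom.id_apply, Res.smul_mk, Res.val_smul, map_mul, ← RingHom.comp_apply, e] }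
  let j₂ : Res gW →ₗ[WittVector p S] Res ((i₂).comp gW) :=
    { toFun := fun t => Res.mk _ (i₂ t.val)
      map_add' := fun x y => by rw [Res.val_add, map_add, Res.mk_add]
      map_smul' := fun x y => by
        rw [RingHom.id_apply, Res.smul_mk, Res.val_smul, map_mul, ← RingHom.comp_apply] }
  have hinj : Function.Injective a := fun x y h =>
    WittVector.map_injective _ (FaithfulSMul.algebraMap_injective S R) (congrArg Res.val h)
  have hex : Function.Exact a (j₁ - j₂) := by
    intro t
    constructor
    · intro h
      rw [LinearMap.sub_apply, sub_eq_zero] at h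
      obtain ⟨x, hx⟩ := witt_descent (z := t.val) (congrArg Res.val h)
      exact ⟨x, Res.ext _ hx⟩
    · rintro ⟨x, rfl⟩
      rw [LinearMap.sub_apply, sub_eq_zero]
      exact Res.ext _ (RingHom.congr_fun e x)
  have hι : ∀ x : M, BC.ι gW M x = (a.rTensor M) (1 ⊗ₜ[WittVector p S] x) := fun x => by
    rw [LinearMap.rTensor_tmul, BC.ι_apply]
    show BC.tmul gW 1 x = BC.tmul gW (gW 1) x
    rw [map_one]
  refine ⟨fun x y h => ?_, fun z => ?_⟩
  · have h' : (a.rTensor M) (1 ⊗ₜ[WittVector p S] x) = (a.rTensor M) (1 ⊗ₜ[WittVector p S] y) :=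
      ((hι x).symm.trans h).trans (hι y)
    have h2 := congrArg (TensorProduct.lid (WittVector p S) M)
      (Module.Flat.rTensor_preserves_injective_linearMap a hinj h')
    simpa using h2
  · have h1 : BC.castHom e (BC.push gW i₁ z) = j₁.rTensor M z := by
      induction z using BC.induction_on gW with
      | zero => simp only [map_zero]; exact (map_zero (j₁.rTensor M)).symm
      | tmul b x => rw [BC.push_tmul, BC.castHom_tmul]; rfl
      | add u v hu hv => simp only [map_add, hu, hv]; exact (map_add (j₁.rTensor M) u v).symm
    have h2 : BC.push gW i₂ z = j₂.rTensor M z := by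
      clear h1
      induction z using BC.induction_on gW with
      | zero => simp only [map_zero]; exact (map_zero (j₂.rTensor M)).symm
      | tmul b x => rw [BC.push_tmul]; rfl
      | add u v hu hv =>
        exact (map_add (BC.push gW i₂) u v).trans ((congrArg₂ (· + ·) hu hv).trans (map_add (j₂.rTensor M) u v).symm)
    rw [h1, h2]
    have h3 := Module.Flat.rTensor_exact M hex z
    rw [LinearMap.rTensor_sub, LinearMap.sub_apply] at h3
    refine Iff.trans (sub_eq_zero.symm.trans h3) ⟨?_, ?_⟩
    · rintro ⟨w, rfl⟩
      refine ⟨TensorProduct.lid (WittVector p S) M w, ?_⟩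
      refine (hι _).trans (congrArg (a.rTensor M) ?_)
      rw [← TensorProduct.lid_symm_apply, LinearEquiv.symm_apply_apply]
    · rintro ⟨x, rfl⟩
      exact ⟨1 ⊗ₜ x, (hι x).symm⟩

end Groth.Agent.DispLib
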