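import Mathlib.RingTheory.WittVector.Identities
import Mathlib.RingTheory.WittVector.Frobenius
import Mathlib.RingTheory.WittVector.Teichmuller
import Mathlib.RingTheory.WittVector.Domain
import Mathlib.FieldTheory.Perfect
import Mathlib.Algebra.Module.Torsion.Basic
import Mathlib.RingTheory.Ideal.Quotient.Operations
import Mathlib.Algebra.Module.Projective
import Mathlib.LinearAlgebra.Matrix.NonsingularInverse
import Mathlib.LinearAlgebra.Basis.VectorSpace
import Mathlib.RingTheory.Nakayama
import Mathlib.RingTheory.FiniteType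
import Mathlib.RingTheory.Finiteness.Projective

/-!
# Cokernels of semilinear maps which are exact on every fibre

If `F : P → P` is semilinear, kills `U`, and on each closed fibre has kernel no larger than the
image of `U`, then `P ⧸ U` is projective. This is applied to `M/VM` for Dieudonné modules.
-/

universe u v

open scoped Pointwise

namespace Groth.Agent.DispLib

section Abstract

variable {k : Type u} [CommRing k] {σ : k →+* k} {τ : k →+* k}
  {P : Type v} [AddCommGroup P] [Module k P]

/-- A module through which, locally, the identity factors through a free module is projective. -/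
theorem projective_of_local_factor {C : Type v} [AddCommGroup C] [Module k C]
    (h : ∀ q : Ideal k, q.IsMaximal → ∃ (r : k) (n : ℕ) (a : (Fin n → k) →ₗ[k] C)
      (b : C →ₗ[k] (Fin n → k)), r ∉ q ∧ ∀ x, a (b x) = r • x) : Module.Projective k C := by
  classical
  choose r n a b hr hab using h
  have htop : Ideal.span (Set.range fun q : {q : Ideal k // q.IsMaximal} => r q.1 q.2) = ⊤ := by
    by_contra hne
    obtain ⟨q, hq, hle⟩ := Ideal.exists_le_maximal _ hne
    exact hr q hq (hle (Ideal.subset_span ⟨⟨q, hq⟩, rfl⟩))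
  rw [Ideal.eq_top_iff_one, Ideal.span, Finsupp.mem_span_range_iff_exists_finsupp] at htop
  obtain ⟨c, hc⟩ := htop
  let s := c.support
  refine Module.Projective.of_split
    (LinearMap.pi fun q : s => c q.1 • b q.1.1 q.1.2)
    (∑ q : s, (a q.1.1 q.1.2).comp (LinearMap.proj q)) ?_
  refine LinearMap.ext fun x => ?_
  simp only [LinearMap.comp_apply, LinearMap.sum_apply, LinearMap.proj_apply, LinearMap.pi_apply,
    LinearMap.smul_apply, map_smul, hab, smul_smul, LinearMap.id_apply]
  rw [← Finset.sum_smul, Finset.sum_coe_sort s (fun q => c q * r q.1 q.2)]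
  have h1 : ∑ q ∈ s, c q * r q.1 q.2 = 1 := by simpa [Finsupp.sum, s] using hc
  rw [h1, one_smul]

/-- Coordinates of a minimal generating family of the fibre at a maximal ideal are independent. -/
theorem exists_fibre_basis {C : Type v} [AddCommGroup C] [Module k C] [Module.Finite k C]
    (q : Ideal k) [hq : q.IsMaximal] :
    ∃ (n : ℕ) (x : Fin n → C),
      Submodule.span k (Set.range x) ⊔ q • (⊤ : Submodule k C) = ⊤ ∧
      ∀ c : Fin n → k, ∑ i, c i • x i ∈ q • (⊤ : Submodule k C) → ∀ i, c i ∈ q := by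
  classical
  have hex : ∃ n, ∃ x : Fin n → C,
      Submodule.span k (Set.range x) ⊔ q • (⊤ : Submodule k C) = ⊤ := by
    obtain ⟨n, x, hx⟩ := Module.Finite.exists_fin (R := k) (M := C)
    exact ⟨n, x, by rw [hx]; exact top_sup_eq _⟩
  obtain ⟨x, hx⟩ := Nat.find_spec hex
  refine ⟨_, x, hx, fun c hc i => ?_⟩
  by_contra hci
  obtain ⟨e, r, hr, her⟩ := hq.exists_inv hci
  rcases hn : Nat.find hex with _ | n
  · exact (Fin.cast hn i).elim0
  obtain ⟨i', hi'⟩ : ∃ i' : Fin (n + 1), Fin.cast hn.symm i' = i := ⟨Fin.cast hn i, rfl⟩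
  refine Nat.find_min hex (m := n) (by omega) ⟨fun j => x (Fin.cast hn.symm (i'.succAbove j)), ?_⟩
  rw [eq_top_iff]
  refine le_trans hx.ge (sup_le ?_ le_sup_right)
  rw [Submodule.span_le]
  rintro _ ⟨j, rfl⟩
  set S := Submodule.span k (Set.range fun j => x (Fin.cast hn.symm (i'.succAbove j))) ⊔
    q • (⊤ : Submodule k C)
  have hother : ∀ j, j ≠ i → x j ∈ S := by
    intro j hj
    obtain ⟨j', hj'⟩ := Fin.exists_succAbove_eq (x := Fin.cast hn j) (y := i') (by
      intro h; apply hj; rw [← hi', ← h]; rfl)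
    refine Submodule.mem_sup_left (Submodule.subset_span ⟨j', ?_⟩)
    show x _ = x j
    rw [hj']
    rfl
  by_cases hj : j = i
  · subst hj
    have h1 : x j = e • (∑ l, c l • x l) - e • (∑ l ∈ Finset.univ.erase j, c l • x l) + r • x j := by
      rw [← Finset.add_sum_erase _ _ (Finset.mem_univ j), smul_add, add_sub_cancel_right, smul_smul,
        ← add_smul, her, one_smul]
    rw [SetLike.mem_coe, h1]
    refine Submodule.add_mem _ (Submodule.sub_mem _ (Submodule.smul_mem _ _ (Submodule.mem_sup_right hc))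
      (Submodule.smul_mem _ _ (Submodule.sum_mem _ fun l hl =>
        Submodule.smul_mem _ _ (hother l (Finset.ne_of_mem_erase hl)))))
      (Submodule.mem_sup_right (Submodule.smul_mem_smul hr Submodule.mem_top))
  · exact hother j hj

/-- Independence on a fibre gives independence after inverting one element. -/
theorem exists_relation_killer [Module.Finite k P] [Module.Projective k P]
    (q : Ideal k) [hq : q.IsMaximal] {a : ℕ} (v : Fin a → P)
    (hv : ∀ c : Fin a → k, ∑ i, c i • v i ∈ q • (⊤ : Submodule k P) → ∀ i, c i ∈ q) :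
    ∃ δ : k, δ ∉ q ∧ ∀ c : Fin a → k, ∑ i, c i • v i = 0 → ∀ i, δ * c i = 0 := by
  classical
  obtain ⟨N, π, hπ⟩ := Module.Finite.exists_fin' k P
  obtain ⟨ι, hι⟩ := Module.projective_lifting_property π LinearMap.id hπ
  letI : Field (k ⧸ q) := Ideal.Quotient.field q
  let mk : k →+* k ⧸ q := Ideal.Quotient.mk q
  let W : (Fin a → k ⧸ q) →ₗ[k ⧸ q] (Fin N → k ⧸ q) :=
    Fintype.linearCombination (k ⧸ q) fun i j => mk (ι (v i) j)
  have hWinj : LinearMap.ker W = ⊥ := by
    rw [LinearMap.ker_eq_bot']
    intro c hc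
    choose c' hc' using fun i => Ideal.Quotient.mk_surjective (c i)
    funext i
    rw [← hc' i, Pi.zero_apply, Ideal.Quotient.eq_zero_iff_mem]
    refine hv c' ?_ i
    set y := ∑ j, c' j • v j with hy
    have hcoord : ∀ j, ι y j ∈ q := fun j => by
      rw [← Ideal.Quotient.eq_zero_iff_mem]
      have h1 := congr_fun hc j
      simp only [W, Fintype.linearCombination_apply, Finset.sum_apply, Pi.smul_apply, smul_eq_mul,
        Pi.zero_apply, ← hc', mk, ← map_mul, ← map_sum] at h1
      simpa [hy, map_sum] using h1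
    rw [← LinearMap.id_apply (R := k) y, ← hι, LinearMap.comp_apply, pi_eq_sum_univ' (ι y), map_sum]
    refine Submodule.sum_mem _ fun j _ => ?_
    rw [map_smul]
    exact Submodule.smul_mem_smul (hcoord j) Submodule.mem_top
  obtain ⟨g, hg⟩ := W.exists_leftInverse_of_injective hWinj
  choose G hG using fun (i : Fin a) (j : Fin N) =>
    Ideal.Quotient.mk_surjective (g (Pi.single j 1) i)
  let Gm : Matrix (Fin a) (Fin a) k := Matrix.of fun i i' => ∑ j, G i j * ι (v i') j
  refine ⟨Gm.det, fun hdet => ?_, fun c hc i => ?_⟩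
  · have hGm : Gm.map mk = 1 := by
      refine Matrix.ext fun i i' => ?_
      have h1 := congr_fun (LinearMap.congr_fun hg (Pi.single i' 1)) i
      rw [LinearMap.comp_apply, LinearMap.id_apply] at h1
      have h2 : W (Pi.single i' 1) = fun j => mk (ι (v i') j) := by
        simp only [W, Fintype.linearCombination_apply_single, one_smul]
      rw [h2, pi_eq_sum_univ' (fun j => mk (ι (v i') j)), map_sum, Finset.sum_apply] at h1
      have h3 : (1 : Matrix (Fin a) (Fin a) (k ⧸ q)) i i' = (Pi.single i' (1 : k ⧸ q) : Fin a → k ⧸ q) i := by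
        simp [Matrix.one_apply, Pi.single_apply]
      rw [h3, ← h1]
      simp only [Gm, Matrix.map_apply, Matrix.of_apply, map_sum, map_mul, map_smul, Pi.smul_apply,
        smul_eq_mul, mk, hG, mul_comm]
    rw [← Ideal.Quotient.eq_zero_iff_mem] at hdet
    change mk Gm.det = 0 at hdet
    rw [RingHom.map_det, RingHom.mapMatrix_apply, hGm, Matrix.det_one] at hdet
    exact one_ne_zero hdet
  · have h1 : Gm.mulVec c = 0 := by
      funext l
      have h2 := congrArg (fun y => ∑ j, G l j * ι y j) hc
      simp only [map_sum, map_smul, Finset.sum_apply, Pi.smul_apply, smul_eq_mul, map_zero,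
        Pi.zero_apply, mul_zero, Finset.sum_const_zero] at h2
      rw [Pi.zero_apply, ← h2]
      simp only [Gm, Matrix.mulVec, dotProduct, Matrix.of_apply, Finset.sum_mul, Finset.mul_sum]
      rw [Finset.sum_comm]
      exact Finset.sum_congr rfl fun j _ => Finset.sum_congr rfl fun l' _ => by ring
    have h3 := congrArg (fun z => (Gm.adjugate).mulVec z i) h1
    simp only [Matrix.mulVec_mulVec, Matrix.adjugate_mul, Matrix.smul_mulVec, Matrix.one_mulVec,
      Pi.smul_apply, smul_eq_mul, Matrix.mulVec_zero, Pi.zero_apply] at h3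
    exact h3

theorem exists_clearing {C : Type v} [AddCommGroup C] [Module k C] [Module.Finite k C]
    (q : Ideal k) [hq : q.IsMaximal] {n : ℕ} (x : Fin n → C)
    (hx : Submodule.span k (Set.range x) ⊔ q • (⊤ : Submodule k C) = ⊤) :
    ∃ f : k, f ∉ q ∧ ∀ y : C, ∃ c : Fin n → k, ∑ i, c i • x i = f • y := by
  let S := Submodule.span k (Set.range x)
  have hle : (⊤ : Submodule k (C ⧸ S)) ≤ q • ⊤ := by
    have h := congrArg (Submodule.map S.mkQ) hx
    rw [Submodule.map_sup, Submodule.map_smul'', Submodule.map_top, Submodule.range_mkQ,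
      Submodule.mkQ_map_self, bot_sup_eq] at h
    exact h.ge
  obtain ⟨f, hf1, hf0⟩ := Submodule.exists_sub_one_mem_and_smul_eq_zero_of_fg_of_le_smul q _
    Module.Finite.fg_top hle
  refine ⟨f, fun hfq => hq.ne_top ((Ideal.eq_top_iff_one q).2 ?_), fun y => ?_⟩
  · simpa using q.sub_mem hfq hf1
  have h := hf0 (S.mkQ y) Submodule.mem_top
  rw [← map_smul, Submodule.mkQ_apply, Submodule.Quotient.mk_eq_zero,
    Submodule.mem_span_range_iff_exists_fun] at h
  exact h

theorem projective_quotient_of_fibre_exact [Module.Finite k P] [Module.Projective k P]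
    (F : P →ₛₗ[σ] P) (U : Submodule k P) (hFU : ∀ u ∈ U, F u = 0)
    (hστ : ∀ x, σ (τ x) = x) (hτσ : ∀ x, τ (σ x) = x)
    (hσq : ∀ q : Ideal k, q.IsMaximal → ∀ x ∈ q, σ x ∈ q)
    (hex : ∀ q : Ideal k, q.IsMaximal → ∀ x : P,
      F x ∈ q • (⊤ : Submodule k P) → x ∈ U ⊔ q • (⊤ : Submodule k P)) :
    Module.Projective k (P ⧸ U) := by
  refine projective_of_local_factor fun q hq => ?_
  haveI := hq
  obtain ⟨n, xs, hxs, hindep⟩ := exists_fibre_basis (C := P ⧸ U) q
  choose m hm using fun i => Submodule.Quotient.mk_surjective U (xs i)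
  have hmap : ∀ c : Fin n → k, U.mkQ (∑ i, c i • m i) = ∑ i, c i • xs i := fun c => by
    simp only [map_sum, map_smul, Submodule.mkQ_apply, hm]
  have hindF : ∀ c : Fin n → k, ∑ i, c i • F (m i) ∈ q • (⊤ : Submodule k P) → ∀ i, c i ∈ q := by
    intro c hc i
    have h1 : F (∑ j, τ (c j) • m j) ∈ q • (⊤ : Submodule k P) := by
      simpa [map_sum, map_smulₛₗ, hστ] using hc
    have h3 := Submodule.mem_map_of_mem (f := U.mkQ) (hex q hq _ h1)
    rw [hmap, Submodule.map_sup, Submodule.map_smul'', Submodule.map_top, Submodule.range_mkQ,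
      Submodule.mkQ_map_self, bot_sup_eq] at h3
    have := hσq q hq _ (hindep _ h3 i)
    rwa [hστ] at this
  obtain ⟨δ, hδq, hδ⟩ := exists_relation_killer q (fun i => F (m i)) hindF
  obtain ⟨f, hfq, hf⟩ := exists_clearing q xs hxs
  choose c hc using hf
  have huniq : ∀ d : Fin n → k, ∑ i, d i • xs i = 0 → ∀ i, τ δ * d i = 0 := by
    intro d hd i
    rw [← hmap] at hd
    have h2 := hFU _ ((Submodule.Quotient.mk_eq_zero U).1 hd)
    simp only [map_sum, map_smulₛₗ] at h2
    have h3 := congrArg τ (hδ _ h2 i)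
    rwa [map_mul, hτσ, map_zero] at h3
  let b : (P ⧸ U) →ₗ[k] (Fin n → k) :=
    { toFun := fun x i => τ δ * c x i
      map_add' := fun x y => by
        funext i
        have := huniq (c (x + y) - c x - c y) (by
          simp only [Pi.sub_apply, sub_smul, Finset.sum_sub_distrib, hc, smul_add]; abel) i
        simp only [Pi.sub_apply, mul_sub] at this
        simp only [Pi.add_apply]
        linear_combination this
      map_smul' := fun r x => by
        funext i
        have := huniq (c (r • x) - r • c x) (by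
          simp only [Pi.sub_apply, Pi.smul_apply, smul_eq_mul, sub_smul, Finset.sum_sub_distrib, hc,
            mul_smul, ← Finset.smul_sum, smul_comm r f x, sub_self]) i
        simp only [Pi.sub_apply, Pi.smul_apply, smul_eq_mul, mul_sub] at this
        simp only [RingHom.id_apply, Pi.smul_apply, smul_eq_mul]
        linear_combination this }
  refine ⟨τ δ * f, n, Fintype.linearCombination k xs, b, fun h => ?_, fun x => ?_⟩
  · refine (hq.isPrime.mem_or_mem h).elim (fun h1 => hδq ?_) hfq
    have := hσq q hq _ h1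
    rwa [hστ] at this
  · rw [Fintype.linearCombination_apply, mul_smul]
    show ∑ i, (τ δ * c x i) • xs i = _
    simp only [mul_smul, ← Finset.smul_sum, hc]

end Abstract

section Witt

variable {p : ℕ} [hpF : Fact p.Prime] {k : Type u} [CommRing k] [CharP k p] [PerfectRing k p]

theorem exists_eq_mul_p_of_coeff_zero (x : WittVector p k) (h : x.coeff 0 = 0) :
    ∃ y, x = (p : WittVector p k) * y := by
  refine ⟨(WittVector.frobeniusEquiv p k).symm (x.shift 1), ?_⟩
  rw [mul_comm, ← WittVector.verschiebung_frobenius]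
  have : WittVector.frobenius ((WittVector.frobeniusEquiv p k).symm (x.shift 1)) =
      x.shift 1 := (WittVector.frobeniusEquiv p k).apply_symm_apply _
  rw [this]
  ext n
  cases n with
  | zero => simp [h]
  | succ n => simp [WittVector.shift_coeff, add_comm]

theorem exists_frobenius_eq (x : WittVector p k) :
    ∃ y, WittVector.frobenius x = x ^ p + (p : WittVector p k) * y := by
  obtain ⟨y, hy⟩ := exists_eq_mul_p_of_coeff_zero (WittVector.frobenius x - x ^ p) (by
    have h1 : ∀ z : WittVector p k, z.coeff 0 = WittVector.constantCoeff z := fun _ => rfl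
    rw [h1, map_sub, map_pow, ← h1, ← h1, WittVector.coeff_frobenius_charP, sub_self])
  exact ⟨y, by rw [← hy]; ring⟩

/-- The exactness at a closed fibre. -/
theorem mem_sup_of_frobenius_mem {M : Type v} [AddCommGroup M] [Module (WittVector p k) M]
    (F : M →ₛₗ[(WittVector.frobenius : WittVector p k →+* WittVector p k)] M)
    (V : M →ₛₗ[((WittVector.frobeniusEquiv p k).symm : WittVector p k →+* WittVector p k)] M)
    (hFV : ∀ m : M, F (V m) = (p : WittVector p k) • m)
    (hVF : ∀ m : M, V (F m) = (p : WittVector p k) • m)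
    (Q : Ideal (WittVector p k)) [hQ : Q.IsPrime] (hpQ : (p : WittVector p k) ∈ Q)
    (H : ∀ I : Ideal (WittVector p k), I ≤ Q → (∀ c, (p : WittVector p k) * c ∈ I → c ∈ I) →
      ∀ x : M, (p : WittVector p k) • x ∈ I • (⊤ : Submodule (WittVector p k) M) →
        x ∈ Q • (⊤ : Submodule (WittVector p k) M))
    (m : M) (hm : F m ∈ Q • (⊤ : Submodule (WittVector p k) M)) :
    ∃ n, m - V n ∈ Q • (⊤ : Submodule (WittVector p k) M) := by
  let q₀ : Ideal k := Ideal.map (WittVector.constantCoeff : WittVector p k →+* k) Q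
  have hsurj : Function.Surjective (WittVector.constantCoeff : WittVector p k →+* k) :=
    fun x => ⟨WittVector.teichmuller p x, WittVector.teichmuller_coeff_zero p x⟩
  have hker : RingHom.ker (WittVector.constantCoeff : WittVector p k →+* k) ≤ Q := fun x hx => by
    obtain ⟨y, rfl⟩ := exists_eq_mul_p_of_coeff_zero x hx
    exact Ideal.mul_mem_right _ _ hpQ
  haveI hq₀ : q₀.IsPrime := Ideal.map_isPrime_of_surjective hsurj hker
  have hcomap : ∀ x, WittVector.constantCoeff x ∈ q₀ ↔ x ∈ Q := fun x => by
    rw [← Ideal.mem_comap, Ideal.comap_map_of_surjective _ hsurj, ← RingHom.ker_eq_comap_bot,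
      sup_eq_left.2 hker]
  haveI : CharP (k ⧸ q₀) p := (CharP.charP_iff_prime_eq_zero hpF.out).2 (by
    rw [← map_natCast (Ideal.Quotient.mk q₀), CharP.cast_eq_zero, map_zero])
  let I : Ideal (WittVector p k) := RingHom.ker (WittVector.map (p := p) (Ideal.Quotient.mk q₀))
  have hI : ∀ x, x ∈ I ↔ ∀ n, x.coeff n ∈ q₀ := fun x => by
    rw [RingHom.mem_ker, WittVector.ext_iff]
    simp [WittVector.map_coeff, Ideal.Quotient.eq_zero_iff_mem]
  have hIQ : I ≤ Q := fun x hx => (hcomap x).1 ((hI x).1 hx 0)
  have hIp : ∀ c, (p : WittVector p k) * c ∈ I → c ∈ I := fun c hc => by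
    rw [hI] at hc ⊢
    intro n
    have := hc (n + 1)
    rw [mul_comm, WittVector.mul_charP_coeff_succ] at this
    exact hq₀.mem_of_pow_mem _ this
  have hIσ : ∀ x ∈ I, (WittVector.frobeniusEquiv p k).symm x ∈ I := fun x hx => by
    rw [hI] at hx ⊢
    intro n
    refine hq₀.mem_of_pow_mem p ?_
    rw [← WittVector.coeff_frobenius_charP]
    have : WittVector.frobenius ((WittVector.frobeniusEquiv p k).symm x) = x :=
      (WittVector.frobeniusEquiv p k).apply_symm_apply x
    rw [this]
    exact hx n
  have hQle : Q ≤ Ideal.span {(p : WittVector p k)} ⊔ I := fun x hx => by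
    have h0 : (WittVector.teichmuller p (x.coeff 0) : WittVector p k) ∈ I := by
      have hx0 : Ideal.Quotient.mk q₀ (x.coeff 0) = 0 :=
        Ideal.Quotient.eq_zero_iff_mem.2 ((hcomap x).2 hx)
      rw [RingHom.mem_ker, WittVector.map_teichmuller, hx0, WittVector.teichmuller_zero]
    obtain ⟨y, hy⟩ := exists_eq_mul_p_of_coeff_zero (x - WittVector.teichmuller p (x.coeff 0)) (by
      show WittVector.constantCoeff (x - _) = 0
      rw [map_sub]
      exact sub_eq_zero.2 (WittVector.teichmuller_coeff_zero p (x.coeff 0)).symm)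
    rw [sub_eq_iff_eq_add] at hy
    rw [hy]
    exact Submodule.add_mem_sup (Ideal.mul_mem_right _ _ (Ideal.mem_span_singleton_self _)) h0
  have hm' := Submodule.smul_mono_left hQle hm
  rw [Submodule.sup_smul, Submodule.ideal_span_singleton_smul, Submodule.mem_sup] at hm'
  obtain ⟨a, ha, z, hz, haz⟩ := hm'
  obtain ⟨n, -, rfl⟩ := (Submodule.mem_smul_pointwise_iff_exists _ _ _).1 ha
  have hVz : V z ∈ I • (⊤ : Submodule (WittVector p k) M) := by
    refine Submodule.smul_induction_on hz (fun r hr v _ => ?_) (fun y y' hy hy' => ?_)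
    · rw [map_smulₛₗ]
      exact Submodule.smul_mem_smul (hIσ r hr) Submodule.mem_top
    · rw [map_add]; exact Submodule.add_mem _ hy hy'
  refine ⟨n, H I hIQ hIp _ ?_⟩
  have h1 := congrArg V haz
  rw [map_add, map_smulₛₗ, hVF, map_natCast] at h1
  have : (p : WittVector p k) • (m - V n) = V z := by
    rw [smul_sub, ← h1]; abel
  rw [this]
  exact hVz

/-- `M/VM` is projective. -/
theorem projective_mod_V {M : Type v} [AddCommGroup M] [Module (WittVector p k) M]
    (F : M →ₛₗ[(WittVector.frobenius : WittVector p k →+* WittVector p k)] M)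
    (V : M →ₛₗ[((WittVector.frobeniusEquiv p k).symm : WittVector p k →+* WittVector p k)] M)
    (hFV : ∀ m : M, F (V m) = (p : WittVector p k) • m)
    (hVF : ∀ m : M, V (F m) = (p : WittVector p k) • m)
    [Module.Finite (WittVector p k) M]
    [Module.Projective (WittVector p k ⧸ Ideal.span {(p : WittVector p k)})
      (M ⧸ (Ideal.span {(p : WittVector p k)} • (⊤ : Submodule (WittVector p k) M)))]
    (H : ∀ Q : Ideal (WittVector p k), Q.IsPrime → (p : WittVector p k) ∈ Q →
      ∀ I : Ideal (WittVector p k), I ≤ Q → (∀ c, (p : WittVector p k) * c ∈ I → c ∈ I) →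
      ∀ x : M, (p : WittVector p k) • x ∈ I • (⊤ : Submodule (WittVector p k) M) →
        x ∈ Q • (⊤ : Submodule (WittVector p k) M)) :
    Module.Projective (WittVector p k ⧸ Ideal.span {(p : WittVector p k)})
      ((M ⧸ (Ideal.span {(p : WittVector p k)} • (⊤ : Submodule (WittVector p k) M))) ⧸
        Submodule.span (WittVector p k ⧸ Ideal.span {(p : WittVector p k)})
          (Set.range fun m : M => (Ideal.span {(p : WittVector p k)} • (⊤ : Submodule (WittVector p k) M)).mkQ (V m))) := by
  set J := Ideal.span {(p : WittVector p k)} with hJ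
  set N := J • (⊤ : Submodule (WittVector p k) M) with hN
  have hJF : J ≤ J.comap (WittVector.frobenius : WittVector p k →+* WittVector p k) := by
    rw [hJ, Ideal.span_le, Set.singleton_subset_iff]
    simp [Ideal.mem_span_singleton_self]
  have hJG : J ≤ J.comap ((WittVector.frobeniusEquiv p k).symm : WittVector p k →+* WittVector p k) := by
    rw [hJ, Ideal.span_le, Set.singleton_subset_iff]
    simp [Ideal.mem_span_singleton_self]
  let σ : WittVector p k ⧸ J →+* WittVector p k ⧸ J := Ideal.quotientMap J _ hJF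
  let τ : WittVector p k ⧸ J →+* WittVector p k ⧸ J := Ideal.quotientMap J _ hJG
  have hστ : ∀ x, σ (τ x) = x := by
    intro x
    obtain ⟨x, rfl⟩ := Ideal.Quotient.mk_surjective x
    exact congrArg (Ideal.Quotient.mk J) ((WittVector.frobeniusEquiv p k).apply_symm_apply x)
  have hτσ : ∀ x, τ (σ x) = x := by
    intro x
    obtain ⟨x, rfl⟩ := Ideal.Quotient.mk_surjective x
    exact congrArg (Ideal.Quotient.mk J) ((WittVector.frobeniusEquiv p k).symm_apply_apply x)
  have hker : ∀ m ∈ N, F m ∈ N := fun m hm => by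
    refine Submodule.smul_induction_on hm (fun r hr v _ => ?_) (fun y y' hy hy' => ?_)
    · rw [map_smulₛₗ]
      exact Submodule.smul_mem_smul (hJF hr) Submodule.mem_top
    · rw [map_add]; exact Submodule.add_mem _ hy hy'
  let F₀ : M ⧸ N →ₛₗ[(WittVector.frobenius : WittVector p k →+* WittVector p k)] M ⧸ N :=
    N.mapQ N F (fun m hm => hker m hm)
  let Fb : M ⧸ N →ₛₗ[σ] M ⧸ N :=
    { toFun := F₀
      map_add' := map_add F₀
      map_smul' := fun r x => by
        obtain ⟨r, rfl⟩ := Ideal.Quotient.mk_surjective r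
        exact map_smulₛₗ F₀ r x }
  haveI : Module.Finite (WittVector p k ⧸ J) (M ⧸ N) :=
    Module.Finite.of_restrictScalars_finite (WittVector p k) _ _
  refine projective_quotient_of_fibre_exact Fb _ ?_ hστ hτσ ?_ ?_
  · intro u hu
    induction hu using Submodule.span_induction with
    | mem y hy =>
      obtain ⟨m, rfl⟩ := hy
      show Submodule.Quotient.mk (F (V m)) = 0
      rw [hFV, Submodule.Quotient.mk_eq_zero]
      exact Submodule.smul_mem_smul (Ideal.mem_span_singleton_self _) Submodule.mem_top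
    | zero => exact map_zero _
    | add y z _ _ hy hz => rw [map_add, hy, hz, add_zero]
    | smul r y _ hy => rw [map_smulₛₗ, hy, smul_zero]
  · intro q hq x hx
    obtain ⟨x, rfl⟩ := Ideal.Quotient.mk_surjective x
    obtain ⟨y, hy⟩ := exists_frobenius_eq x
    show Ideal.Quotient.mk J (WittVector.frobenius x) ∈ q
    rw [hy, map_add, map_pow, map_mul,
      Ideal.Quotient.eq_zero_iff_mem.2 (Ideal.mem_span_singleton_self (p : WittVector p k)), zero_mul,
      add_zero]
    exact Ideal.pow_mem_of_mem _ hx _ hpF.out.pos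
  · intro q hq x hx
    obtain ⟨m, rfl⟩ := Submodule.Quotient.mk_surjective _ x
    let Q := q.comap (Ideal.Quotient.mk J)
    haveI : Q.IsPrime := Ideal.IsPrime.comap _
    have hpQ : (p : WittVector p k) ∈ Q := by
      rw [Ideal.mem_comap, Ideal.Quotient.eq_zero_iff_mem.2 (Ideal.mem_span_singleton_self _)]
      exact q.zero_mem
    have htrans : ∀ y : M, Submodule.Quotient.mk y ∈ q • (⊤ : Submodule (WittVector p k ⧸ J) (M ⧸ N)) ↔
        y ∈ Q • (⊤ : Submodule (WittVector p k) M) := by
      intro y
      constructor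
      · intro hy
        have h1 : ∀ z ∈ q • (⊤ : Submodule (WittVector p k ⧸ J) (M ⧸ N)),
            ∃ y ∈ Q • (⊤ : Submodule (WittVector p k) M), Submodule.Quotient.mk y = z := by
          intro z hz
          refine Submodule.smul_induction_on hz (fun r hr v _ => ?_) (fun a b ha hb => ?_)
          · obtain ⟨r, rfl⟩ := Ideal.Quotient.mk_surjective r
            obtain ⟨v, rfl⟩ := Submodule.Quotient.mk_surjective _ v
            exact ⟨r • v, Submodule.smul_mem_smul hr Submodule.mem_top, rfl⟩
          · obtain ⟨a', ha', rfl⟩ := ha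
            obtain ⟨b', hb', rfl⟩ := hb
            exact ⟨a' + b', Submodule.add_mem _ ha' hb', rfl⟩
        obtain ⟨y', hy', hyy⟩ := h1 _ hy
        have hsub : y - y' ∈ N := (Submodule.Quotient.eq N).1 hyy.symm
        have hle : N ≤ Q • (⊤ : Submodule (WittVector p k) M) :=
          Submodule.smul_mono_left ((Ideal.span_singleton_le_iff_mem (I := Q)).2 hpQ)
        have := Submodule.add_mem _ (hle hsub) hy'
        rwa [sub_add_cancel] at this
      · intro hy
        refine Submodule.smul_induction_on hy (fun r hr v _ => ?_) (fun a b ha hb => ?_)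
        · exact Submodule.smul_mem_smul (r := Ideal.Quotient.mk J r) hr
            (Submodule.mem_top (x := (Submodule.Quotient.mk v : M ⧸ N)))
        · exact Submodule.add_mem _ ha hb
    obtain ⟨n, hn⟩ := mem_sup_of_frobenius_mem F V hFV hVF Q hpQ (H Q inferInstance hpQ) m
      ((htrans _).1 hx)
    rw [← sub_add_cancel (Submodule.Quotient.mk m : M ⧸ N) (Submodule.Quotient.mk (V n)), add_comm]
    exact Submodule.add_mem_sup (Submodule.subset_span ⟨n, rfl⟩) ((htrans _).2 hn)

end Witt

/-- Reduction of a module presented as a retract of a free one. -/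
theorem projective_mod_smul_top {A : Type u} [CommRing A] (J : Ideal A) {M : Type v}
    [AddCommGroup M] [Module A M] {n : ℕ} (i : M →ₗ[A] (Fin n → A ⧸ J)) (e : Fin n → M)
    (h : ∀ x : M, ∀ c : Fin n → A, (∀ j, Ideal.Quotient.mk J (c j) = i x j) →
      x - ∑ j, c j • e j ∈ J • (⊤ : Submodule A M)) :
    Module.Projective (A ⧸ J) (M ⧸ J • (⊤ : Submodule A M)) := by
  have hi : J • (⊤ : Submodule A M) ≤ LinearMap.ker i := by
    refine Submodule.smul_le.2 fun r hr m _ => ?_
    rw [LinearMap.mem_ker, map_smul]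
    funext j
    rw [Pi.smul_apply, Algebra.smul_def, Ideal.Quotient.algebraMap_eq,
      Ideal.Quotient.eq_zero_iff_mem.2 hr, zero_mul]
    rfl
  let s₀ := Submodule.liftQ _ i hi
  let s : (M ⧸ J • (⊤ : Submodule A M)) →ₗ[A ⧸ J] (Fin n → A ⧸ J) :=
    { toFun := s₀
      map_add' := map_add s₀
      map_smul' := fun r x => by
        obtain ⟨r, rfl⟩ := Ideal.Quotient.mk_surjective r
        exact map_smul s₀ r x }
  refine Module.Projective.of_split s
    (Fintype.linearCombination (A ⧸ J) fun j => (Submodule.Quotient.mk (e j) : M ⧸ J • (⊤ : Submodule A M)))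
    (LinearMap.ext fun y => ?_)
  obtain ⟨x, rfl⟩ := Submodule.Quotient.mk_surjective _ y
  choose c hc using fun j => Ideal.Quotient.mk_surjective (i x j)
  rw [LinearMap.comp_apply, LinearMap.id_apply, Fintype.linearCombination_apply]
  show ∑ j, i x j • (Submodule.Quotient.mk (e j) : M ⧸ J • (⊤ : Submodule A M)) = _
  have h1 := h x c hc
  rw [← Submodule.Quotient.eq] at h1
  rw [h1, ← Submodule.mkQ_apply, map_sum]
  refine Finset.sum_congr rfl fun j _ => ?_
  rw [← hc j]
  rfl

section Truncated

variable {A : Type u} [CommRing A] (π : A) (n : ℕ) {M : Type v} [AddCommGroup M] [Module A M]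
  [Module (A ⧸ Ideal.span {π ^ n}) M] [IsScalarTower A (A ⧸ Ideal.span {π ^ n}) M]
  [Module.Finite (A ⧸ Ideal.span {π ^ n}) M] [Module.Projective (A ⧸ Ideal.span {π ^ n}) M]

include π n

theorem finite_of_truncated : Module.Finite A M :=
  haveI : Module.Finite A (A ⧸ Ideal.span {π ^ n}) :=
    Module.Finite.of_surjective (Algebra.linearMap A _) Ideal.Quotient.mk_surjective
  Module.Finite.trans (A ⧸ Ideal.span {π ^ n}) M

/-- Coordinates on a projective module over `A/(π^n)`. -/
theorem exists_coordinates : ∃ (N : ℕ) (i : M →ₗ[A ⧸ Ideal.span {π ^ n}] (Fin N → A ⧸ Ideal.span {π ^ n}))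
    (e : Fin N → M), ∀ (x : M) (c : Fin N → A),
      (∀ j, Ideal.Quotient.mk (Ideal.span {π ^ n}) (c j) = i x j) → x = ∑ j, c j • e j := by
  classical
  obtain ⟨N, g, hg⟩ := Module.Finite.exists_fin' (A ⧸ Ideal.span {π ^ n}) M
  obtain ⟨i, hi⟩ := Module.projective_lifting_property g LinearMap.id hg
  refine ⟨N, i, fun j => g (Pi.single j 1), fun x c hc => ?_⟩
  have h1 : x = g (i x) := (LinearMap.congr_fun hi x).symm
  rw [pi_eq_sum_univ' (i x), map_sum] at h1
  refine h1.trans (Finset.sum_congr rfl fun j _ => ?_)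
  rw [map_smul, ← hc j]
  exact algebraMap_smul (A ⧸ Ideal.span {π ^ n}) (c j) (g (Pi.single j 1))

theorem projective_mod_of_truncated (hn : 1 ≤ n) :
    Module.Projective (A ⧸ Ideal.span {π}) (M ⧸ Ideal.span {π} • (⊤ : Submodule A M)) := by
  classical
  obtain ⟨N, i, e, hrec⟩ := exists_coordinates π n (M := M)
  have hle : Ideal.span {π ^ n} ≤ Ideal.span {π} :=
    Ideal.span_singleton_le_span_singleton.2 (dvd_pow_self _ (by omega))
  let f := Ideal.Quotient.factorₐ A hle
  refine projective_mod_smul_top (Ideal.span {π})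
    (f.toLinearMap.compLeft (Fin N) ∘ₗ i.restrictScalars A) e fun x c hc => ?_
  choose d hd using fun j => Ideal.Quotient.mk_surjective (i x j)
  have h1 : x - ∑ j, c j • e j = ∑ j, (d j - c j) • e j := by
    rw [Finset.sum_congr rfl fun j _ => sub_smul (d j) (c j) (e j), Finset.sum_sub_distrib,
      ← hrec x d hd]
  rw [h1]
  refine Submodule.sum_mem _ fun j _ => Submodule.smul_mem_smul ?_ Submodule.mem_top
  refine Ideal.Quotient.eq.1 ?_
  rw [hc j]
  show _ = f (i x j)
  rw [← hd j]
  rfl

theorem mem_of_smul_mem_truncated (hn : 2 ≤ n) (Q I : Ideal A) (hπQ : π ∈ Q) (hIQ : I ≤ Q)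
    (hIp : ∀ c, π * c ∈ I → c ∈ I) (x : M) (hx : π • x ∈ I • (⊤ : Submodule A M)) :
    x ∈ Q • (⊤ : Submodule A M) := by
  classical
  obtain ⟨N, i, e, hrec⟩ := exists_coordinates π n (M := M)
  have hc : ∀ y ∈ I • (⊤ : Submodule A M), ∀ j,
      i y j ∈ I.map (Ideal.Quotient.mk (Ideal.span {π ^ n})) := fun y hy j => by
    refine Submodule.smul_induction_on hy (fun r hr v _ => ?_) (fun a b ha hb => ?_)
    · rw [← algebraMap_smul (A ⧸ Ideal.span {π ^ n}) r v, map_smul, Pi.smul_apply, smul_eq_mul,
        Ideal.Quotient.algebraMap_eq]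
      exact Ideal.mul_mem_right _ _ (Ideal.mem_map_of_mem _ hr)
    · rw [map_add, Pi.add_apply]
      exact Ideal.add_mem _ ha hb
  choose c hc' using fun j => Ideal.Quotient.mk_surjective (i x j)
  rw [hrec x c hc']
  refine Submodule.sum_mem _ fun j _ => Submodule.smul_mem_smul ?_ Submodule.mem_top
  have h1 := hc _ hx j
  rw [← algebraMap_smul (A ⧸ Ideal.span {π ^ n}) π x, map_smul, Pi.smul_apply, smul_eq_mul,
    Ideal.Quotient.algebraMap_eq, ← hc' j, ← map_mul] at h1
  obtain ⟨z, hz, hze⟩ := (Ideal.mem_map_iff_of_surjective _ Ideal.Quotient.mk_surjective).1 h1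
  rw [Ideal.Quotient.eq, Ideal.mem_span_singleton'] at hze
  obtain ⟨w, hw⟩ := hze
  obtain ⟨n', rfl⟩ : ∃ n', n = n' + 2 := ⟨n - 2, by omega⟩
  have h2 : c j + π ^ (n' + 1) * w ∈ I := by
    apply hIp
    have h4 : π * (c j + π ^ (n' + 1) * w) = z := by linear_combination hw
    rw [h4]
    exact hz
  have h3 := Q.sub_mem (hIQ h2) (Q.mul_mem_right w (Q.pow_mem_of_mem hπQ (n' + 1) (by omega)))
  rwa [add_sub_cancel_right] at h3

end Truncated

end Groth.Agent.DispLib
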