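import Groth.Agent.DispLib.Nilp
import Groth.Agent.DispLib.LevelOne

/-!
# The nilpotence condition for Dieudonné modules over a perfect ring
-/

universe u v

namespace Groth.Agent.DispLib

open W4c1extbt610 Dieu

variable {p : ℕ} [Fact p.Prime] {k : Type u} [CommRing k] [CharP k p] [PerfectRing k p]
variable {M : Type v} [AddCommGroup M] [Module (WittVector p k) M]

local notation "Wk" => WittVector p k

theorem IV_le_span_p : IV p k ≤ Ideal.span {(p : Wk)} := fun x hx => by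
  rw [IV_eq_ker] at hx
  obtain ⟨y, rfl⟩ := exists_eq_mul_p_of_coeff_zero x hx
  exact Ideal.mul_mem_right _ _ (Ideal.mem_span_singleton_self _)

theorem frobenius_surj (k' : ℕ) : Function.Surjective ((WittVector.frobenius : Wk →+* Wk) ^ k') := by
  induction k' with
  | zero => exact fun x => ⟨x, rfl⟩
  | succ k' ih =>
    rw [pow_succ']
    exact (WittVector.frobenius_bijective p k).2.comp ih

theorem iterate_smul_p (V : M →ₛₗ[((WittVector.frobeniusEquiv p k).symm : Wk →+* Wk)] M) (m : ℕ) :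
    ∀ (e : ℕ) (x : M), (⇑V)^[m] ((p : Wk) ^ e • x) = (p : Wk) ^ e • (⇑V)^[m] x := by
  induction m with
  | zero => intro e x; rfl
  | succ m ih =>
    intro e x
    rw [Function.iterate_succ_apply', Function.iterate_succ_apply', ih, map_smulₛₗ, map_pow, map_natCast]

theorem vSharpPow_dieu (Dm : DieuMod p k M) (D : Display3n p k M) (hQ : ∀ x : M, x ∈ D.Q ↔ x ∈ Set.range Dm.V)
    (hV : ∀ (m : M) (h : Dm.V m ∈ D.Q), D.Vinv ⟨Dm.V m, h⟩ = m)
    (Vs : M →ₗ[Wk] BC (WittVector.frobenius : Wk →+* Wk) M) (hVs : IsVSharp D Vs) (n : ℕ) (m : M) :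
    vSharpPow Vs n m = BC.tmul ((WittVector.frobenius : Wk →+* Wk) ^ (n + 1)) 1 ((⇑Dm.V)^[n + 1] m) := by
  have h0 : ∀ x, Vs x = BC.tmul (WittVector.frobenius : Wk →+* Wk) 1 (Dm.V x) := fun x => by
    have h := vSharp_Vinv D hVs ⟨Dm.V x, (hQ _).2 ⟨x, rfl⟩⟩
    rwa [hV] at h
  induction n generalizing m with
  | zero => rw [vSharpPow_zero_apply, h0, BC.castHom_tmul, Function.iterate_one]
  | succ n ih =>
    rw [vSharpPow_succ_apply, h0, BC.map_tmul, BC.lift_tmul, one_smul, ih, BC.push_tmul, map_one,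
      BC.castHom_tmul, Function.iterate_succ_apply (n := n + 1)]

theorem mem_J_of_tmul (k' : ℕ) (x : M)
    (h : BC.tmul ((WittVector.frobenius : Wk →+* Wk) ^ k') 1 x ∈
      (IV p k ⊔ Ideal.span {(p : Wk)}) • (⊤ : Submodule Wk (BC ((WittVector.frobenius : Wk →+* Wk) ^ k') M))) :
    ∃ y, x = (p : Wk) • y := by
  set s := (WittVector.frobenius : Wk →+* Wk) ^ k'
  have hle : IV p k ⊔ Ideal.span {(p : Wk)} ≤ Ideal.span {(p : Wk)} := sup_le IV_le_span_p le_rfl
  obtain ⟨z, hz⟩ : ∃ z, BC.tmul s 1 x = (p : Wk) • z := by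
    have h1 := Submodule.smul_mono hle le_rfl h
    rw [Submodule.ideal_span_singleton_smul] at h1
    obtain ⟨z, -, hz⟩ := (Submodule.mem_smul_pointwise_iff_exists _ _ _).1 h1
    exact ⟨z, hz.symm⟩
  obtain ⟨y, rfl⟩ : ∃ y, BC.tmul s 1 y = z := by
    clear hz
    induction z using BC.induction_on s with
    | zero => exact ⟨0, BC.tmul_zero _ _⟩
    | tmul b y =>
      obtain ⟨c, rfl⟩ := frobenius_surj k' b
      exact ⟨c • y, (BC.tmul_apply_eq _ _ _).symm⟩
    | add a b ha hb =>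
      obtain ⟨a, rfl⟩ := ha
      obtain ⟨b, rfl⟩ := hb
      exact ⟨a + b, BC.tmul_add _ _ _ _⟩
  have h2 : BC.ι s M (x - (p : Wk) • y) = 0 := by
    rw [map_sub, map_smulₛₗ, map_natCast, BC.ι_apply, BC.ι_apply, hz, sub_self]
  have hinj : RingHom.ker s = ⊥ := by
    rw [← RingHom.injective_iff_ker_eq_bot]
    show Function.Injective ((WittVector.frobenius : Wk →+* Wk) ^ k')
    clear * -
    induction k' with
    | zero => exact fun x y h => h
    | succ k' ih => rw [pow_succ']; exact (WittVector.frobenius_bijective p k).1.comp ih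
  have h3 := mem_of_ι_eq_zero s (Function.surjInv (frobenius_surj k')) (Function.surjInv_eq _) _ h2
  rw [hinj, Submodule.bot_smul, Submodule.mem_bot, sub_eq_zero] at h3
  exact ⟨y, h3⟩

theorem isDisplay_iff_vTopNilp (Dm : DieuMod p k M) (D : Display3n p k M)
    (hQ : ∀ x : M, x ∈ D.Q ↔ x ∈ Set.range Dm.V)
    (hV : ∀ (m : M) (h : Dm.V m ∈ D.Q), D.Vinv ⟨Dm.V m, h⟩ = m) :
    IsDisplay D ↔ Dm.VTopNilp := by
  obtain ⟨Vs, hVs, huniq⟩ := existsUnique_vSharp D (⟨1, by simp⟩ : IsNilpotent (p : k))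
  constructor
  · rintro ⟨Vs', hVs', n, hn⟩
    obtain rfl := huniq Vs' hVs'
    have h1 : ∀ m : M, ∃ y, (⇑Dm.V)^[n + 1] m = (p : Wk) • y := fun m => by
      refine mem_J_of_tmul (n + 1) _ ?_
      rw [← vSharpPow_dieu Dm D hQ hV _ hVs']
      exact hn m
    intro e
    refine ⟨e * (n + 1), fun m => ?_⟩
    suffices h2 : ∀ e m, ∃ y, (⇑Dm.V)^[e * (n + 1)] m = (p : Wk) ^ e • y by
      obtain ⟨y, hy⟩ := h2 e m
      rw [hy]
      exact Submodule.smul_mem_smul (Ideal.pow_mem_pow (Ideal.mem_span_singleton_self _) e) Submodule.mem_top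
    intro e
    induction e with
    | zero => intro m; exact ⟨m, by simp⟩
    | succ e ih =>
      intro m
      obtain ⟨y, hy⟩ := h1 m
      obtain ⟨z, hz⟩ := ih y
      refine ⟨z, ?_⟩
      rw [add_mul, one_mul, Function.iterate_add_apply, hy,
        show (p : Wk) • y = (p : Wk) ^ 1 • y by rw [pow_one], iterate_smul_p, hz, smul_smul, ← pow_add,
        add_comm]
  · intro h
    obtain ⟨n, hn⟩ := h 1
    refine ⟨Vs, hVs, n, fun m => ?_⟩
    rw [vSharpPow_dieu Dm D hQ hV _ hVs, Function.iterate_succ_apply']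
    have hnm := hn m
    rw [pow_one, Submodule.ideal_span_singleton_smul] at hnm
    obtain ⟨y, -, hy⟩ := (Submodule.mem_smul_pointwise_iff_exists _ _ _).1 hnm
    rw [← hy, map_smulₛₗ, ← BC.ι_apply, map_smulₛₗ]
    refine Submodule.smul_mem_smul (Ideal.mem_sup_right ?_) Submodule.mem_top
    simp [Ideal.mem_span_singleton_self]

end Groth.Agent.DispLib
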