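import Groth.Agent.DispLib.OfNormal
import Mathlib.LinearAlgebra.ExteriorPower.Basis

/-!
# Exterior powers of 3n-displays with a one-dimensional tangent module
-/

universe u v w

namespace Groth.Agent.DispLib

open W4c1extbt610

variable {A : Type u} [CommRing A]

/-- `N` with scalars acting through the endomorphism `σ`. -/
@[nolint unusedArguments]
def Twist (_σ : A →+* A) (N : Type v) : Type v := N

instance (σ : A →+* A) (N : Type v) [h : AddCommGroup N] : AddCommGroup (Twist σ N) := h

instance (σ : A →+* A) (N : Type v) [AddCommGroup N] [Module A N] : Module A (Twist σ N) :=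
  Module.compHom N σ

variable {M : Type v} [AddCommGroup M] [Module A M]


/-- The exterior power of a semilinear endomorphism. -/
theorem exists_mapSemilinear (σ : A →+* A) (r : ℕ) (φ : M →ₛₗ[σ] M) :
    ∃ ψ : (⋀[A]^r M) →ₛₗ[σ] (⋀[A]^r M),
      ∀ v : Fin r → M, ψ (exteriorPower.ιMulti A r v) = exteriorPower.ιMulti A r (fun i => φ (v i)) := by
  classical
  let f : M [⋀^Fin r]→ₗ[A] Twist σ (⋀[A]^r M) :=
    { toFun := fun v => exteriorPower.ιMulti A r (fun i => φ (v i))
      map_update_add' := fun v i x y => by
        rename_i inst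
        have h : ∀ z, (fun j => φ (Function.update v i z j)) = Function.update (fun j => φ (v j)) i (φ z) :=
          fun z => funext fun j => Function.apply_update (fun _ => φ) v i z j
        simp only [h, map_add]
        exact (exteriorPower.ιMulti A r).map_update_add _ i _ _
      map_update_smul' := fun v i c x => by
        rename_i inst
        have h : ∀ z, (fun j => φ (Function.update v i z j)) = Function.update (fun j => φ (v j)) i (φ z) :=
          fun z => funext fun j => Function.apply_update (fun _ => φ) v i z j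
        simp only [h, map_smulₛₗ]
        exact (exteriorPower.ιMulti A r).map_update_smul _ i _ _
      map_eq_zero_of_eq' := fun v i j h hij =>
        (exteriorPower.ιMulti A r).map_eq_zero_of_eq (fun k => φ (v k)) (congrArg φ h) hij }
  let g := exteriorPower.alternatingMapLinearEquiv f
  refine ⟨{ toFun := fun z => g z, map_add' := fun x y => map_add g x y,
            map_smul' := fun c x => map_smul g c x }, fun v => ?_⟩
  exact exteriorPower.alternatingMapLinearEquiv_apply_ιMulti f v

/-- Adding multiples of one vector `s` in every slot. -/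
theorem map_add_smul_same {N : Type w} [AddCommGroup N] [Module A N] {ι : Type*} [Fintype ι] [DecidableEq ι]
    (f : M [⋀^ι]→ₗ[A] N) (u : ι → M) (c : ι → A) (s : M) :
    f (fun i => u i + c i • s) = f u + ∑ i, c i • f (Function.update u i s) := by
  suffices h : ∀ S : Finset ι, ∀ u : ι → M, f (S.piecewise (fun i => u i + c i • s) u) =
      f u + ∑ i ∈ S, c i • f (Function.update u i s) by
    simpa using h Finset.univ u
  intro S
  induction S using Finset.induction_on with
  | empty => intro u; simp
  | @insert a S ha ih =>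
    intro u
    have hu : (S.piecewise (fun i => u i + c i • s) u) a = u a := by simp [ha]
    rw [Finset.piecewise_insert, f.map_update_add, f.map_update_smul]
    conv_lhs => arg 1; rw [show u a = (S.piecewise (fun i => u i + c i • s) u) a from hu.symm,
      Function.update_eq_self]
    rw [ih u, Finset.sum_insert ha]
    have h2 : Function.update (S.piecewise (fun i => u i + c i • s) u) a s =
        S.piecewise (fun i => Function.update u a s i + c i • s) (Function.update u a s) := by
      funext i
      by_cases hi : i = a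
      · subst hi; simp [ha]
      · by_cases hS : i ∈ S <;> simp [hi, hS]
    rw [h2, ih (Function.update u a s)]
    have h3 : ∀ i ∈ S, c i • f (Function.update (Function.update u a s) i s) = 0 := fun i hi => by
      have hne : a ≠ i := fun h => ha (h ▸ hi)
      rw [f.map_eq_zero_of_eq _ (by rw [Function.update_of_ne hne, Function.update_self, Function.update_self]) hne,
        smul_zero]
    rw [Finset.sum_eq_zero h3, add_zero]
    abel

theorem exteriorPower_projective [Module.Finite A M] [Module.Projective A M] (r : ℕ) :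
    Module.Projective A (⋀[A]^r M) := by
  obtain ⟨N, π, hπ⟩ := Module.Finite.exists_fin' A M
  obtain ⟨ι, hι⟩ := Module.projective_lifting_property π LinearMap.id hπ
  refine Module.Projective.of_split (exteriorPower.map r ι) (exteriorPower.map r π) ?_
  rw [← exteriorPower.map_comp, hι, exteriorPower.map_id]

variable {p : ℕ} [Fact p.Prime] {R : Type u} [CommRing R]
variable {P : Type v} [AddCommGroup P] [Module (WittVector p R) P]

theorem isExtPow_unique (D : Display3n p R P) (r : ℕ) {E E' : Display3n p R (⋀[WittVector p R]^r P)}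
    (h : IsExtPow D r E) (h' : IsExtPow D r E') : E' = E := by
  refine display_ext' (h'.1.trans h.1.symm) fun x hx hx' => ?_
  suffices ∃ (a : x ∈ E'.Q) (b : x ∈ E.Q), E'.Vinv ⟨x, a⟩ = E.Vinv ⟨x, b⟩ from this.2.2
  have hsp := h.1 ▸ hx'
  refine Submodule.span_induction (p := fun x _ => ∃ (a : x ∈ E'.Q) (b : x ∈ E.Q),
    E'.Vinv ⟨x, a⟩ = E.Vinv ⟨x, b⟩) ?_ ?_ ?_ ?_ hsp
  · rintro _ ⟨q, rfl⟩
    have hq := Submodule.subset_span (R := WittVector p R) (Set.mem_range_self
      (f := fun q : Fin r → D.Q => exteriorPower.ιMulti (WittVector p R) r (fun i => (q i : P))) q)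
    exact ⟨h'.1.symm ▸ hq, h.1.symm ▸ hq, by rw [h'.2, h.2]⟩
  · exact ⟨E'.Q.zero_mem, E.Q.zero_mem, (map_zero E'.Vinv).trans (map_zero E.Vinv).symm⟩
  · rintro a b - - ⟨ha, ha', hae⟩ ⟨hb, hb', hbe⟩
    exact ⟨E'.Q.add_mem ha hb, E.Q.add_mem ha' hb',
      (map_add E'.Vinv ⟨a, ha⟩ ⟨b, hb⟩).trans ((congrArg₂ (· + ·) hae hbe).trans
        (map_add E.Vinv ⟨a, ha'⟩ ⟨b, hb'⟩).symm)⟩
  · rintro c a - ⟨ha, ha', hae⟩
    refine ⟨E'.Q.smul_mem c ha, E.Q.smul_mem c ha', ?_⟩
    exact (map_smulₛₗ E'.Vinv c ⟨a, ha⟩).trans ((congrArg _ hae).trans (map_smulₛₗ E.Vinv c ⟨a, ha'⟩).symm)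

section Rank

variable (D : Display3n p R P) (L T : Submodule (WittVector p R) P) (hLT : IsCompl L T)
  (hQ : D.Q = L ⊔ IV p R • T) (t : T) (ht : ∀ y : T, ∃ a : WittVector p R, y = a • t)

include hQ in
theorem exists_components (hLT : IsCompl L T) (ht : ∀ y : T, ∃ a : WittVector p R, y = a • t) (q : P)
    (hq : q ∈ D.Q) : ∃ (l : L) (b : WittVector p R), q = l + WittVector.verschiebung b • (t : P) := by
  obtain ⟨l, hl, y, hy, rfl⟩ := Submodule.mem_sup.1 (hQ ▸ hq)
  obtain ⟨b, hb⟩ : ∃ b, y = WittVector.verschiebung b • (t : P) := by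
    refine Submodule.smul_induction_on hy (fun r hr v hv => ?_) (fun u v hu hv => ?_)
    · obtain ⟨a, ha⟩ := ht ⟨v, hv⟩
      obtain ⟨r', rfl⟩ := (mem_IV_iff r).1 hr
      refine ⟨r' * WittVector.frobenius a, ?_⟩
      rw [WittVector.verschiebung_mul_frobenius, mul_smul, show v = a • (t : P) from congrArg Subtype.val ha]
    · obtain ⟨a, rfl⟩ := hu
      obtain ⟨b, rfl⟩ := hv
      exact ⟨a + b, by rw [map_add, add_smul]⟩
  exact ⟨⟨l, hl⟩, b, by rw [hb]⟩

include hLT hQ ht in
theorem exists_extPow (r : ℕ) : ∃ E : Display3n p R (⋀[WittVector p R]^r P), IsExtPow D r E ∧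
    E.Q = LinearMap.range (exteriorPower.map r (L.subtype ∘ₗ Submodule.projectionOnto L T hLT)) ⊔
      IV p R • LinearMap.range (LinearMap.id -
        exteriorPower.map r (L.subtype ∘ₗ Submodule.projectionOnto L T hLT)) := by
  classical
  haveI := D.finite
  haveI := D.projective
  haveI := exteriorPower_projective (A := WittVector p R) (M := P) r
  let eL : P →ₗ[WittVector p R] P := L.subtype ∘ₗ Submodule.projectionOnto L T hLT
  let eT : P →ₗ[WittVector p R] P := T.subtype ∘ₗ Submodule.projectionOnto T L hLT.symm
  let ω := exteriorPower.ιMulti (WittVector p R) r (M := P)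
  set EL := exteriorPower.map r eL with hELdef
  have hEL : ∀ v : Fin r → P, EL (ω v) = ω (fun i => eL (v i)) := fun v =>
    exteriorPower.map_apply_ιMulti eL v
  have heLl : ∀ l : L, eL l = l := fun l => by simp [eL]
  have heLt : eL t = 0 := by simp [eL]
  have hidem : ∀ z, EL (EL z) = EL z := fun z => by
    rw [← LinearMap.comp_apply, hELdef, ← exteriorPower.map_comp]
    congr 2
    exact LinearMap.ext fun x => heLl _
  obtain ⟨ψ, hψ⟩ := exists_mapSemilinear (WittVector.frobenius : WittVector p R →+* WittVector p R) r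
    (phi D L T hLT hQ)
  have hψ' : ∀ (q : Fin r → L) (i : Fin r), ψ (ω (Function.update (fun j => (q j : P)) i t)) =
      ω (Function.update (fun j => D.Vinv (Submodule.inclusion (le_Q D L T hQ) (q j))) i (D.F t)) := fun q i => by
    refine (hψ _).trans (congrArg ω (funext fun j => ?_))
    rcases eq_or_ne j i with rfl | hj
    · simp only [Function.update_self]; exact phi_right D L T hLT hQ t
    · simp only [Function.update_of_ne hj]; exact phi_left D L T hLT hQ (q j)
  have hspan : Submodule.span (WittVector p R) (Set.range ψ) = ⊤ := by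
    rw [eq_top_iff]
    intro z _
    have h2 : ∀ v : Fin r → P, (∀ i, v i ∈ Set.range (phi D L T hLT hQ)) →
        ω v ∈ Submodule.span (WittVector p R) (Set.range ψ) := fun v hv => by
      choose w hw using hv
      refine Submodule.subset_span ⟨ω w, ?_⟩
      rw [hψ]
      exact congrArg ω (funext hw)
    have h3 : ∀ v : Fin r → P, ω v ∈ Submodule.span (WittVector p R) (Set.range ψ) := fun v => by
      suffices h : ∀ (S : Finset (Fin r)) (v : Fin r → P), (∀ i ∉ S, v i ∈ Set.range (phi D L T hLT hQ)) →
          ω v ∈ Submodule.span (WittVector p R) (Set.range ψ) from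
        h Finset.univ v fun i hi => absurd (Finset.mem_univ i) hi
      intro S
      induction S using Finset.induction_on with
      | empty => exact fun v hv => h2 v fun i => hv i (Finset.notMem_empty i)
      | @insert a S ha ih =>
        intro v hv
        have hva : v a ∈ Submodule.span (WittVector p R) (Set.range (phi D L T hLT hQ)) := by
          rw [span_range_phi]; exact Submodule.mem_top
        rw [← Function.update_eq_self a v]
        refine Submodule.span_induction (p := fun x _ => ω (Function.update v a x) ∈ _) ?_ ?_ ?_ ?_ hva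
        · rintro x hx
          refine ih _ fun i hi => ?_
          rcases eq_or_ne i a with rfl | hia
          · rw [Function.update_self]; exact hx
          · rw [Function.update_of_ne hia]
            exact hv i (by simp [hia, hi])
        · rw [ω.map_update_zero]; exact Submodule.zero_mem _
        · intro x y _ _ hx hy
          rw [ω.map_update_add]; exact Submodule.add_mem _ hx hy
        · intro c x _ hx
          rw [ω.map_update_smul]; exact Submodule.smul_mem _ _ hx
    have hz : z ∈ Submodule.span (WittVector p R) (Set.range ω) := by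
      rw [exteriorPower.ιMulti_span]; exact Submodule.mem_top
    refine (show Submodule.span (WittVector p R) (Set.range ω) ≤ _ from Submodule.span_le.2 ?_) hz
    rintro _ ⟨v, rfl⟩
    exact h3 v
  obtain ⟨E, hEQ, hEV, hEF⟩ := exists_display EL hidem ψ hspan
  have hwl : ∀ q : Fin r → L, EL (ω fun i => (q i : P)) = ω fun i => (q i : P) := fun q =>
    (hEL _).trans (congrArg ω (funext fun i => heLl (q i)))
  have hwt : ∀ (q : Fin r → L) (i : Fin r), EL (ω (Function.update (fun j => (q j : P)) i t)) = 0 := fun q i =>
    (hEL _).trans (ω.map_coord_zero i (by simp [heLt]))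
  have hmemL : ∀ q : Fin r → L, (ω fun i => (q i : P)) ∈ E.Q := fun q => by
    rw [hEQ]; exact Submodule.mem_sup_left ⟨_, hwl q⟩
  have hexp : ∀ (q : Fin r → L) (b : Fin r → WittVector p R),
      (ω fun i => (q i : P) + WittVector.verschiebung (b i) • (t : P)) =
        ω (fun i => (q i : P)) + ∑ i, WittVector.verschiebung (b i) • ω (Function.update (fun j => (q j : P)) i t) :=
    fun q b => map_add_smul_same ω _ _ _
  have hmem : ∀ (q : Fin r → L) (b : Fin r → WittVector p R),
      (ω fun i => (q i : P) + WittVector.verschiebung (b i) • (t : P)) ∈ E.Q := fun q b => by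
    rw [hexp]
    exact E.Q.add_mem (hmemL q) (E.Q.sum_mem fun i _ =>
      E.IV_smul_le (Submodule.smul_mem_smul (verschiebung_mem_IV p R _) Submodule.mem_top))
  have hV : ∀ (q : Fin r → L) (b : Fin r → WittVector p R),
      E.Vinv ⟨_, hmem q b⟩ = ω (fun i => D.Vinv (Submodule.inclusion (le_Q D L T hQ) (q i)) + b i • D.F t) := by
    intro q b
    refine Eq.trans ?_ (map_add_smul_same ω _ _ _).symm
    have h1 : (⟨_, hmem q b⟩ : E.Q) = ⟨_, hmemL q⟩ + ∑ i, ⟨WittVector.verschiebung (b i) • ω (Function.update (fun j => (q j : P)) i t),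
        E.IV_smul_le (Submodule.smul_mem_smul (verschiebung_mem_IV p R _) Submodule.mem_top)⟩ := by
      apply Subtype.ext
      simp only [Submodule.coe_add, Submodule.coe_sum]
      exact hexp q b
    rw [h1, map_add, map_sum]
    congr 1
    · have h2 := hEV (ω fun i => (q i : P)) (by rw [hwl]; exact hmemL q)
      simp only [hwl] at h2
      rw [h2]
      refine (hψ _).trans (congrArg ω (funext fun j => phi_left D L T hLT hQ (q j)))
    · refine Finset.sum_congr rfl fun i _ => ?_
      rw [E.Vinv_verschiebung_smul, hEF, hwt, map_zero, smul_zero, zero_add, sub_zero, hψ']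
  refine ⟨E, ⟨le_antisymm ?_ (Submodule.span_le.2 ?_), ?_⟩, hEQ⟩
  · rw [hEQ]
    refine sup_le ?_ ?_
    · rintro _ ⟨z, rfl⟩
      have hz : z ∈ Submodule.span (WittVector p R) (Set.range ω) := by
        rw [exteriorPower.ιMulti_span]; exact Submodule.mem_top
      refine Submodule.span_induction (p := fun z _ => EL z ∈ _) ?_ ?_ ?_ ?_ hz
      · rintro _ ⟨v, rfl⟩
        rw [hEL]
        exact Submodule.subset_span ⟨fun i => ⟨eL (v i), le_Q D L T hQ (Submodule.coe_mem _)⟩, rfl⟩
      · rw [map_zero]; exact Submodule.zero_mem _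
      · intro a b _ _ ha hb; rw [map_add]; exact Submodule.add_mem _ ha hb
      · intro a b _ hb; rw [map_smul]; exact Submodule.smul_mem _ _ hb
    · rw [Submodule.smul_le]
      rintro c hc _ ⟨z, rfl⟩
      have hz : z ∈ Submodule.span (WittVector p R) (Set.range ω) := by
        rw [exteriorPower.ιMulti_span]; exact Submodule.mem_top
      refine Submodule.span_induction (p := fun z _ => c • (LinearMap.id - EL : _ →ₗ[WittVector p R] _) z ∈ _) ?_ ?_ ?_ ?_ hz
      · rintro _ ⟨v, rfl⟩
        choose a ha using fun i => ht (Submodule.projectionOnto T L hLT.symm (v i))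
        have hv : v = fun i => eL (v i) + a i • (t : P) := funext fun i => by
          conv_lhs => rw [← Submodule.projection_add_projection_eq_self hLT (v i)]
          exact congrArg (eL (v i) + ·) (congrArg Subtype.val (ha i))
        rw [LinearMap.sub_apply, LinearMap.id_apply, hEL]
        nth_rewrite 1 [hv]
        rw [map_add_smul_same ω, add_sub_cancel_left, Finset.smul_sum]
        refine Submodule.sum_mem _ fun i _ => ?_
        rw [smul_smul, mul_comm, mul_smul]
        refine Submodule.smul_mem _ _ ?_
        rw [← ω.map_update_smul]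
        have hcT : c • (t : P) ∈ D.Q := D.IV_smul_le (Submodule.smul_mem_smul hc Submodule.mem_top)
        refine Submodule.subset_span ⟨Function.update (fun j => ⟨eL (v j), le_Q D L T hQ (Submodule.coe_mem _)⟩) i
          ⟨c • (t : P), hcT⟩, congrArg ω (funext fun j => ?_)⟩
        exact Function.apply_update (fun _ => Subtype.val) _ i _ j
      · rw [map_zero, smul_zero]; exact Submodule.zero_mem _
      · intro a b _ _ ha hb; rw [map_add, smul_add]; exact Submodule.add_mem _ ha hb
      · intro a b _ hb; rw [map_smul, smul_comm]; exact Submodule.smul_mem _ _ hb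
  · rintro _ ⟨q, rfl⟩
    choose l b hlb using fun i => exists_components D L T hQ t hLT ht (q i) (q i).2
    show (ω fun i => (q i : P)) ∈ E.Q
    rw [funext hlb]
    exact hmem l b
  · intro q hq
    choose l b hlb using fun i => exists_components D L T hQ t hLT ht (q i) (q i).2
    have h1 : (⟨_, hq⟩ : E.Q) = ⟨_, hmem l b⟩ := Subtype.ext (congrArg ω (funext hlb))
    rw [h1, hV]
    refine congrArg ω (funext fun i => ?_)
    rw [← D.Vinv_verschiebung_smul, ← map_add]
    exact congrArg D.Vinv (Subtype.ext (hlb i).symm)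

end Rank

theorem isAltMult_ιMulti (D : Display3n p R P) (r : ℕ) (E : Display3n p R (⋀[WittVector p R]^r P))
    (hE : IsExtPow D r E) : IsAltMult D E (exteriorPower.ιMulti (WittVector p R) r) := by
  classical
  let ω := exteriorPower.ιMulti (WittVector p R) r (M := P)
  have hm : ∀ q : Fin r → D.Q, ω (fun i => (q i : P)) ∈ E.Q := fun q =>
    hE.1 ▸ Submodule.subset_span ⟨q, rfl⟩
  refine ⟨hm, fun q => hE.2 q _, fun i x q => ?_⟩
  let qx : D.Q := ⟨WittVector.verschiebung (1 : WittVector p R) • x,
    D.IV_smul_le (Submodule.smul_mem_smul (verschiebung_mem_IV p R 1) Submodule.mem_top)⟩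
  have h1 : (fun j => ((Function.update q i qx) j : P)) =
      Function.update (fun j => (q j : P)) i (WittVector.verschiebung (1 : WittVector p R) • x) :=
    funext fun j => Function.apply_update (fun _ => Subtype.val) q i qx j
  have h2 : (fun j => D.Vinv ((Function.update q i qx) j)) =
      Function.update (fun j => D.Vinv (q j)) i (D.F x) := by
    rw [F_eq_Vinv D x]
    exact funext fun j => Function.apply_update (fun _ => D.Vinv) q i qx j
  rw [F_eq_Vinv E, ← h2, ← hE.2 (Function.update q i qx) (hm _)]
  refine congrArg E.Vinv (Subtype.ext ?_)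
  show _ = ω fun j => ((Function.update q i qx) j : P)
  rw [h1]
  exact (ω.map_update_smul _ i _ x).symm.trans rfl

theorem existsUnique_hom (D : Display3n p R P) (r : ℕ) (E : Display3n p R (⋀[WittVector p R]^r P))
    (hE : IsExtPow D r E) {P' : Type w} [AddCommGroup P'] [Module (WittVector p R) P']
    (D' : Display3n p R P') (φ : P [⋀^Fin r]→ₗ[WittVector p R] P') (hφ : IsAltMult D D' φ) :
    ∃! ψ : ⋀[WittVector p R]^r P →ₗ[WittVector p R] P',
      IsHom E D' ψ ∧ ψ.compAlternatingMap (exteriorPower.ιMulti (WittVector p R) r) = φ := by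
  let ψ := exteriorPower.alternatingMapLinearEquiv φ
  have hψ : ∀ v, ψ (exteriorPower.ιMulti (WittVector p R) r v) = φ v :=
    exteriorPower.alternatingMapLinearEquiv_apply_ιMulti φ
  let K : Submodule (WittVector p R) (⋀[WittVector p R]^r P) :=
    { carrier := {z | ∃ (h : z ∈ E.Q) (h' : ψ z ∈ D'.Q), ψ (E.Vinv ⟨z, h⟩) = D'.Vinv ⟨ψ z, h'⟩}
      zero_mem' := ⟨E.Q.zero_mem, by rw [map_zero]; exact D'.Q.zero_mem, by
        refine (congrArg ψ (map_zero E.Vinv)).trans ((map_zero ψ).trans (Eq.symm ?_))
        exact (congrArg D'.Vinv (show _ = (0 : D'.Q) from Subtype.ext (map_zero ψ))).trans (map_zero D'.Vinv)⟩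
      add_mem' := by
        rintro a b ⟨ha, ha', hae⟩ ⟨hb, hb', hbe⟩
        refine ⟨E.Q.add_mem ha hb, by rw [map_add]; exact D'.Q.add_mem ha' hb', ?_⟩
        refine (congrArg ψ (map_add E.Vinv ⟨a, ha⟩ ⟨b, hb⟩)).trans ((map_add ψ _ _).trans ?_)
        rw [hae, hbe, ← map_add]
        exact congrArg D'.Vinv (Subtype.ext (map_add ψ a b).symm)
      smul_mem' := by
        rintro c a ⟨ha, ha', hae⟩
        refine ⟨E.Q.smul_mem c ha, by rw [map_smul]; exact D'.Q.smul_mem c ha', ?_⟩
        refine (congrArg ψ (map_smulₛₗ E.Vinv c ⟨a, ha⟩)).trans ((map_smul ψ _ _).trans ?_)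
        rw [hae, ← map_smulₛₗ]
        exact congrArg D'.Vinv (Subtype.ext (map_smul ψ c a).symm) }
  have hK : E.Q ≤ K := by
    rw [hE.1, Submodule.span_le]
    rintro _ ⟨q, rfl⟩
    refine ⟨hE.1 ▸ Submodule.subset_span ⟨q, rfl⟩, by rw [hψ]; exact hφ.mapsTo q, ?_⟩
    rw [hE.2, hψ, ← hφ.vCond q]
    exact congrArg D'.Vinv (Subtype.ext (hψ _).symm)
  have hom : IsHom E D' ψ := by
    refine ⟨fun q hq => (hK hq).2.1, fun x => ?_, fun q => (hK q.2).2.2⟩
    obtain ⟨_, _, h⟩ := hK (E.IV_smul_le (Submodule.smul_mem_smul (verschiebung_mem_IV p R 1) (Submodule.mem_top (x := x))))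
    rw [F_eq_Vinv E, F_eq_Vinv D']
    exact h.trans (congrArg D'.Vinv (Subtype.ext (map_smul ψ _ x)))
  refine ⟨ψ, ⟨hom, AlternatingMap.ext hψ⟩, fun ψ' h' => ?_⟩
  refine exteriorPower.linearMap_ext (AlternatingMap.ext fun v => ?_)
  exact (AlternatingMap.congr_fun h'.2 v).trans (hψ v).symm

theorem exists_normal_rank [Nontrivial R] (L T : Submodule (WittVector p R) P) (hLT : IsCompl L T) (m : ℕ)
    (hL : Module.Free (WittVector p R) L) (hLr : Module.finrank (WittVector p R) L = m)
    [Module.Finite (WittVector p R) P] (e : T ≃ₗ[WittVector p R] WittVector p R) (r : ℕ) (hr : 1 ≤ r) :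
    ∃ L' T' : Submodule (WittVector p R) (⋀[WittVector p R]^r P), IsCompl L' T' ∧
      L' = LinearMap.range (exteriorPower.map r (L.subtype ∘ₗ Submodule.projectionOnto L T hLT)) ∧
      T' = LinearMap.range (LinearMap.id -
        exteriorPower.map r (L.subtype ∘ₗ Submodule.projectionOnto L T hLT)) ∧
      Module.Free (WittVector p R) T' ∧ Module.finrank (WittVector p R) T' = m.choose (r - 1) := by
  classical
  set W := WittVector p R with hW
  let eL : P →ₗ[W] P := L.subtype ∘ₗ Submodule.projectionOnto L T hLT
  set EL := exteriorPower.map r eL with hELdef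
  haveI : Module.Finite W L := Module.Finite.of_surjective (Submodule.projectionOnto L T hLT)
    (fun l => ⟨l, by simp⟩)
  haveI : Nontrivial W := (WittVector.constantCoeff : WittVector p R →+* R).domain_nontrivial
  let bL := Module.finBasisOfFinrankEq W L hLr
  let b : Module.Basis (Fin m ⊕ Fin 1) W P :=
    (bL.prod ((Module.Basis.singleton (Fin 1) W).map e.symm)).map (Submodule.prodEquivOfIsCompl L T hLT)
  let b' : Module.Basis (Fin (m + 1)) W P := b.reindex finSumFinEquiv
  let B := b'.exteriorPower r
  have hb : ∀ i, eL (b' i) = if i = Fin.last m then 0 else b' i := by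
    intro i
    obtain ⟨j, rfl⟩ := finSumFinEquiv.surjective i
    rcases j with j | j
    · have hne : finSumFinEquiv (Sum.inl j : Fin m ⊕ Fin 1) ≠ Fin.last m := by
        intro h
        have := congrArg Fin.val h
        simp at this
        omega
      rw [if_neg hne]
      simp [b', b, eL]
    · have he : finSumFinEquiv (Sum.inr j : Fin m ⊕ Fin 1) = Fin.last m := by
        apply Fin.ext
        simp [Fin.fin_one_eq_zero j]
      rw [if_pos he]
      simp [b', b, eL]
  have hidem : ∀ z, EL (EL z) = EL z := fun z => by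
    rw [← LinearMap.comp_apply, hELdef, ← exteriorPower.map_comp]
    congr 2
    exact LinearMap.ext fun x => by simp [eL]
  have hB : ∀ s, EL (B s) = if Fin.last m ∈ (s : Finset (Fin (m + 1))) then 0 else B s := by
    intro s
    rw [exteriorPower.basis_apply, hELdef, exteriorPower.map_apply_ιMulti_family]
    split_ifs with h
    · rw [exteriorPower.ιMulti_family]
      obtain ⟨i, hi⟩ := (Set.powersetCard.mem_range_ofFinEmbEquiv_symm_iff_mem s (Fin.last m)).2 h
      refine (exteriorPower.ιMulti W r).map_coord_zero i ?_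
      simp [hi, hb]
    · rw [exteriorPower.ιMulti_family, exteriorPower.ιMulti_family]
      congr 1
      funext i
      have hne : (Set.powersetCard.ofFinEmbEquiv.symm s) i ≠ Fin.last m := fun hi =>
        h (hi ▸ (Set.powersetCard.mem_range_ofFinEmbEquiv_symm_iff_mem s _).1 ⟨i, rfl⟩)
      simp [hb, hne]
  set L' := LinearMap.range EL
  set T' := LinearMap.range (LinearMap.id - EL : _ →ₗ[W] _)
  have hcompl : IsCompl L' T' := by
    have hk : LinearMap.ker EL = T' := by
      refine le_antisymm (fun z hz => ⟨z, by simp [LinearMap.mem_ker.1 hz]⟩) ?_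
      rintro _ ⟨z, rfl⟩
      simp [hidem]
    exact hk ▸ LinearMap.IsIdempotentElem.isCompl (f := EL) (LinearMap.ext hidem)
  let S := {s : Set.powersetCard (Fin (m + 1)) r // Fin.last m ∈ (s : Finset (Fin (m + 1)))}
  have hspan : Submodule.span W (Set.range fun s : S => B s.1) = T' := by
    refine le_antisymm (Submodule.span_le.2 ?_) ?_
    · rintro _ ⟨s, rfl⟩
      exact ⟨B s.1, by simp [hB, s.2]⟩
    · rintro _ ⟨z, rfl⟩
      rw [← B.sum_repr z, map_sum]
      refine Submodule.sum_mem _ fun s _ => ?_
      rw [map_smul]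
      refine Submodule.smul_mem _ _ ?_
      rw [LinearMap.sub_apply, LinearMap.id_apply, hB]
      split_ifs with h
      · rw [sub_zero]; exact Submodule.subset_span ⟨⟨s, h⟩, rfl⟩
      · rw [sub_self]; exact Submodule.zero_mem _
  let BT : Module.Basis S W T' :=
    (Module.Basis.span (B.linearIndependent.comp (fun s : S => s.1) Subtype.val_injective)).map
      (LinearEquiv.ofEq _ _ hspan)
  haveI : Module.Free W T' := Module.Free.of_basis BT
  haveI : Module.Finite W T' := Module.Finite.of_basis BT
  haveI : Module.Free W L' := Module.Free.of_equiv' inferInstance (LinearEquiv.ofInjective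
    (exteriorPower.map r L.subtype) (exteriorPower.map_injective (Submodule.projectionOnto L T hLT)
      (LinearMap.ext fun l => by simp)) ≪≫ₗ LinearEquiv.ofEq _ L' (by
    refine le_antisymm ?_ ?_
    · rintro _ ⟨z, rfl⟩
      refine ⟨exteriorPower.map r L.subtype z, ?_⟩
      rw [← LinearMap.comp_apply, hELdef, ← exteriorPower.map_comp]
      congr 2
      exact LinearMap.ext fun l => by simp [eL]
    · rw [show L' = LinearMap.range EL from rfl, hELdef, exteriorPower.map_comp]
      exact LinearMap.range_comp_le_range _ _))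
  have hL' : Module.finrank W L' = m.choose r := by
    rw [← hLr, ← exteriorPower.finrank_eq (R := W) (M := L)]
    symm
    refine LinearEquiv.finrank_eq (LinearEquiv.ofInjective (exteriorPower.map r L.subtype)
      (exteriorPower.map_injective (Submodule.projectionOnto L T hLT) (LinearMap.ext fun l => by simp)) ≪≫ₗ
      LinearEquiv.ofEq _ L' (le_antisymm ?_ ?_))
    · rintro _ ⟨z, rfl⟩
      refine ⟨exteriorPower.map r L.subtype z, ?_⟩
      rw [← LinearMap.comp_apply, hELdef, ← exteriorPower.map_comp]
      congr 2
      exact LinearMap.ext fun l => by simp [eL]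
    · rw [show L' = LinearMap.range EL from rfl, hELdef, exteriorPower.map_comp]
      exact LinearMap.range_comp_le_range _ _
  haveI : Module.Finite W L' := Module.Finite.range EL
  haveI : Module.Free W P := Module.Free.of_basis b'
  have htot := (Submodule.prodEquivOfIsCompl L' T' hcompl).finrank_eq
  rw [Module.finrank_prod, hL', exteriorPower.finrank_eq, Module.finrank_eq_card_basis b', Fintype.card_fin] at htot
  refine ⟨L', T', hcompl, rfl, rfl, inferInstance, ?_⟩
  obtain ⟨r, rfl⟩ := Nat.exists_eq_add_of_le' hr
  rw [Nat.choose_succ_succ'] at htot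
  rw [Nat.add_sub_cancel]
  refine Nat.add_left_cancel (n := m.choose (r + 1)) ?_
  rw [Nat.add_comm _ (m.choose r)]
  exact htot

end Groth.Agent.DispLib
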