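import Groth.Agent.DispLib.Normal

/-!
# 3n-displays from normal decompositions
-/

universe u v w

namespace Groth.Agent.DispLib

open W4c1extbt610

variable {p : ℕ} [Fact p.Prime] {R : Type u} [CommRing R]

/-- The inverse of the Verschiebung on `IV`. -/
noncomputable def vinv : IV p R →ₛₗ[(WittVector.frobenius : WittVector p R →+* WittVector p R)] WittVector p R where
  toFun x := ((mem_IV_iff (x : WittVector p R)).1 x.2).choose
  map_add' x y := by
    refine WittVector.verschiebung_injective p R ?_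
    rw [map_add, ((mem_IV_iff _).1 x.2).choose_spec, ((mem_IV_iff _).1 y.2).choose_spec,
      ((mem_IV_iff _).1 (x + y).2).choose_spec, Submodule.coe_add]
  map_smul' a x := by
    refine WittVector.verschiebung_injective p R ?_
    rw [((mem_IV_iff _).1 (a • x).2).choose_spec, smul_eq_mul, mul_comm (WittVector.frobenius a),
      WittVector.verschiebung_mul_frobenius, ((mem_IV_iff _).1 x.2).choose_spec, Submodule.coe_smul,
      smul_eq_mul, mul_comm]

theorem verschiebung_vinv (x : IV p R) : WittVector.verschiebung (vinv x) = (x : WittVector p R) :=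
  ((mem_IV_iff (x : WittVector p R)).1 x.2).choose_spec

theorem vinv_eq {x : IV p R} {a : WittVector p R} (h : (x : WittVector p R) = WittVector.verschiebung a) :
    vinv x = a :=
  WittVector.verschiebung_injective p R ((verschiebung_vinv x).trans h)

variable {P : Type v} [AddCommGroup P] [Module (WittVector p R) P]

/-- A 3n-display structure is determined by `Q`, `F` and `V⁻¹`. -/
theorem display_ext {D E : Display3n p R P} (hQ : D.Q = E.Q) (hF : ∀ x, D.F x = E.F x)
    (hV : ∀ (x : P) (h : x ∈ D.Q) (h' : x ∈ E.Q), D.Vinv ⟨x, h⟩ = E.Vinv ⟨x, h'⟩) : D = E := by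
  obtain ⟨Q, F, Vi, _, _, _, _, _, _⟩ := D
  obtain ⟨Q', F', Vi', _, _, _, _, _, _⟩ := E
  obtain rfl : Q = Q' := hQ
  obtain rfl : F = F' := LinearMap.ext hF
  obtain rfl : Vi = Vi' := LinearMap.ext fun x => hV x.1 x.2 x.2
  rfl

/-- A display structure is determined by `Q` and `V⁻¹`. -/
theorem display_ext' {D E : Display3n p R P} (hQ : D.Q = E.Q)
    (hV : ∀ (x : P) (h : x ∈ D.Q) (h' : x ∈ E.Q), D.Vinv ⟨x, h⟩ = E.Vinv ⟨x, h'⟩) : D = E :=
  display_ext hQ (fun x => by rw [F_eq_Vinv, F_eq_Vinv]; exact hV _ _ _) hV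

variable [Module.Finite (WittVector p R) P] [Module.Projective (WittVector p R) P]
variable (eL : P →ₗ[WittVector p R] P) (hid : ∀ x, eL (eL x) = eL x)
  (φ : P →ₛₗ[(WittVector.frobenius : WittVector p R →+* WittVector p R)] P)
  (hφ : Submodule.span (WittVector p R) (Set.range φ) = ⊤)

theorem exists_coords :
    ∃ (N : ℕ) (θ : Fin N → (P →ₗ[WittVector p R] WittVector p R)) (t : Fin N → P),
      (∀ x, x - eL x = ∑ i, θ i (x - eL x) • t i) := by
  obtain ⟨N, π, hπ⟩ := Module.Finite.exists_fin' (WittVector p R) P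
  obtain ⟨ι, hι⟩ := Module.projective_lifting_property π LinearMap.id hπ
  refine ⟨N, fun i => LinearMap.proj i ∘ₗ ι, fun i => π (Pi.single i 1), fun x => ?_⟩
  conv_lhs => rw [← LinearMap.id_apply (R := WittVector p R) (x - eL x), ← hι, LinearMap.comp_apply,
    pi_eq_sum_univ' (ι (x - eL x)), map_sum]
  simp only [map_smul, LinearMap.comp_apply, LinearMap.proj_apply]

include hid hφ in
theorem exists_display : ∃ D : Display3n p R P,
    D.Q = LinearMap.range eL ⊔ IV p R • LinearMap.range (LinearMap.id - eL) ∧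
    (∀ x (h : eL x ∈ D.Q), D.Vinv ⟨eL x, h⟩ = φ (eL x)) ∧
    ∀ x, D.F x = (p : WittVector p R) • φ (eL x) + φ (x - eL x) := by
  classical
  obtain ⟨N, θ, t, ht⟩ := exists_coords eL
  set eT := LinearMap.id - eL with heT
  let t' := fun i => eT (t i)
  let θ' := fun i => θ i ∘ₗ eT
  have heTT : ∀ x, eT (eT x) = eT x := fun x => by simp [heT, hid]
  have heTL : ∀ x, eT (eL x) = 0 := fun x => by simp [heT, hid]
  have hdec : ∀ x, eT x = ∑ i, θ' i x • t' i := fun x => by
    conv_lhs => rw [← heTT]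
    rw [show eT x = x - eL x from rfl, ht x, map_sum]
    simp only [map_smul]
    rfl
  have hcompl : IsCompl (LinearMap.range eL) (LinearMap.range eT) := by
    constructor
    · rw [disjoint_iff, eq_bot_iff]
      rintro _ ⟨⟨a, rfl⟩, b, hb⟩
      rw [Submodule.mem_bot]
      have h1 := congrArg eT hb
      rw [heTT, heTL] at h1
      rw [← hb, h1]
    · rw [codisjoint_iff, eq_top_iff]
      exact fun x _ => Submodule.mem_sup.2 ⟨eL x, ⟨x, rfl⟩, eT x, ⟨x, rfl⟩, by simp [heT]⟩
  set Q := LinearMap.range eL ⊔ IV p R • LinearMap.range eT with hQdef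
  have hθ : ∀ z ∈ Q, ∀ i, θ' i z ∈ IV p R := fun z hz i => by
    obtain ⟨_, ⟨a, rfl⟩, b, hb, rfl⟩ := Submodule.mem_sup.1 hz
    rw [map_add]
    refine Ideal.add_mem _ (by simp [θ', heTL]) ?_
    refine Submodule.smul_induction_on hb (fun r hr v _ => ?_) (fun u v hu hv => ?_)
    · rw [map_smul, smul_eq_mul]; exact Ideal.mul_mem_right _ _ hr
    · rw [map_add]; exact Ideal.add_mem _ hu hv
  let c : ∀ i, Q →ₗ[WittVector p R] IV p R := fun i =>
    (θ' i ∘ₗ Q.subtype).codRestrict (IV p R) fun z => hθ z.1 z.2 i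
  let B : Fin N → (Q →ₛₗ[(WittVector.frobenius : WittVector p R →+* WittVector p R)] P) := fun i =>
    { toFun := fun z => vinv (c i z) • φ (t' i)
      map_add' := fun a b => by rw [map_add, map_add, add_smul]
      map_smul' := fun r a => by rw [map_smul, map_smulₛₗ, smul_eq_mul, mul_smul] }
  let Vi : Q →ₛₗ[(WittVector.frobenius : WittVector p R →+* WittVector p R)] P :=
    φ.comp (eL ∘ₗ Q.subtype) + ∑ i, B i
  have hVi : ∀ z : Q, Vi z = φ (eL z) + ∑ i, vinv (c i z) • φ (t' i) := fun z => by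
    simp only [Vi, LinearMap.add_apply, LinearMap.sum_apply]
    rfl
  have hViL : ∀ x (h : eL x ∈ Q), Vi ⟨eL x, h⟩ = φ (eL x) := fun x h => by
    rw [hVi, hid]
    refine add_eq_left.2 (Finset.sum_eq_zero fun i _ => ?_)
    have h1 : c i ⟨eL x, h⟩ = 0 := Subtype.ext (by simp [c, θ', heTL])
    rw [h1, map_zero, zero_smul]
  let F : P →ₛₗ[(WittVector.frobenius : WittVector p R →+* WittVector p R)] P :=
    (p : WittVector p R) • φ.comp eL + φ.comp eT
  have hle : IV p R • (⊤ : Submodule (WittVector p R) P) ≤ Q := by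
    rw [Submodule.smul_le]
    intro r hr x _
    have hx : r • x = eL (r • x) + r • eT x := by simp [heT, smul_sub]
    rw [hx]
    exact Submodule.add_mem_sup ⟨_, rfl⟩ (Submodule.smul_mem_smul hr ⟨x, rfl⟩)
  have hV1 : ∀ (w : WittVector p R) (x : P),
      Vi ⟨WittVector.verschiebung w • x, hle (Submodule.smul_mem_smul (verschiebung_mem_IV p R w)
        Submodule.mem_top)⟩ = w • F x := fun w x => by
    rw [hVi]
    have h1 : ∀ i, vinv (c i ⟨WittVector.verschiebung w • x, hle (Submodule.smul_mem_smul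
        (verschiebung_mem_IV p R w) Submodule.mem_top)⟩) = w * WittVector.frobenius (θ' i x) := fun i => by
      apply vinv_eq
      rw [WittVector.verschiebung_mul_frobenius]
      simp [c, map_smul]
    simp only [h1, mul_smul, ← map_smulₛₗ φ, ← Finset.smul_sum, ← map_sum, ← hdec]
    rw [map_smul, map_smulₛₗ, WittVector.frobenius_verschiebung, mul_smul]
    simp only [F, LinearMap.add_apply, LinearMap.smul_apply, LinearMap.comp_apply, smul_add,
      smul_smul, mul_comm]
  refine ⟨⟨Q, F, Vi, inferInstance, inferInstance, hle, ⟨_, _, hcompl, rfl⟩, ?_, hV1⟩, rfl, hViL,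
    fun x => rfl⟩
  rw [eq_top_iff, ← hφ, Submodule.span_le]
  rintro _ ⟨x, rfl⟩
  have hx : φ x = Vi ⟨eL x, Submodule.mem_sup_left ⟨x, rfl⟩⟩ +
      ((1 : WittVector p R) • F (eT x)) := by
    rw [hViL, one_smul]
    simp only [F, LinearMap.add_apply, LinearMap.smul_apply, LinearMap.comp_apply, heTT]
    rw [show eL (eT x) = 0 by simp [heT, hid], map_zero, smul_zero, zero_add, ← map_add]
    simp [heT]
  rw [SetLike.mem_coe, hx, ← hV1]
  exact Submodule.add_mem _ (Submodule.subset_span ⟨_, rfl⟩) (Submodule.subset_span ⟨_, rfl⟩)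

end Groth.Agent.DispLib
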