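import Mathlib.RingTheory.WittVector.Identities
import Mathlib.RingTheory.WittVector.Frobenius
import Mathlib.RingTheory.WittVector.Teichmuller
import Mathlib.Algebra.TrivSqZeroExt.Basic
import Mathlib.Data.Rat.Cast.Defs
import Mathlib.Tactic.Ring
import Groth.Agent.DispLib.OfNormal

/-!
# Witt vectors with coefficients in a square-zero ideal
-/

universe u

namespace Groth.Agent.DispLib

open WittVector

variable {p : ℕ} [Fact p.Prime]

local notation "TQ" => TrivSqZeroExt ℚ (ℚ × ℚ)
local notation "TZ" => TrivSqZeroExt ℤ (ℤ × ℤ)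

/-- The inclusion `ℤ ⊕ ℤ² → ℚ ⊕ ℚ²` of trivial square-zero extensions. -/
noncomputable def tzToQ : TZ →+* TQ where
  toFun x := TrivSqZeroExt.inl ((x.fst : ℤ) : ℚ) +
    TrivSqZeroExt.inr ((((x.snd).1 : ℤ) : ℚ), (((x.snd).2 : ℤ) : ℚ))
  map_one' := by ext <;> simp
  map_zero' := by ext <;> simp
  map_mul' x y := by ext <;> simp <;> ring
  map_add' x y := by ext <;> simp

theorem tzToQ_injective : Function.Injective tzToQ := fun x y h => by
  have h1 := congrArg TrivSqZeroExt.fst h
  have h2 := congrArg TrivSqZeroExt.snd h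
  simp [tzToQ] at h1 h2
  exact TrivSqZeroExt.ext h1 (Prod.ext h2.1 h2.2)

theorem map_frobenius_comm {A B : Type*} [CommRing A] [CommRing B] (g : A →+* B) (x : WittVector p A) :
    WittVector.map g (WittVector.frobenius x) = WittVector.frobenius (WittVector.map g x) := by
  refine WittVector.ext fun n => ?_
  rw [map_coeff, coeff_frobenius, coeff_frobenius, MvPolynomial.aeval_def, MvPolynomial.eval₂_comp_left,
    RingHom.ext_int (g.comp (algebraMap ℤ A)) (algebraMap ℤ B), MvPolynomial.aeval_def]
  exact congrArg₂ _ (funext fun i => (map_coeff g x i).symm) rfl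

theorem ghost_injective : Function.Injective (fun x : WittVector p TQ => fun n => ghostComponent n x) := by
  have h : IsUnit (p : TQ) := by
    have h1 : (p : TQ) = algebraMap ℚ TQ (p : ℚ) := by simp
    rw [h1]
    exact RingHom.isUnit_map _ (isUnit_iff_ne_zero.2 (Nat.cast_ne_zero.2 (Fact.out : p.Prime).ne_zero))
  haveI : Invertible (p : TQ) := h.invertible
  exact (ghostMap.bijective_of_invertible p TQ).1

theorem inr_pow_prime (m : ℚ × ℚ) (n : ℕ) :
    (TrivSqZeroExt.inr m : TQ) ^ p ^ (n + 1) = 0 := by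
  refine pow_eq_zero_of_le (m := 2) ?_ (by rw [pow_two, TrivSqZeroExt.inr_mul_inr])
  exact (Fact.out : p.Prime).two_le.trans (Nat.le_self_pow (Nat.succ_ne_zero n) p)

theorem ghost_teichmuller (x : TQ) (n : ℕ) : ghostComponent n (teichmuller p x) = x ^ p ^ n :=
  ghostComponent_teichmuller p x n

theorem tz_teichmuller_add (a b : ℤ × ℤ) :
    teichmuller p (TrivSqZeroExt.inr a + TrivSqZeroExt.inr b : TZ) =
      teichmuller p (TrivSqZeroExt.inr a : TZ) + teichmuller p (TrivSqZeroExt.inr b : TZ) := by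
  apply map_injective tzToQ tzToQ_injective
  rw [map_teichmuller, map_add (WittVector.map tzToQ), map_teichmuller, map_teichmuller, map_add tzToQ]
  apply ghost_injective
  funext n
  simp only [map_add, ghost_teichmuller]
  rcases n with _ | n
  · simp
  · have h : ∀ c : ℤ × ℤ, tzToQ (TrivSqZeroExt.inr c) =
        TrivSqZeroExt.inr ((c.1 : ℚ), (c.2 : ℚ)) := fun c =>
      TrivSqZeroExt.ext (by simp [tzToQ, TrivSqZeroExt.fst, TrivSqZeroExt.inr])
        (by simp [tzToQ, TrivSqZeroExt.snd, TrivSqZeroExt.inr])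
    rw [h, h, inr_pow_prime, inr_pow_prime, add_zero, ← TrivSqZeroExt.inr_add, inr_pow_prime]

theorem tz_frobenius_teichmuller (a : ℤ × ℤ) :
    WittVector.frobenius (teichmuller p (TrivSqZeroExt.inr a : TZ)) = 0 := by
  apply map_injective tzToQ tzToQ_injective
  rw [map_zero, map_frobenius_comm, map_teichmuller]
  apply ghost_injective
  funext n
  simp only [map_zero, ghostComponent_frobenius, ghost_teichmuller]
  have h : tzToQ (TrivSqZeroExt.inr a) = TrivSqZeroExt.inr ((a.1 : ℚ), (a.2 : ℚ)) :=
    TrivSqZeroExt.ext (by simp [tzToQ, TrivSqZeroExt.fst, TrivSqZeroExt.inr])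
      (by simp [tzToQ, TrivSqZeroExt.snd, TrivSqZeroExt.inr])
  rw [h, inr_pow_prime]

variable {S : Type u} [CommRing S]

/-- Two mutually annihilating square-zero elements give a map out of `ℤ ⊕ ℤ²`. -/
noncomputable def sqZeroLift (a b : S) (ha : a * a = 0) (hab : a * b = 0) (hb : b * b = 0) : TZ →+* S where
  toFun x := (x.fst : S) + ((x.snd).1 : S) * a + ((x.snd).2 : S) * b
  map_one' := by simp
  map_zero' := by simp
  map_mul' x y := by
    simp only [TrivSqZeroExt.fst_mul, TrivSqZeroExt.snd_mul, Prod.fst_add, Prod.snd_add,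
      Prod.smul_fst, Prod.smul_snd, smul_eq_mul, MulOpposite.smul_eq_mul_unop, MulOpposite.unop_op,
      Int.cast_mul, Int.cast_add]
    linear_combination (-(((x.snd).1 : S) * ((y.snd).1 : S))) * ha -
      (((x.snd).1 : S) * ((y.snd).2 : S) + ((x.snd).2 : S) * ((y.snd).1 : S)) * hab -
      (((x.snd).2 : S) * ((y.snd).2 : S)) * hb
  map_add' x y := by
    simp only [TrivSqZeroExt.fst_add, TrivSqZeroExt.snd_add, Prod.fst_add, Prod.snd_add, Int.cast_add]
    ring

theorem sqZeroLift_inr (a b : S) (ha hab hb) (c : ℤ × ℤ) :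
    sqZeroLift a b ha hab hb (TrivSqZeroExt.inr c) = (c.1 : S) * a + (c.2 : S) * b := by
  simp [sqZeroLift]

theorem teichmuller_add_of_sq_zero {a b : S} (ha : a * a = 0) (hab : a * b = 0) (hb : b * b = 0) :
    teichmuller p (a + b) = teichmuller p a + teichmuller p b := by
  have h := congrArg (WittVector.map (sqZeroLift a b ha hab hb))
    (tz_teichmuller_add (p := p) ((1 : ℤ), (0 : ℤ)) ((0 : ℤ), (1 : ℤ)))
  rw [map_teichmuller, map_add (WittVector.map (sqZeroLift a b ha hab hb)), map_teichmuller,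
    map_teichmuller, map_add (sqZeroLift a b ha hab hb), sqZeroLift_inr, sqZeroLift_inr] at h
  simp only [Int.cast_one, Int.cast_zero, one_mul, zero_mul, add_zero, zero_add] at h
  exact h

theorem frobenius_teichmuller_of_sq_zero {a : S} (ha : a * a = 0) :
    WittVector.frobenius (teichmuller p a) = 0 := by
  have h := congrArg (WittVector.map (sqZeroLift a a ha ha ha))
    (tz_frobenius_teichmuller (p := p) ((1 : ℤ), (0 : ℤ)))
  rw [map_zero, map_frobenius_comm, map_teichmuller, sqZeroLift_inr] at h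
  simp only [Int.cast_one, Int.cast_zero, one_mul, zero_mul, add_zero, zero_add] at h
  exact h

/-- The Witt vectors with coefficients in an ideal. -/
noncomputable def WK (b : Ideal S) : Ideal (WittVector p S) :=
  RingHom.ker (WittVector.map (Ideal.Quotient.mk b))

theorem mem_WK {b : Ideal S} {x : WittVector p S} : x ∈ WK b ↔ ∀ n, x.coeff n ∈ b := by
  rw [WK, RingHom.mem_ker, WittVector.ext_iff]
  simp [map_coeff, Ideal.Quotient.eq_zero_iff_mem]

variable {b : Ideal S}

theorem teichmuller_mem_WK {a : S} (ha : a ∈ b) : teichmuller p a ∈ WK b := by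
  rw [mem_WK]
  rintro (_ | n)
  · exact ha
  · exact b.zero_mem

theorem mem_WK_of_verschiebung {z : WittVector p S} (h : verschiebung z ∈ WK b) : z ∈ WK b :=
  mem_WK.2 fun n => mem_WK.1 h (n + 1)

theorem sub_teichmuller_mem_IV (x : WittVector p S) :
    x - teichmuller p (x.coeff 0) ∈ W4c1extbt610.IV p S := by
  rw [IV_eq_ker, RingHom.mem_ker, map_sub]
  exact sub_self _

theorem sub_teichmuller_mem_WK {x : WittVector p S} (hx : x ∈ WK b) :
    x - teichmuller p (x.coeff 0) ∈ WK b :=
  Ideal.sub_mem _ hx (teichmuller_mem_WK (mem_WK.1 hx 0))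

/-- The shift on `WK b`: `x = [x₀] + V (shift x)`. -/
noncomputable def shiftK (x : WK (p := p) b) : WK (p := p) b :=
  ⟨vinv ⟨(x : WittVector p S) - teichmuller p ((x : WittVector p S).coeff 0), sub_teichmuller_mem_IV _⟩,
    mem_WK_of_verschiebung (by rw [verschiebung_vinv]; exact sub_teichmuller_mem_WK x.2)⟩

theorem eq_teichmuller_add (x : WK (p := p) b) :
    (x : WittVector p S) = teichmuller p ((x : WittVector p S).coeff 0) + verschiebung (shiftK x : WittVector p S) := by
  rw [shiftK, verschiebung_vinv]; ring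

variable (hsq : ∀ a ∈ b, ∀ c ∈ b, a * c = 0) (hp : ∀ a ∈ b, (p : S) * a = 0)

include hsq in
theorem coe_shiftK_add (x y : WK (p := p) b) : shiftK (x + y) = shiftK x + shiftK y := by
  apply Subtype.ext
  apply verschiebung_injective p S
  rw [Submodule.coe_add, map_add, shiftK, shiftK, shiftK, verschiebung_vinv, verschiebung_vinv,
    verschiebung_vinv]
  simp only [Submodule.coe_add, WittVector.add_coeff_zero]
  rw [teichmuller_add_of_sq_zero (hsq _ (mem_WK.1 x.2 0) _ (mem_WK.1 x.2 0))
    (hsq _ (mem_WK.1 x.2 0) _ (mem_WK.1 y.2 0)) (hsq _ (mem_WK.1 y.2 0) _ (mem_WK.1 y.2 0))]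
  ring

include hsq in
theorem coe_shiftK_smul (w : WittVector p S) (x : WK (p := p) b) :
    shiftK (w • x) = WittVector.frobenius w • shiftK x := by
  apply Subtype.ext
  apply verschiebung_injective p S
  rw [Submodule.coe_smul, smul_eq_mul, shiftK, verschiebung_vinv, mul_comm (WittVector.frobenius w),
    verschiebung_mul_frobenius, shiftK, verschiebung_vinv]
  obtain ⟨z, hz⟩ := (mem_IV_iff _).1 (sub_teichmuller_mem_IV w)
  have h2 : (w - teichmuller p (w.coeff 0)) * teichmuller p ((x : WittVector p S).coeff 0) = 0 := by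
    rw [← hz, ← verschiebung_mul_frobenius,
      frobenius_teichmuller_of_sq_zero (hsq _ (mem_WK.1 x.2 0) _ (mem_WK.1 x.2 0)), mul_zero, map_zero]
  rw [sub_mul, sub_eq_zero, ← map_mul] at h2
  simp only [Submodule.coe_smul, smul_eq_mul, WittVector.mul_coeff_zero, ← h2]
  ring

include hsq hp in
theorem natCast_mul_WK {x : WittVector p S} (hx : x ∈ WK b) : (p : WittVector p S) * x = 0 := by
  refine WittVector.ext fun n => ?_
  induction n generalizing x with
  | zero =>
    rw [WittVector.zero_coeff, WittVector.mul_coeff_zero]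
    show WittVector.constantCoeff (p : WittVector p S) * _ = 0
    rw [map_natCast]
    exact hp _ (mem_WK.1 hx 0)
  | succ n ih =>
    have hn : ∀ k : ℕ, (k : WittVector p S) * teichmuller p (x.coeff 0) = teichmuller p ((k : S) * x.coeff 0) := by
      intro k
      induction k with
      | zero => simp
      | succ k ihk =>
        have h0 := hsq _ (mem_WK.1 hx 0) _ (mem_WK.1 hx 0)
        rw [Nat.cast_succ, Nat.cast_succ, add_mul, add_mul, one_mul, one_mul, ihk,
          teichmuller_add_of_sq_zero (by linear_combination ((k : S) * (k : S)) * h0)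
            (by linear_combination (k : S) * h0) h0]
    rw [show x = _ from eq_teichmuller_add ⟨x, hx⟩]
    rw [mul_add, hn, hp _ (mem_WK.1 hx 0), teichmuller_zero, zero_add, ← nsmul_eq_mul, ← map_nsmul,
      verschiebung_coeff_succ, nsmul_eq_mul, ih (shiftK ⟨x, hx⟩).2, WittVector.zero_coeff,
      WittVector.zero_coeff]

include hsq hp in
theorem frobenius_WK {x : WittVector p S} (hx : x ∈ WK b) : WittVector.frobenius x = 0 := by
  rw [show x = _ from eq_teichmuller_add ⟨x, hx⟩, map_add,
    frobenius_teichmuller_of_sq_zero (hsq _ (mem_WK.1 hx 0) _ (mem_WK.1 hx 0)), zero_add,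
    frobenius_verschiebung, mul_comm, natCast_mul_WK hsq hp (shiftK ⟨x, hx⟩).2]

include hsq hp in
theorem mul_WK_eq_zero {j x : WittVector p S}
    (hj : j ∈ W4c1extbt610.IV p S ⊔ Ideal.span {(p : WittVector p S)}) (hx : x ∈ WK b) : j * x = 0 := by
  obtain ⟨v, hv, q, hq, rfl⟩ := Submodule.mem_sup.1 hj
  obtain ⟨a, rfl⟩ := (mem_IV_iff v).1 hv
  obtain ⟨c, rfl⟩ := Ideal.mem_span_singleton.1 hq
  rw [add_mul, ← verschiebung_mul_frobenius, frobenius_WK hsq hp hx, mul_zero, map_zero, zero_add,
    mul_assoc, natCast_mul_WK hsq hp ((WK b).mul_mem_left c hx)]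

end Groth.Agent.DispLib
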