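import Groth.Agent.DispLib.Nilp
import Groth.Agent.DispLib.SqZero

/-!
# Rigidity of homomorphisms of displays
-/

universe u v w

namespace Groth.Agent.DispLib

open W4c1extbt610 Dieu

variable {p : ℕ} [Fact p.Prime]

/-- One more twist: `G ∘ H` for a `σ`-semilinear endomorphism `G`. -/
def compPow {A : Type*} [CommRing A] (σ : A →+* A) {M N : Type*} [AddCommGroup M] [Module A M]
    [AddCommGroup N] [Module A N] (G : M →ₛₗ[σ] M) (n : ℕ) (H : N →ₛₗ[σ ^ n] M) :
    N →ₛₗ[σ ^ (n + 1)] M where
  toFun x := G (H x)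
  map_add' x y := by rw [map_add, map_add]
  map_smul' r x := by
    rw [map_smulₛₗ, map_smulₛₗ, ← Dieu.comp_pow_eq_pow_succ σ n]
    rfl

theorem compPow_apply {A : Type*} [CommRing A] (σ : A →+* A) {M N : Type*} [AddCommGroup M] [Module A M]
    [AddCommGroup N] [Module A N] (G : M →ₛₗ[σ] M) (n : ℕ) (H : N →ₛₗ[σ ^ n] M) (x : N) :
    compPow σ G n H x = G (H x) := rfl

section Core

variable {S : Type u} [CommRing S] {b : Ideal S}
variable {P P' : Type v} [AddCommGroup P] [Module (WittVector p S) P]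
variable [AddCommGroup P'] [Module (WittVector p S) P']

theorem hom_eq_zero_of_sq_zero (hsq : ∀ a ∈ b, ∀ c ∈ b, a * c = 0) (hp : ∀ a ∈ b, (p : S) * a = 0)
    (D : Display3n p S P) (hD : IsDisplay D) (D' : Display3n p S P')
    (ξ : P →ₗ[WittVector p S] P') (hξ : IsHom D D' ξ)
    (hval : ∀ x, ξ x ∈ WK (p := p) b • (⊤ : Submodule (WittVector p S) P')) : ξ = 0 := by
  classical
  haveI := D'.finite
  haveI := D'.projective
  obtain ⟨L, T, hLT, hQ⟩ := D'.exists_normal
  let eL : P' →ₗ[WittVector p S] P' := L.subtype ∘ₗ Submodule.projectionOnto L T hLT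
  obtain ⟨N, θ, t, ht⟩ := exists_coords eL
  set eT := LinearMap.id - eL with heT
  let M : Submodule (WittVector p S) P' := WK (p := p) b • ⊤
  have hlin : ∀ (f : P' →ₗ[WittVector p S] WittVector p S), ∀ z ∈ M, f z ∈ WK b := fun f z hz => by
    refine Submodule.smul_induction_on hz (fun r hr v _ => ?_) (fun u v hu hv => ?_)
    · rw [map_smul, smul_eq_mul]; exact Ideal.mul_mem_right _ _ hr
    · rw [map_add]; exact Ideal.add_mem _ hu hv
  let c : Fin N → (M →ₗ[WittVector p S] WK (p := p) b) := fun i =>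
    ((θ i ∘ₗ eT) ∘ₗ M.subtype).codRestrict (WK b) fun z => hlin (θ i ∘ₗ eT) z.1 z.2
  let G : M →ₛₗ[(WittVector.frobenius : WittVector p S →+* WittVector p S)] M :=
    { toFun := fun z => ∑ i, ⟨(shiftK (c i z) : WittVector p S) • D'.F (eT (t i)),
        Submodule.smul_mem_smul (shiftK (c i z)).2 Submodule.mem_top⟩
      map_add' := fun z z' => by
        apply Subtype.ext
        simp only [Submodule.coe_sum, Submodule.coe_add, map_add, coe_shiftK_add hsq, add_smul,
          Finset.sum_add_distrib]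
      map_smul' := fun r z => by
        apply Subtype.ext
        simp only [Submodule.coe_sum, Submodule.coe_smul, map_smul, coe_shiftK_smul hsq, smul_eq_mul,
          mul_smul, Finset.smul_sum] }
  have hG : ∀ (z : M) (hzQ : (z : P') ∈ D'.Q), (G z : P') = D'.Vinv ⟨z, hzQ⟩ := by
    intro z hzQ
    have heLQ : ∀ x, eL x ∈ D'.Q := fun x => le_Q D' L T hQ (Submodule.coe_mem _)
    have hL0 : D'.Vinv ⟨eL z, heLQ _⟩ = 0 := by
      suffices h : ∀ y ∈ M, ∀ h : eL y ∈ D'.Q, D'.Vinv ⟨eL y, h⟩ = 0 from h _ z.2 _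
      intro y hy
      refine Submodule.smul_induction_on hy (fun r hr v _ h => ?_) (fun u v hu hv h => ?_)
      · have h1 : (⟨eL (r • v), h⟩ : D'.Q) = r • ⟨eL v, heLQ v⟩ := Subtype.ext (map_smul eL r v)
        rw [h1, map_smulₛₗ, frobenius_WK hsq hp hr, zero_smul]
      · have h1 : (⟨eL (u + v), h⟩ : D'.Q) = ⟨eL u, heLQ u⟩ + ⟨eL v, heLQ v⟩ := Subtype.ext (map_add eL u v)
        rw [h1, map_add, hu, hv, add_zero]
    have heLt : ∀ x ∈ IV p S • T, eL x = 0 := fun x hx => by
      refine Submodule.smul_induction_on hx (fun r _ v hv => ?_) (fun u v hu hv => ?_)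
      · rw [map_smul, show eL v = 0 by simp [eL, Submodule.projectionOnto_apply_right hLT ⟨v, hv⟩], smul_zero]
      · rw [map_add, hu, hv, add_zero]
    have hTIV : eT (z : P') ∈ IV p S • T := by
      obtain ⟨l, hl, y, hy, hly⟩ := Submodule.mem_sup.1 (hQ ▸ hzQ)
      have h1 : eT (z : P') = y := by
        rw [← hly, heT, LinearMap.sub_apply, LinearMap.id_apply, map_add, heLt y hy,
          show eL l = l by simp [eL, Submodule.projectionOnto_apply_left hLT ⟨l, hl⟩]]
        abel
      rw [h1]; exact hy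
    have hθ : ∀ i, (c i z : WittVector p S) = WittVector.verschiebung (shiftK (c i z) : WittVector p S) := by
      intro i
      have h1 : (c i z : WittVector p S) ∈ IV p S := by
        show θ i (eT z) ∈ IV p S
        refine Submodule.smul_induction_on hTIV (fun r hr v _ => ?_) (fun u v hu hv => ?_)
        · rw [map_smul, smul_eq_mul]; exact Ideal.mul_mem_right _ _ hr
        · rw [map_add]; exact Ideal.add_mem _ hu hv
      rw [IV_eq_ker, RingHom.mem_ker] at h1
      conv_lhs => rw [eq_teichmuller_add (c i z)]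
      rw [show (c i z : WittVector p S).coeff 0 = 0 from h1, WittVector.teichmuller_zero, zero_add]
    have hdec : (z : P') = eL z + ∑ i, WittVector.verschiebung (shiftK (c i z) : WittVector p S) • eT (t i) := by
      have h1 : ∑ i, WittVector.verschiebung (shiftK (c i z) : WittVector p S) • eT (t i) = eT (eT z) := by
        rw [show eT (z : P') = (z : P') - eL z from rfl, ht z, map_sum]
        refine Finset.sum_congr rfl fun i _ => ?_
        rw [map_smul, ← hθ]
        rfl
      rw [h1, heT]
      simp [show eL (eL z) = eL z by simp [eL]]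
    have h2 : (⟨z, hzQ⟩ : D'.Q) = ⟨eL z, heLQ _⟩ + ∑ i, ⟨WittVector.verschiebung (shiftK (c i z) : WittVector p S) • eT (t i),
        D'.IV_smul_le (Submodule.smul_mem_smul (verschiebung_mem_IV p S _) Submodule.mem_top)⟩ := by
      apply Subtype.ext
      simp only [Submodule.coe_add, Submodule.coe_sum]
      exact hdec
    rw [h2, map_add, map_sum, hL0, zero_add]
    simp only [D'.Vinv_verschiebung_smul]
    exact Submodule.coe_sum M _ _
  let ξM : P →ₗ[WittVector p S] M := ξ.codRestrict M hval
  obtain ⟨Vs, hVs, n, hn⟩ := hD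
  have hone : ∀ x, ξM x = BC.lift _ (G.comp ξM) (Vs x) := fun x => by
    refine LinearMap.congr_fun (eq_of_vSharp D (f₁ := ξM)
      (f₂ := (BC.lift _ (G.comp ξM)).comp Vs) fun q => ?_) x
    rw [LinearMap.comp_apply, vSharp_Vinv D hVs, BC.lift_tmul, one_smul]
    apply Subtype.ext
    rw [LinearMap.comp_apply, hG _ (hξ.mapsTo q q.2)]
    exact hξ.comm_Vinv q
  have hiter : ∀ m, ∃ H : P →ₛₗ[((WittVector.frobenius : WittVector p S →+* WittVector p S) ^ (m + 1))] M,
      ∀ x, ξM x = BC.lift _ H (vSharpPow Vs m x) := by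
    intro m
    induction m with
    | zero =>
      refine ⟨{ toFun := fun x => G (ξM x)
                map_add' := fun x y => by rw [map_add, map_add]
                map_smul' := fun r x => by rw [map_smul, map_smulₛₗ, pow_one] }, fun x => ?_⟩
      rw [hone x, vSharpPow_zero_apply]
      generalize Vs x = z
      induction z using BC.induction_on (WittVector.frobenius : WittVector p S →+* WittVector p S) with
      | zero => simp only [map_zero]
      | tmul a y => rw [BC.castHom_tmul, BC.lift_tmul, BC.lift_tmul]; rfl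
      | add a b ha hb => simp only [map_add, ha, hb]
    | succ m ih =>
      obtain ⟨H, hH⟩ := ih
      refine ⟨compPow _ G (m + 1) H, fun x => ?_⟩
      rw [hone x, vSharpPow_succ_apply]
      generalize Vs x = z
      induction z using BC.induction_on (WittVector.frobenius : WittVector p S →+* WittVector p S) with
      | zero => simp only [map_zero]
      | tmul a y =>
        rw [BC.map_tmul, BC.lift_tmul, BC.lift_tmul, LinearMap.comp_apply, hH]
        generalize vSharpPow Vs m y = u
        induction u using BC.induction_on ((WittVector.frobenius : WittVector p S →+* WittVector p S) ^ (m + 1)) with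
        | zero => simp only [map_zero, smul_zero]
        | tmul d w =>
          rw [BC.lift_tmul, BC.push_tmul, BC.smul_tmul, BC.castHom_tmul, BC.lift_tmul, map_smulₛₗ,
            mul_smul, compPow_apply]
        | add u₁ u₂ h₁ h₂ => simp only [map_add, smul_add, h₁, h₂]
      | add a b ha hb => simp only [map_add, ha, hb]
  obtain ⟨H, hH⟩ := hiter n
  apply LinearMap.ext
  intro x
  have h0 : BC.lift _ H (vSharpPow Vs n x) = 0 := by
    refine Submodule.smul_induction_on (hn x) (fun r hr v _ => ?_) (fun u v hu hv => ?_)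
    · rw [map_smul]
      apply Subtype.ext
      rw [Submodule.coe_smul, Submodule.coe_zero]
      refine Submodule.smul_induction_on ((BC.lift _ H v).2) (fun y hy w _ => ?_) (fun u v hu hv => ?_)
      · rw [← mul_smul, mul_WK_eq_zero hsq hp hr hy, zero_smul]
      · rw [smul_add, hu, hv, add_zero]
    · rw [map_add, hu, hv, add_zero]
  exact congrArg Subtype.val ((hH x).trans h0)

end Core

section Hom

variable {S R : Type u} [CommRing S] [CommRing R] (f : S →+* R)
variable {P : Type v} [AddCommGroup P] [Module (WittVector p S) P]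
variable {P' : Type v} [AddCommGroup P'] [Module (WittVector p S) P']

local notation "Wf" => (WittVector.map f : WittVector p S →+* WittVector p R)

theorem mem_span_of_mem_bcQ (D : Display3n p S P) (z : BC Wf P)
    (hz : z ∈ LinearMap.ker (bcQuotMap f D.Q)) :
    z ∈ Submodule.span (WittVector p R) (Set.range fun q : D.Q => BC.tmul Wf 1 (q : P)) ⊔
      IV p R • (⊤ : Submodule (WittVector p R) (BC Wf P)) := by
  obtain ⟨L, T, hLT, hQ⟩ := D.exists_normal
  let eL : P →ₗ[WittVector p S] P := L.subtype ∘ₗ Submodule.projectionOnto L T hLT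
  let eT : P →ₗ[WittVector p S] P := T.subtype ∘ₗ Submodule.projectionOnto T L hLT.symm
  let ET := BC.map Wf eT
  let c : WittVector p R →+* R := WittVector.constantCoeff
  haveI : RingHomCompTriple Wf c (c.comp Wf) := ⟨rfl⟩
  have hker : D.Q ≤ LinearMap.ker ((BC.ι c (BC Wf P)).comp ((BC.ι Wf P).comp eT)) := by
    rw [hQ]
    refine sup_le (fun l hl => ?_) ?_
    · simp only [LinearMap.mem_ker, LinearMap.comp_apply]
      rw [show eT l = 0 by simp [eT, Submodule.projectionOnto_apply_right hLT.symm ⟨l, hl⟩]]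
      simp
    · rw [Submodule.smul_le]
      intro r hr t _
      rw [LinearMap.mem_ker, map_smulₛₗ]
      rw [IV_eq_ker, RingHom.mem_ker] at hr
      have h1 : c (WittVector.map f r) = f (WittVector.constantCoeff r) := rfl
      rw [RingHom.comp_apply, h1, hr, map_zero, zero_smul]
  have hET : ∀ (b : WittVector p R) (x : P), ET (BC.tmul Wf b x) = b • BC.ι Wf P (eT x) := fun b x =>
    (BC.map_tmul Wf eT b x).trans (BC.tmul_eq_smul_tmul_one Wf b (eT x))
  let Ψ := BC.lift (c.comp Wf) (D.Q.liftQ _ hker)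
  have hΨ : ∀ z, Ψ (bcQuotMap f D.Q z) = BC.ι c _ (ET z) := by
    intro z
    induction z using BC.induction_on Wf with
    | zero => simp only [map_zero]
    | tmul b x =>
      rw [bcQuotMap_tmul, BC.lift_tmul, Submodule.mkQ_apply, Submodule.liftQ_apply, hET,
        LinearMap.map_smulₛₗ, LinearMap.comp_apply, LinearMap.comp_apply]
    | add a b ha hb => simp only [map_add, ha, hb]
  have h0 : BC.ι c _ (ET z) = 0 := by rw [← hΨ, LinearMap.mem_ker.1 hz, map_zero]
  have h1 := mem_of_ι_eq_zero c (fun r => WittVector.teichmuller p r)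
    (fun r => WittVector.teichmuller_coeff_zero p r) (ET z) h0
  rw [← IV_eq_ker] at h1
  clear hz h0
  have h2 : ∀ z, z - ET z ∈ Submodule.span (WittVector p R) (Set.range fun q : D.Q => BC.tmul Wf 1 (q : P)) := by
    intro z
    induction z using BC.induction_on Wf with
    | zero => simp only [map_zero, sub_zero]; exact Submodule.zero_mem _
    | tmul b x =>
      have hx : x = eL x + eT x := (Submodule.projection_add_projection_eq_self hLT x).symm
      have h3 : BC.tmul Wf b x - ET (BC.tmul Wf b x) = b • BC.tmul Wf 1 (eL x) := by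
        conv_lhs => rw [hET, BC.ι_apply, ← BC.tmul_eq_smul_tmul_one]
        conv_lhs => arg 1; rw [hx, BC.tmul_add]
        rw [add_sub_cancel_right, ← BC.tmul_eq_smul_tmul_one]
      rw [h3]
      exact Submodule.smul_mem _ _ (Submodule.subset_span ⟨⟨eL x, le_Q D L T hQ (Submodule.coe_mem _)⟩, rfl⟩)
    | add a b ha hb => rw [map_add, add_sub_add_comm]; exact Submodule.add_mem _ ha hb
  exact Submodule.mem_sup.2 ⟨_, h2 z, _, h1, sub_add_cancel _ _⟩

theorem isHom_baseChange (D : Display3n p S P) (D' : Display3n p S P')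
    (DR : Display3n p R (BC Wf P)) (hDR : IsDispBaseChange f D DR)
    (DR' : Display3n p R (BC Wf P')) (hDR' : IsDispBaseChange f D' DR')
    (ψ : P →ₗ[WittVector p S] P') (hψ : IsHom D D' ψ) : IsHom DR DR' (BC.map Wf ψ) := by
  have hF : ∀ x, BC.map Wf ψ (DR.F x) = DR'.F (BC.map Wf ψ x) := by
    intro x
    induction x using BC.induction_on Wf with
    | zero => simp only [map_zero]
    | tmul b y => rw [hDR.F_tmul, BC.map_tmul, BC.map_tmul, hDR'.F_tmul, hψ.comm_F]
    | add a b ha hb => simp only [map_add, ha, hb]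
  let K : Submodule (WittVector p R) (BC Wf P) :=
    { carrier := {z | ∃ (h : z ∈ DR.Q) (h' : BC.map Wf ψ z ∈ DR'.Q),
        BC.map Wf ψ (DR.Vinv ⟨z, h⟩) = DR'.Vinv ⟨_, h'⟩}
      zero_mem' := by
        refine ⟨DR.Q.zero_mem, by rw [map_zero]; exact DR'.Q.zero_mem, ?_⟩
        rw [show (⟨0, DR.Q.zero_mem⟩ : DR.Q) = 0 from rfl, map_zero DR.Vinv]
        refine (map_zero (BC.map Wf ψ)).trans (Eq.symm ?_)
        refine (congrArg DR'.Vinv (show _ = (0 : DR'.Q) from Subtype.ext (map_zero (BC.map Wf ψ)))).trans ?_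
        exact map_zero DR'.Vinv
      add_mem' := by
        rintro a b ⟨ha, ha', hae⟩ ⟨hb, hb', hbe⟩
        refine ⟨DR.Q.add_mem ha hb, by rw [map_add]; exact DR'.Q.add_mem ha' hb', ?_⟩
        rw [show (⟨a + b, DR.Q.add_mem ha hb⟩ : DR.Q) = ⟨a, ha⟩ + ⟨b, hb⟩ from rfl, map_add, map_add,
          hae, hbe, ← map_add]
        exact congrArg DR'.Vinv (Subtype.ext (map_add _ a b).symm)
      smul_mem' := by
        rintro r a ⟨ha, ha', hae⟩
        refine ⟨DR.Q.smul_mem r ha, by rw [map_smul]; exact DR'.Q.smul_mem r ha', ?_⟩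
        rw [show (⟨r • a, DR.Q.smul_mem r ha⟩ : DR.Q) = r • ⟨a, ha⟩ from rfl, map_smulₛₗ, map_smul,
          hae, ← map_smulₛₗ]
        exact congrArg DR'.Vinv (Subtype.ext (map_smul _ r a).symm) }
  have hK : ∀ z ∈ DR.Q, z ∈ K := fun z hz => by
    refine (show Submodule.span (WittVector p R) (Set.range fun q : D.Q => BC.tmul Wf 1 (q : P)) ⊔
      IV p R • (⊤ : Submodule (WittVector p R) (BC Wf P)) ≤ K from sup_le (Submodule.span_le.2 ?_) ?_)
      (mem_span_of_mem_bcQ f D z (hDR.Q_eq ▸ hz))
    · rintro _ ⟨q, rfl⟩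
      have h1 : BC.map Wf ψ (BC.tmul Wf 1 (q : P)) = BC.tmul Wf 1 (ψ q) := BC.map_tmul _ _ _ _
      have h := hDR.Q_eq ▸ tmul_mem f D 1 q.2
      have h2 : BC.tmul Wf 1 (ψ q) ∈ DR'.Q := hDR'.Q_eq ▸ tmul_mem f D' 1 (hψ.mapsTo q q.2)
      refine ⟨h, h1 ▸ h2, ?_⟩
      rw [hDR.Vinv_tmul, BC.map_tmul, hψ.comm_Vinv]
      exact ((hDR'.Vinv_tmul 1 ⟨ψ q, hψ.mapsTo q q.2⟩ h2).symm.trans
        (congrArg DR'.Vinv (Subtype.ext h1.symm)))
    · rw [Submodule.smul_le]
      intro r hr x _
      obtain ⟨a, rfl⟩ := (mem_IV_iff r).1 hr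
      refine ⟨DR.IV_smul_le (Submodule.smul_mem_smul (verschiebung_mem_IV p R a) Submodule.mem_top), ?_, ?_⟩
      · rw [map_smul]
        exact DR'.IV_smul_le (Submodule.smul_mem_smul (verschiebung_mem_IV p R a) Submodule.mem_top)
      · rw [DR.Vinv_verschiebung_smul, map_smul, hF, ← DR'.Vinv_verschiebung_smul]
        exact congrArg DR'.Vinv (Subtype.ext (map_smul _ _ _).symm)
  exact ⟨fun q hq => (hK q hq).2.1, hF, fun q => (hK q q.2).2.2⟩

theorem exists_Q_sub_mem (D : Display3n p S P) (x : P)
    (hx : BC.tmul Wf 1 x ∈ LinearMap.ker (bcQuotMap f D.Q)) :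
    ∃ y ∈ D.Q, x - y ∈ RingHom.ker Wf • (⊤ : Submodule (WittVector p S) P) := by
  haveI := D.finite
  haveI := D.projective
  obtain ⟨L, T, hLT, hQ⟩ := D.exists_normal
  let eL : P →ₗ[WittVector p S] P := L.subtype ∘ₗ Submodule.projectionOnto L T hLT
  obtain ⟨N, θ, t, ht⟩ := exists_coords eL
  let θ' := fun i => θ i ∘ₗ (LinearMap.id - eL)
  have hc : ∀ i, f (WittVector.constantCoeff (θ' i x)) = 0 := fun i => by
    let g : WittVector p S →+* R := (WittVector.constantCoeff).comp Wf
    let μ : P →ₛₗ[g] R :=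
      { toFun := fun y => g (θ' i y)
        map_add' := fun a b => by rw [map_add, map_add]
        map_smul' := fun a b => by rw [map_smul, smul_eq_mul, map_mul, smul_eq_mul] }
    have hμ : D.Q ≤ LinearMap.ker μ := by
      rw [hQ]
      refine sup_le (fun l hl => ?_) ?_
      · rw [LinearMap.mem_ker]
        show g (θ i (l - eL l)) = 0
        rw [show eL l = l by simp [eL, Submodule.projectionOnto_apply_left hLT ⟨l, hl⟩], sub_self,
          map_zero, map_zero]
      · rw [Submodule.smul_le]
        intro r hr v _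
        rw [IV_eq_ker, RingHom.mem_ker] at hr
        rw [LinearMap.mem_ker, map_smulₛₗ, show g r = f (WittVector.constantCoeff r) from rfl, hr,
          map_zero, zero_smul]
    have h1 := congrArg (BC.lift g (D.Q.liftQ μ hμ)) (LinearMap.mem_ker.1 hx)
    rw [bcQuotMap_tmul, BC.lift_tmul, map_one, one_smul, Submodule.mkQ_apply, Submodule.liftQ_apply,
      map_zero] at h1
    exact h1
  refine ⟨x - ∑ i, WittVector.teichmuller p (WittVector.constantCoeff (θ' i x)) • t i, ?_, ?_⟩
  · have h1 : x - ∑ i, WittVector.teichmuller p (WittVector.constantCoeff (θ' i x)) • t i =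
        eL x + ∑ i, (θ' i x - WittVector.teichmuller p (WittVector.constantCoeff (θ' i x))) • t i := by
      simp only [sub_smul, Finset.sum_sub_distrib]
      rw [show ∑ i, θ' i x • t i = x - eL x from (ht x).symm]
      abel
    rw [h1]
    exact D.Q.add_mem (le_Q D L T hQ (Submodule.coe_mem _)) (D.IV_smul_le (Submodule.sum_mem _ fun i _ =>
      Submodule.smul_mem_smul (sub_teichmuller_mem_IV _) Submodule.mem_top))
  · rw [sub_sub_cancel]
    refine Submodule.sum_mem _ fun i _ => Submodule.smul_mem_smul ?_ Submodule.mem_top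
    rw [RingHom.mem_ker, WittVector.map_teichmuller, hc, WittVector.teichmuller_zero]

variable (hf : Function.Surjective f)

include hf in
theorem mem_ker_smul_of_tmul_eq_zero (z : P) (h : BC.tmul Wf 1 z = 0) :
    z ∈ RingHom.ker Wf • (⊤ : Submodule (WittVector p S) P) :=
  mem_of_ι_eq_zero Wf (fun x => WittVector.mk p fun n => Function.surjInv hf (x.coeff n))
    (fun x => WittVector.ext fun n => by
      rw [WittVector.map_coeff, WittVector.coeff_mk, Function.surjInv_eq hf]) z h

theorem tmul_eq_zero_of_mem {z : P} (h : z ∈ RingHom.ker Wf • (⊤ : Submodule (WittVector p S) P)) :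
    BC.tmul Wf 1 z = 0 := by
  rw [← BC.ι_apply]
  refine Submodule.smul_induction_on h (fun r hr v _ => ?_) (fun u v hu hv => ?_)
  · rw [map_smulₛₗ, RingHom.mem_ker.1 hr, zero_smul]
  · rw [map_add, hu, hv, add_zero]

end Hom

section Rigidity

variable {S : Type u} [CommRing S]
variable {P P' : Type v} [AddCommGroup P] [Module (WittVector p S) P]
variable [AddCommGroup P'] [Module (WittVector p S) P']

theorem hom_mem_of_hom_mem (hpS : IsNilpotent (p : S)) (b b' : Ideal S) (hbb : b * b ≤ b')
    (hpb : Ideal.span {(p : S)} * b ≤ b') (D : Display3n p S P) (hD : IsDisplay D) (D' : Display3n p S P')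
    (ξ : P →ₗ[WittVector p S] P') (hξ : IsHom D D' ξ)
    (hval : ∀ x, ξ x ∈ WK (p := p) b • (⊤ : Submodule (WittVector p S) P')) (x : P) :
    ξ x ∈ WK (p := p) b' • (⊤ : Submodule (WittVector p S) P') := by
  let q := Ideal.Quotient.mk b'
  obtain ⟨E, hE, -⟩ := existsUnique_baseChange q D
  obtain ⟨E', hE', -⟩ := existsUnique_baseChange q D'
  let g : WittVector p S →+* WittVector p (S ⧸ b') := WittVector.map q
  have hsq : ∀ a ∈ b.map q, ∀ c ∈ b.map q, a * c = 0 := by
    intro a ha c hc
    obtain ⟨a', ha', rfl⟩ := (Ideal.mem_map_iff_of_surjective q Ideal.Quotient.mk_surjective).1 ha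
    obtain ⟨c', hc', rfl⟩ := (Ideal.mem_map_iff_of_surjective q Ideal.Quotient.mk_surjective).1 hc
    rw [← map_mul]
    exact Ideal.Quotient.eq_zero_iff_mem.2 (hbb (Ideal.mul_mem_mul ha' hc'))
  have hp' : ∀ a ∈ b.map q, (p : S ⧸ b') * a = 0 := by
    intro a ha
    obtain ⟨a', ha', rfl⟩ := (Ideal.mem_map_iff_of_surjective q Ideal.Quotient.mk_surjective).1 ha
    rw [← map_natCast q, ← map_mul]
    exact Ideal.Quotient.eq_zero_iff_mem.2 (hpb (Ideal.mul_mem_mul (Ideal.mem_span_singleton_self _) ha'))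
  have h0 := hom_eq_zero_of_sq_zero hsq hp' E (isDisplay_baseChange q hpS D hD E hE) E'
    (BC.map g ξ) (isHom_baseChange q D D' E hE E' hE' ξ hξ) (fun z => by
      induction z using BC.induction_on g with
      | zero => rw [map_zero]; exact Submodule.zero_mem _
      | tmul a y =>
        rw [BC.map_tmul, BC.tmul_eq_smul_tmul_one, ← BC.ι_apply]
        refine Submodule.smul_mem _ _ ?_
        refine Submodule.smul_induction_on (hval y) (fun r hr v _ => ?_) (fun u v hu hv => ?_)
        · rw [map_smulₛₗ]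
          refine Submodule.smul_mem_smul (mem_WK.2 fun n => ?_) Submodule.mem_top
          rw [WittVector.map_coeff]
          exact Ideal.mem_map_of_mem q (mem_WK.1 hr n)
        · rw [map_add]; exact Submodule.add_mem _ hu hv
      | add a b ha hb => rw [map_add]; exact Submodule.add_mem _ ha hb)
  refine mem_ker_smul_of_tmul_eq_zero q Ideal.Quotient.mk_surjective (ξ x) ?_
  rw [← BC.map_tmul g ξ 1 x, h0]
  rfl

theorem hom_eq_zero (hpS : IsNilpotent (p : S)) (a : Ideal S) (ha : IsNilpotent a)
    (D : Display3n p S P) (hD : IsDisplay D) (D' : Display3n p S P')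
    (ξ : P →ₗ[WittVector p S] P') (hξ : IsHom D D' ξ)
    (hval : ∀ x, ξ x ∈ WK (p := p) a • (⊤ : Submodule (WittVector p S) P')) : ξ = 0 := by
  set c := a ⊔ Ideal.span {(p : S)} with hc
  have hk : ∀ k, ∀ x, ξ x ∈ WK (p := p) (a * c ^ k) • (⊤ : Submodule (WittVector p S) P') := by
    intro k
    induction k with
    | zero => rw [pow_zero, Ideal.one_eq_top, Ideal.mul_top]; exact hval
    | succ k ih =>
      refine hom_mem_of_hom_mem hpS (a * c ^ k) _ ?_ ?_ D hD D' ξ hξ ih
      · calc a * c ^ k * (a * c ^ k) ≤ a * c ^ k * c :=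
              Ideal.mul_mono le_rfl (Ideal.mul_le_left.trans le_sup_left)
          _ = a * c ^ (k + 1) := by rw [mul_assoc, ← pow_succ]
      · calc Ideal.span {(p : S)} * (a * c ^ k) ≤ c * (a * c ^ k) :=
              Ideal.mul_mono le_sup_right le_rfl
          _ = a * c ^ (k + 1) := by rw [pow_succ]; ring
  obtain ⟨m, hm⟩ : IsNilpotent c := by
    refine Commute.isNilpotent_add (Commute.all _ _) ha ?_
    obtain ⟨e, he⟩ := hpS
    exact ⟨e, by rw [Ideal.span_singleton_pow, he, Ideal.zero_eq_bot, Ideal.span_singleton_eq_bot]⟩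
  apply LinearMap.ext
  intro x
  have h1 := hk m x
  rw [hm, Ideal.zero_eq_bot, Ideal.mul_bot] at h1
  have h2 : WK (p := p) (⊥ : Ideal S) = ⊥ := by
    refine le_bot_iff.1 fun y hy => WittVector.ext fun n => ?_
    rw [WittVector.zero_coeff]
    exact mem_WK.1 hy n
  rwa [h2, Submodule.bot_smul, Submodule.mem_bot] at h1

end Rigidity

end Groth.Agent.DispLib
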