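import Mathlib.RingTheory.AdicCompletion.Basic
import Mathlib.LinearAlgebra.Matrix.ToLin
import Mathlib.Algebra.Module.Projective
import Mathlib.RingTheory.Finiteness.Cardinality
import Mathlib.RingTheory.Finiteness.Projective
import Mathlib.Tactic.NoncommRing

/-!
# Lifting idempotent endomorphisms of projective modules over complete rings
-/

universe u v

namespace Groth.Agent.DispLib

variable {A : Type u} [CommRing A]

/-- The Newton sequence for `e² = e`. -/
def newton {N : ℕ} (E₀ : Matrix (Fin N) (Fin N) A) : ℕ → Matrix (Fin N) (Fin N) A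
  | 0 => E₀
  | k + 1 => 3 * (newton E₀ k * newton E₀ k) - 2 * (newton E₀ k * newton E₀ k * newton E₀ k)

theorem mul_apply_mem {N : ℕ} {J K : Ideal A} {X Y : Matrix (Fin N) (Fin N) A}
    (hX : ∀ i j, X i j ∈ J) (hY : ∀ i j, Y i j ∈ K) (i j : Fin N) : (X * Y) i j ∈ J * K := by
  rw [Matrix.mul_apply]
  exact Submodule.sum_mem _ fun l _ => Ideal.mul_mem_mul (hX i l) (hY l j)

theorem exists_idempotent_matrix (I : Ideal A) [IsAdicComplete I A] {N : ℕ}
    (P₀m E₀ : Matrix (Fin N) (Fin N) A) (h1 : E₀ * P₀m = E₀) (h2 : P₀m * E₀ = E₀)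
    (h : ∀ i j, (E₀ * E₀ - E₀) i j ∈ I) :
    ∃ E : Matrix (Fin N) (Fin N) A, E * E = E ∧ E * P₀m = E ∧ P₀m * E = E ∧
      ∀ i j, (E - E₀) i j ∈ I := by
  set e := newton E₀ with he
  have hid : ∀ k, e (k + 1) * e (k + 1) - e (k + 1) =
      (e k * e k - e k) * ((e k * e k - e k) * (4 * (e k * e k) - 4 * e k - 3)) := fun k => by
    simp only [he, newton]; noncomm_ring
  have hdiff : ∀ k, e (k + 1) - e k = (e k * e k - e k) * (1 - 2 * e k) := fun k => by
    simp only [he, newton]; noncomm_ring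
  have hd : ∀ k i j, (e k * e k - e k) i j ∈ I ^ (k + 1) := by
    intro k
    induction k with
    | zero => simpa [he, newton] using h
    | succ k ih =>
      intro i j
      rw [hid]
      have h3 := mul_apply_mem ih (mul_apply_mem ih (Y := 4 * (e k * e k) - 4 * e k - 3) (K := ⊤)
        fun _ _ => Submodule.mem_top) i j
      rw [Ideal.mul_top, ← pow_add] at h3
      exact Ideal.pow_le_pow_right (by omega) h3
  have hstep : ∀ k i j, (e (k + 1) - e k) i j ∈ I ^ (k + 1) := fun k i j => by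
    rw [hdiff]
    have h3 := mul_apply_mem (hd k) (Y := 1 - 2 * e k) (K := ⊤) (fun _ _ => Submodule.mem_top) i j
    rwa [Ideal.mul_top] at h3
  have hcauchy : ∀ i j {a b}, a ≤ b →
      e a i j ≡ e b i j [SMOD (I ^ a • ⊤ : Submodule A A)] := by
    intro i j a b hab
    rw [SModEq.sub_mem, smul_eq_mul, Ideal.mul_top]
    induction b, hab using Nat.le_induction with
    | base => rw [sub_self]; exact Ideal.zero_mem _
    | succ b hb ih =>
      have h3 := Ideal.sub_mem _ ih (Ideal.pow_le_pow_right (hb.trans (Nat.le_succ b)) (hstep b i j))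
      rw [Matrix.sub_apply] at h3
      simpa [sub_sub_sub_cancel_right] using h3
  choose l hl using fun i j => IsPrecomplete.prec (inferInstance : IsPrecomplete I A)
    (f := fun k => e k i j) (fun {a b} hab => hcauchy i j hab)
  let E : Matrix (Fin N) (Fin N) A := Matrix.of l
  have hE : ∀ k i j, (e k - E) i j ∈ I ^ k := fun k i j => by
    have := hl i j k
    rwa [SModEq.sub_mem, smul_eq_mul, Ideal.mul_top] at this
  have hsep : ∀ X : Matrix (Fin N) (Fin N) A, (∀ k i j, X i j ∈ I ^ k) → X = 0 := fun X hX => by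
    refine Matrix.ext fun i j => IsHausdorff.haus (inferInstance : IsHausdorff I A) _ fun k => ?_
    rw [SModEq.zero, smul_eq_mul, Ideal.mul_top]
    exact hX k i j
  refine ⟨E, ?_, ?_, ?_, fun i j => ?_⟩
  · refine sub_eq_zero.1 (hsep _ fun k i j => ?_)
    have h3 : E * E - E = (e k * e k - e k) - (e k - E) * e k - E * (e k - E) + (e k - E) := by
      noncomm_ring
    rw [h3, Matrix.add_apply, Matrix.sub_apply, Matrix.sub_apply]
    refine Ideal.add_mem _ (Ideal.sub_mem _ (Ideal.sub_mem _ ?_ ?_) ?_) (hE k i j)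
    · exact Ideal.pow_le_pow_right (Nat.le_succ k) (hd k i j)
    · have := mul_apply_mem (hE k) (Y := e k) (K := ⊤) (fun _ _ => Submodule.mem_top) i j
      rwa [Ideal.mul_top] at this
    · have := mul_apply_mem (J := ⊤) (X := E) (fun _ _ => Submodule.mem_top) (hE k) i j
      rwa [Ideal.top_mul] at this
  · have hk : ∀ k, e k * P₀m = e k := by
      intro k
      induction k with
      | zero => exact h1
      | succ k ih =>
        rw [he]; simp only [newton]; rw [← he]
        simp only [sub_mul, mul_assoc, ih]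
    refine sub_eq_zero.1 (hsep _ fun k i j => ?_)
    have h3 : E * P₀m - E = (e k - E) - (e k - E) * P₀m + (e k * P₀m - e k) := by noncomm_ring
    rw [h3, hk, sub_self, add_zero, Matrix.sub_apply]
    refine Ideal.sub_mem _ (hE k i j) ?_
    have := mul_apply_mem (hE k) (Y := P₀m) (K := ⊤) (fun _ _ => Submodule.mem_top) i j
    rwa [Ideal.mul_top] at this
  · have hk : ∀ k, P₀m * e k = e k := by
      intro k
      induction k with
      | zero => exact h2
      | succ k ih =>
        rw [he]; simp only [newton]; rw [← he, mul_sub]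
        congr 1
        · rw [← mul_assoc P₀m, (Commute.ofNat_right P₀m 3).eq, mul_assoc, ← mul_assoc P₀m (e k), ih]
        · rw [← mul_assoc P₀m, (Commute.ofNat_right P₀m 2).eq, mul_assoc, ← mul_assoc P₀m, ← mul_assoc P₀m, ih]
    refine sub_eq_zero.1 (hsep _ fun k i j => ?_)
    have h3 : P₀m * E - E = (e k - E) - P₀m * (e k - E) + (P₀m * e k - e k) := by noncomm_ring
    rw [h3, hk, sub_self, add_zero, Matrix.sub_apply]
    refine Ideal.sub_mem _ (hE k i j) ?_
    have := mul_apply_mem (J := ⊤) (X := P₀m) (fun _ _ => Submodule.mem_top) (hE k) i j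
    rwa [Ideal.top_mul] at this
  · have h3 : E - E₀ = (e 1 - e 0) - (e 1 - E) := by simp [he, newton]
    rw [h3, Matrix.sub_apply]
    exact Ideal.sub_mem _ (by simpa using hstep 0 i j) (by simpa using hE 1 i j)

variable {P : Type v} [AddCommGroup P] [Module A P] [Module.Finite A P] [Module.Projective A P]

theorem exists_idempotent_lift (I : Ideal A) [IsAdicComplete I A] (e₀ : P →ₗ[A] P)
    (h : ∀ x, e₀ (e₀ x) - e₀ x ∈ I • (⊤ : Submodule A P)) :
    ∃ e : P →ₗ[A] P, (∀ x, e (e x) = e x) ∧ ∀ x, e x - e₀ x ∈ I • (⊤ : Submodule A P) := by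
  classical
  obtain ⟨N, π, hπ⟩ := Module.Finite.exists_fin' A P
  obtain ⟨ι, hι⟩ := Module.projective_lifting_property π LinearMap.id hπ
  have hιπ : ∀ x, π (ι x) = x := fun x => LinearMap.congr_fun hι x
  let M : ((Fin N → A) →ₗ[A] (Fin N → A)) → Matrix (Fin N) (Fin N) A := fun f => LinearMap.toMatrix' f
  have hMmul : ∀ f g, M (f ∘ₗ g) = M f * M g := fun f g => LinearMap.toMatrix'_comp f g
  have hcoord : ∀ y ∈ I • (⊤ : Submodule A P), ∀ i, ι y i ∈ I := fun y hy i => by
    refine Submodule.smul_induction_on hy (fun r hr v _ => ?_) (fun a b ha hb => ?_)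
    · rw [map_smul]; exact I.mul_mem_right _ hr
    · rw [map_add]; exact I.add_mem ha hb
  obtain ⟨E, hEE, hEP, hPE, hE⟩ := exists_idempotent_matrix I (M (ι ∘ₗ π)) (M (ι ∘ₗ e₀ ∘ₗ π))
    (by
      rw [← hMmul]
      exact congrArg M (LinearMap.ext fun x => by simp [hιπ]))
    (by
      rw [← hMmul]
      exact congrArg M (LinearMap.ext fun x => by simp [hιπ]))
    (fun i j => by
      rw [Matrix.sub_apply, ← hMmul]
      show LinearMap.toMatrix' _ i j - LinearMap.toMatrix' _ i j ∈ I
      rw [LinearMap.toMatrix'_apply, LinearMap.toMatrix'_apply]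
      simp only [LinearMap.comp_apply, hιπ]
      rw [← Pi.sub_apply, ← map_sub]
      exact hcoord _ (h _) i)
  let Ef : (Fin N → A) →ₗ[A] (Fin N → A) := Matrix.toLin' E
  have hEf : ∀ z, ι (π (Ef z)) = Ef z := fun z => by
    have h3 : (ι ∘ₗ π) ∘ₗ Ef = Ef := by
      apply LinearMap.toMatrix'.injective
      rw [LinearMap.toMatrix'_comp, LinearMap.toMatrix'_toLin']
      exact hPE
    exact LinearMap.congr_fun h3 z
  refine ⟨π ∘ₗ Ef ∘ₗ ι, fun x => ?_, fun x => ?_⟩
  · simp only [LinearMap.comp_apply, hEf]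
    rw [← LinearMap.comp_apply Ef Ef, ← Matrix.toLin'_mul, hEE]
  · have h3 : π (Ef (ι x)) - e₀ x = π (Matrix.toLin' (E - M (ι ∘ₗ e₀ ∘ₗ π)) (ι x)) := by
      rw [map_sub, LinearMap.sub_apply, map_sub, Matrix.toLin'_toMatrix']
      simp [hιπ, Ef]
    rw [LinearMap.comp_apply, LinearMap.comp_apply, h3, pi_eq_sum_univ' (Matrix.toLin' _ (ι x)), map_sum]
    refine Submodule.sum_mem _ fun i _ => ?_
    rw [map_smul]
    refine Submodule.smul_mem_smul ?_ Submodule.mem_top
    rw [Matrix.toLin'_apply]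
    simp only [Matrix.mulVec, dotProduct]
    exact Submodule.sum_mem _ fun j _ => I.mul_mem_right _ (hE i j)

/-- A complement modulo `I` lifts to a direct sum decomposition. -/
theorem exists_decomposition (I : Ideal A) [IsAdicComplete I A] (Q C : Submodule A P)
    (h₁ : Q ⊔ C = ⊤) (h₂ : Q ⊓ C = I • (⊤ : Submodule A P)) :
    ∃ L T : Submodule A P, IsCompl L T ∧ Q = L ⊔ I • T := by
  classical
  set IP := I • (⊤ : Submodule A P)
  have hIQ : IP ≤ Q := h₂ ▸ inf_le_left
  have hc : IsCompl (Q.map IP.mkQ) (C.map IP.mkQ) := by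
    constructor
    · rw [disjoint_iff, eq_bot_iff]
      rintro z ⟨⟨a, ha, rfl⟩, b, hb, hab⟩
      rw [Submodule.mkQ_apply, Submodule.mkQ_apply, Submodule.Quotient.eq] at hab
      have hbQ : b ∈ Q := by simpa using Q.add_mem (hIQ hab) ha
      have hbIP : b ∈ IP := h₂ ▸ Submodule.mem_inf.2 ⟨hbQ, hb⟩
      rw [Submodule.mem_bot, Submodule.mkQ_apply, Submodule.Quotient.mk_eq_zero]
      simpa using IP.sub_mem hbIP hab
    · rw [codisjoint_iff, ← Submodule.map_sup, h₁, Submodule.map_top, Submodule.range_mkQ]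
  let pr : (P ⧸ IP) →ₗ[A] (P ⧸ IP) :=
    (Q.map IP.mkQ).subtype ∘ₗ Submodule.projectionOnto _ _ hc
  obtain ⟨e₀, he₀⟩ := Module.projective_lifting_property IP.mkQ (pr ∘ₗ IP.mkQ) IP.mkQ_surjective
  have he₀' : ∀ x, IP.mkQ (e₀ x) = pr (IP.mkQ x) := fun x => LinearMap.congr_fun he₀ x
  have hprQ : ∀ x ∈ Q, pr (IP.mkQ x) = IP.mkQ x := fun x hx =>
    congrArg Subtype.val (Submodule.projectionOnto_apply_left hc ⟨_, Submodule.mem_map_of_mem hx⟩)
  have he₀Q : ∀ x, e₀ x ∈ Q := fun x => by
    obtain ⟨q, hq, hqe⟩ := (Submodule.projectionOnto _ _ hc (IP.mkQ x)).2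
    have h3 : e₀ x - q ∈ IP := by
      rw [← Submodule.Quotient.mk_eq_zero, Submodule.Quotient.mk_sub, sub_eq_zero]
      exact (he₀' x).trans hqe.symm
    simpa using Q.add_mem (hIQ h3) hq
  obtain ⟨e, hee, hdiff⟩ := exists_idempotent_lift I e₀ fun x => by
    rw [← Submodule.Quotient.mk_eq_zero, Submodule.Quotient.mk_sub, sub_eq_zero,
      ← Submodule.mkQ_apply, ← Submodule.mkQ_apply, he₀' (e₀ x)]
    exact hprQ _ (he₀Q x)
  have hproj : LinearMap.IsProj (LinearMap.range e) e :=
    ⟨fun x => LinearMap.mem_range_self e x, fun x hx => by obtain ⟨y, rfl⟩ := hx; exact hee y⟩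
  refine ⟨LinearMap.range e, LinearMap.ker e, hproj.isCompl, le_antisymm (fun q hq => ?_) (sup_le ?_ ?_)⟩
  · rw [← add_sub_cancel (e q) q]
    refine Submodule.add_mem_sup (LinearMap.mem_range_self e q) ?_
    have hy : q - e q ∈ IP := by
      have h3 : e₀ q - q ∈ IP := by
        rw [← Submodule.Quotient.mk_eq_zero, Submodule.Quotient.mk_sub, sub_eq_zero]
        exact (he₀' q).trans (hprQ q hq)
      have h4 := IP.neg_mem (IP.add_mem (hdiff q) h3)
      rw [sub_add_sub_cancel, neg_sub] at h4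
      exact h4
    have hmap : ∀ y ∈ IP, y - e y ∈ I • LinearMap.ker e := fun y hy => by
      refine Submodule.smul_induction_on hy (fun r hr v _ => ?_) (fun a b ha hb => ?_)
      · rw [map_smul, ← smul_sub]
        exact Submodule.smul_mem_smul hr (LinearMap.mem_ker.2 (by rw [map_sub, hee, sub_self]))
      · rw [map_add, add_sub_add_comm]
        exact Submodule.add_mem _ ha hb
    have h5 := hmap _ hy
    rwa [map_sub, hee, sub_self, sub_zero] at h5
  · rintro _ ⟨x, rfl⟩
    simpa using Q.add_mem (hIQ (hdiff x)) (he₀Q x)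
  · exact (Submodule.smul_mono le_rfl le_top).trans hIQ

end Groth.Agent.DispLib
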