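import Groth.Agent.DispLib.Nilp
import Mathlib.LinearAlgebra.Basis.Prod

/-!
# The nilpotence condition in terms of the structure matrix
-/

universe u v w

namespace Groth.Agent.DispLib

open W4c1extbt610 Dieu

variable {p : ℕ} [Fact p.Prime] {R : Type u} [CommRing R]

/-- `W(R) → R/pR`. -/
noncomputable def toModP : WittVector p R →+* R ⧸ Ideal.span {(p : R)} :=
  (Ideal.Quotient.mk _).comp WittVector.constantCoeff

theorem toModP_surjective : Function.Surjective (toModP (p := p) (R := R)) :=
  Ideal.Quotient.mk_surjective.comp fun r => ⟨WittVector.teichmuller p r, rfl⟩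

theorem toModP_eq_zero_iff (x : WittVector p R) :
    toModP x = 0 ↔ x ∈ IV p R ⊔ Ideal.span {(p : WittVector p R)} := by
  rw [toModP, RingHom.comp_apply, Ideal.Quotient.eq_zero_iff_mem, Ideal.mem_span_singleton']
  constructor
  · rintro ⟨r, hr⟩
    have h : x - WittVector.teichmuller p r * (p : WittVector p R) ∈ IV p R := by
      rw [IV_eq_ker, RingHom.mem_ker, map_sub, map_mul, map_natCast,
        show WittVector.constantCoeff (WittVector.teichmuller p r) = r from rfl, hr, sub_self]
    have h2 := Submodule.add_mem_sup h (Ideal.mul_mem_left (Ideal.span {(p : WittVector p R)})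
      (WittVector.teichmuller p r) (Ideal.mem_span_singleton_self _))
    rwa [sub_add_cancel] at h2
  · intro h
    obtain ⟨a, ha, b, hb, rfl⟩ := Submodule.mem_sup.1 h
    rw [IV_eq_ker, RingHom.mem_ker] at ha
    obtain ⟨c, rfl⟩ := Ideal.mem_span_singleton'.1 hb
    exact ⟨WittVector.constantCoeff c, by rw [map_add, ha, zero_add, map_mul, map_natCast]⟩

theorem toModP_frobenius (x : WittVector p R) : toModP (WittVector.frobenius x) = toModP x ^ p := by
  rw [← sub_eq_zero, ← map_pow, ← map_sub, toModP_eq_zero_iff]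
  exact frobenius_sub_pow_mem x le_sup_left (Ideal.mem_sup_right (Ideal.mem_span_singleton_self _))

/-- The Frobenius of `R/pR`. -/
noncomputable def frobModP : R ⧸ Ideal.span {(p : R)} →+* R ⧸ Ideal.span {(p : R)} where
  toFun x := x ^ p
  map_one' := one_pow p
  map_zero' := zero_pow (Fact.out : p.Prime).ne_zero
  map_mul' x y := mul_pow x y p
  map_add' x y := by
    obtain ⟨a, rfl⟩ := toModP_surjective x
    obtain ⟨b, rfl⟩ := toModP_surjective y
    rw [← map_add, ← toModP_frobenius, ← toModP_frobenius, ← toModP_frobenius, map_add, map_add]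

/-- `B^{(p^{N-1})} ⋯ B^{(p)} B`. -/
noncomputable def twistProd {ι : Type w} [Fintype ι] [DecidableEq ι]
    (B : Matrix ι ι (R ⧸ Ideal.span {(p : R)})) (N : ℕ) : Matrix ι ι (R ⧸ Ideal.span {(p : R)}) :=
  ((List.range N).reverse.map fun i => B.map fun x => x ^ p ^ i).prod

theorem twistProd_succ {ι : Type w} [Fintype ι] [DecidableEq ι]
    (B : Matrix ι ι (R ⧸ Ideal.span {(p : R)})) (N : ℕ) :
    twistProd B (N + 1) = (twistProd B N).map (frobModP (p := p)) * B := by
  have h : (twistProd B N).map (frobModP (p := p)) =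
      (frobModP (p := p) (R := R)).mapMatrix (twistProd B N) := rfl
  rw [h, twistProd, twistProd, map_list_prod, List.range_succ_eq_map, List.reverse_cons, List.map_append,
    List.prod_append, ← List.map_reverse, List.map_map, List.map_map]
  simp only [List.map_cons, List.map_nil, List.prod_cons, List.prod_nil, mul_one, pow_zero, pow_one,
    Matrix.map_id']
  congr 2
  refine List.map_congr_left fun i _ => ?_
  ext a b
  simp only [Function.comp_apply, RingHom.mapMatrix_apply, Matrix.map_apply]
  show _ = (B a b ^ p ^ i) ^ p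
  rw [← pow_mul, Nat.succ_eq_add_one, pow_succ]

theorem isDisplay_iff_twistProd {P : Type v} [AddCommGroup P] [Module (WittVector p R) P]
    (hp : IsNilpotent (p : R)) (D : Display3n p R P) {ιT ιL : Type w} [Fintype ιT] [Fintype ιL]
    [DecidableEq ιT] [DecidableEq ιL] (e : Module.Basis (ιT ⊕ ιL) (WittVector p R) P)
    (α β : Matrix (ιT ⊕ ιL) (ιT ⊕ ιL) (WittVector p R)) (hαβ : α * β = 1)
    (hF : ∀ j, D.F (e (Sum.inl j)) = ∑ i, α i (Sum.inl j) • e i)
    (hLQ : ∀ k, e (Sum.inr k) ∈ D.Q)
    (hV : ∀ k, D.Vinv ⟨e (Sum.inr k), hLQ k⟩ = ∑ i, α i (Sum.inr k) • e i) :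
    IsDisplay D ↔ ∃ N, 0 < N ∧
      twistProd (Matrix.of fun k l => toModP (β (Sum.inr k) (Sum.inr l))) N = 0 := by
  classical
  obtain ⟨Vs, hVs, huniq⟩ := existsUnique_vSharp D hp
  let σ : WittVector p R →+* WittVector p R := WittVector.frobenius
  let d : ιT ⊕ ιL → WittVector p R := Sum.elim (fun _ => (p : WittVector p R)) (fun _ => 1)
  have hα : ∀ j, ∑ i, α i j • Vs (e i) = d j • BC.tmul σ 1 (e j) := by
    intro j
    simp only [← map_smul, ← map_sum]
    rcases j with j | k
    · rw [← hF]
      simpa [d, σ] using hVs.app_smul_F 1 (e (Sum.inl j))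
    · rw [← hV, vSharp_Vinv D hVs]
      exact (one_smul _ _).symm
  have hVe : ∀ m, Vs (e m) = ∑ j, (d j * β j m) • BC.tmul σ 1 (e j) := by
    intro m
    have h1 : ∑ j, β j m • ∑ i, α i j • Vs (e i) = Vs (e m) := by
      simp only [Finset.smul_sum, smul_smul]
      rw [Finset.sum_comm]
      simp only [← Finset.sum_smul]
      have h2 : ∀ i, ∑ j, β j m * α i j = (α * β) i m := fun i => by
        rw [Matrix.mul_apply]; exact Finset.sum_congr rfl fun j _ => mul_comm _ _
      simp only [h2, hαβ, Matrix.one_apply, ite_smul, one_smul, zero_smul, Finset.sum_ite_eq',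
        Finset.mem_univ, if_true]
    rw [← h1]
    simp only [hα, smul_smul, mul_comm]
  -- the coordinate matrices of the iterates
  let A : Matrix (ιT ⊕ ιL) (ιT ⊕ ιL) (WittVector p R) := Matrix.of fun l i => d l * β l i
  let C : ℕ → Matrix (ιT ⊕ ιL) (ιT ⊕ ιL) (WittVector p R) := fun n => n.rec A fun _ C => C.map σ * A
  have hC : ∀ n i, vSharpPow Vs n (e i) = ∑ l, C n l i • BC.tmul (σ ^ (n + 1)) 1 (e l) := by
    intro n
    induction n with
    | zero =>
      intro i
      rw [vSharpPow_zero_apply, hVe, map_sum]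
      simp only [map_smul]
      refine Finset.sum_congr rfl fun l _ => ?_
      rw [BC.castHom_tmul]
      rfl
    | succ n ih =>
      intro i
      rw [vSharpPow_succ_apply, hVe]
      simp only [map_sum, map_smul]
      calc ∑ x, (d x * β x i) • (BC.castHom (comp_pow_eq_pow_succ σ (n + 1)))
            (BC.lift σ (BC.push (σ ^ (n + 1)) σ) (BC.map σ (vSharpPow Vs n) (BC.tmul σ 1 (e x))))
          = ∑ x, ∑ l, (σ (C n l x) * A x i) • BC.tmul (σ ^ (n + 1 + 1)) 1 (e l) := by
            refine Finset.sum_congr rfl fun x _ => ?_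
            rw [BC.map_tmul, BC.lift_tmul, one_smul, ih]
            simp only [map_sum, map_smulₛₗ, map_smul, BC.push_tmul, map_one, BC.castHom_tmul, Finset.smul_sum,
              smul_smul]
            refine Finset.sum_congr rfl fun l _ => ?_
            rw [mul_comm]
            rfl
        _ = _ := by
            rw [Finset.sum_comm]
            refine Finset.sum_congr rfl fun l _ => ?_
            rw [← Finset.sum_smul]
            congr 1
  -- membership modulo `IV + pW` is read off the coordinates
  have hmem : ∀ n i, vSharpPow Vs n (e i) ∈ (IV p R ⊔ Ideal.span {(p : WittVector p R)}) •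
        (⊤ : Submodule (WittVector p R) (BC (σ ^ (n + 1)) P)) ↔ ∀ l, toModP (C n l i) = 0 := by
    intro n i
    rw [hC]
    constructor
    · intro h l
      let μ : P →ₛₗ[σ ^ (n + 1)] WittVector p R :=
        { toFun := fun x => (σ ^ (n + 1)) (e.repr x l)
          map_add' := fun x y => by simp
          map_smul' := fun a x => by simp }
      have h1 : ∀ z ∈ (IV p R ⊔ Ideal.span {(p : WittVector p R)}) •
          (⊤ : Submodule (WittVector p R) (BC (σ ^ (n + 1)) P)), toModP (BC.lift _ μ z) = 0 := by
        intro z hz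
        refine Submodule.smul_induction_on hz (fun r hr v _ => ?_) (fun u v hu hv => ?_)
        · rw [map_smul, smul_eq_mul, map_mul, (toModP_eq_zero_iff r).2 hr, zero_mul]
        · rw [map_add, map_add, hu, hv, add_zero]
      have h2 := h1 _ h
      simp only [map_sum, map_smul, BC.lift_tmul, one_smul, μ, LinearMap.coe_mk, AddHom.coe_mk,
        Module.Basis.repr_self, Finsupp.single_apply, smul_eq_mul, apply_ite (σ ^ (n + 1)), map_one, map_zero,
        mul_ite, mul_one, mul_zero, Finset.sum_ite_eq', Finset.mem_univ, if_true] at h2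
      simpa [map_sum, apply_ite (toModP (p := p) (R := R))] using h2
    · exact fun h => Submodule.sum_mem _ fun l _ =>
        Submodule.smul_mem_smul ((toModP_eq_zero_iff _).1 (h l)) Submodule.mem_top
  set B : Matrix ιL ιL (R ⧸ Ideal.span {(p : R)}) :=
    Matrix.of fun k l => toModP (β (Sum.inr k) (Sum.inr l)) with hB
  have hCbar : ∀ n l i, toModP (C (n + 1) l i) =
      ∑ k : ιL, frobModP (toModP (C n l (Sum.inr k))) * toModP (β (Sum.inr k) i) := by
    intro n l i
    show toModP (((C n).map σ * A) l i) = _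
    rw [Matrix.mul_apply, map_sum, Fintype.sum_sum_type]
    simp only [A, d, Matrix.of_apply, Sum.elim_inl, Sum.elim_inr, Matrix.map_apply, map_mul, map_natCast,
      one_mul]
    have hp0 : (p : R ⧸ Ideal.span {(p : R)}) = 0 := by
      rw [← map_natCast (Ideal.Quotient.mk (Ideal.span {(p : R)})), Ideal.Quotient.eq_zero_iff_mem]
      exact Ideal.mem_span_singleton_self _
    simp only [hp0, zero_mul, mul_zero, Finset.sum_const_zero, zero_add]
    refine Finset.sum_congr rfl fun k _ => ?_
    rw [show toModP (σ (C n l (Sum.inr k))) = frobModP (toModP (C n l (Sum.inr k))) from toModP_frobenius _]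
  have hrow : ∀ n j i, toModP (C n (Sum.inl j) i) = 0 := by
    intro n
    induction n with
    | zero =>
      intro j i
      show toModP ((p : WittVector p R) * _) = 0
      rw [map_mul, (toModP_eq_zero_iff _).2 (Ideal.mem_sup_right (Ideal.mem_span_singleton_self _)), zero_mul]
    | succ n ih =>
      intro j i
      rw [hCbar]
      simp [ih]
  have hLL : ∀ n k l, toModP (C n (Sum.inr k) (Sum.inr l)) = twistProd B (n + 1) k l := by
    intro n
    induction n with
    | zero =>
      intro k l
      rw [twistProd_succ]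
      simp [C, A, d, twistProd, hB]
    | succ n ih =>
      intro k l
      rw [hCbar, twistProd_succ B (n + 1), Matrix.mul_apply]
      refine Finset.sum_congr rfl fun m _ => ?_
      rw [Matrix.map_apply, ih, hB, Matrix.of_apply]
  constructor
  · rintro ⟨Vs', hVs', n, hn⟩
    obtain rfl := huniq Vs' hVs'
    refine ⟨n + 1, Nat.succ_pos n, Matrix.ext fun k l => ?_⟩
    rw [← hLL]
    exact (hmem n (Sum.inr l)).1 (hn _) _
  · rintro ⟨N, hN, hP⟩
    obtain ⟨n, rfl⟩ := Nat.exists_eq_succ_of_ne_zero hN.ne'
    refine ⟨Vs, hVs, n + 1, fun x => ?_⟩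
    rw [← e.sum_repr x, map_sum]
    refine Submodule.sum_mem _ fun i _ => ?_
    rw [map_smul]
    refine Submodule.smul_mem _ _ ((hmem (n + 1) i).2 fun l => ?_)
    rcases l with j | k
    · exact hrow (n + 1) j i
    · rw [hCbar]
      refine Finset.sum_eq_zero fun m _ => ?_
      rw [hLL, hP, Matrix.zero_apply, map_zero, zero_mul]

end Groth.Agent.DispLib
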