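import Groth.Agent.DispLib.BaseChange

/-!
# The nilpotence condition: composition, base change
-/

universe u v w

namespace Groth.Agent.DispLib

open W4c1extbt610 Dieu

section Iter

variable {p : ℕ} [Fact p.Prime] {R : Type u} [CommRing R]
variable {P : Type v} [AddCommGroup P] [Module (WittVector p R) P]

local notation "σ" => (WittVector.frobenius : WittVector p R →+* WittVector p R)

theorem frobenius_pow_comp (a b : ℕ) : (σ ^ (a + 1)).comp (σ ^ (b + 1)) = σ ^ (b + 1 + a + 1) := by
  show (σ ^ (a + 1)) * (σ ^ (b + 1)) = _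
  rw [← pow_add]
  congr 1
  omega

variable (Vs : P →ₗ[WittVector p R] BC (WittVector.frobenius : WittVector p R →+* WittVector p R) P)

/-- `1 ⊗ V^{(b+1)#}` on `W ⊗_{σ^{a+1}} P`. -/
noncomputable def stepMap (a b : ℕ) :
    BC (σ ^ (a + 1)) P →ₗ[WittVector p R] BC (σ ^ (b + 1 + a + 1)) P :=
  BC.lift _ (LinearMap.comp (BC.castHom (frobenius_pow_comp a b))
    ((BC.push (σ ^ (b + 1)) (σ ^ (a + 1))).comp (vSharpPow Vs b)))

theorem vSharpPow_add (a b : ℕ) (x : P) :
    vSharpPow Vs (b + 1 + a) x = stepMap Vs a b (vSharpPow Vs a x) := by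
  induction a generalizing x with
  | zero =>
    rw [vSharpPow_zero_apply]
    show vSharpPow Vs (b + 1) x = _
    rw [vSharpPow_succ_apply]
    generalize Vs x = z
    induction z using BC.induction_on σ with
    | zero => simp only [map_zero]
    | tmul c y =>
      rw [BC.map_tmul, BC.lift_tmul, BC.castHom_tmul, stepMap, BC.lift_tmul, LinearMap.comp_apply,
        LinearMap.comp_apply, map_smul]
      congr 1
    | add z₁ z₂ h₁ h₂ => simp only [map_add, h₁, h₂]
  | succ a ih =>
    show vSharpPow Vs (b + 1 + a + 1) x = _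
    rw [vSharpPow_succ_apply, vSharpPow_succ_apply Vs a]
    generalize Vs x = z
    induction z using BC.induction_on σ with
    | zero => simp only [map_zero]
    | tmul c y =>
      rw [BC.map_tmul, BC.map_tmul, BC.lift_tmul, BC.lift_tmul, ih]
      generalize vSharpPow Vs a y = u
      induction u using BC.induction_on (σ ^ (a + 1)) with
      | zero => simp only [map_zero, smul_zero]
      | tmul d w =>
        simp only [stepMap, BC.lift_tmul, BC.push_tmul, BC.castHom_tmul, BC.smul_tmul,
          LinearMap.comp_apply]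
        generalize vSharpPow Vs b w = v
        induction v using BC.induction_on (σ ^ (b + 1)) with
        | zero => simp only [map_zero, smul_zero]
        | tmul e q =>
          simp only [BC.push_tmul, BC.castHom_tmul, BC.smul_tmul]
          congr 1
          rw [map_mul, pow_succ' σ (a + 1)]
          simp [mul_assoc]
        | add v₁ v₂ h₁ h₂ => simp only [map_add, smul_add, h₁, h₂]
      | add u₁ u₂ h₁ h₂ => simp only [map_add, smul_add, h₁, h₂]
    | add z₁ z₂ h₁ h₂ => simp only [map_add, h₁, h₂]

theorem frobenius_pow_mem (k : ℕ) {x : WittVector p R}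
    (hx : x ∈ IV p R ⊔ Ideal.span {(p : WittVector p R)}) :
    (σ ^ (k + 1)) x ∈ Ideal.span {(p : WittVector p R)} := by
  have h1 : IV p R ⊔ Ideal.span {(p : WittVector p R)} ≤ (Ideal.span {(p : WittVector p R)}).comap σ := by
    refine sup_le ?_ ((Ideal.span_singleton_le_iff_mem _).2 ?_)
    · refine Ideal.span_le.2 ?_
      rintro _ ⟨a, rfl⟩
      rw [SetLike.mem_coe, Ideal.mem_comap, WittVector.frobenius_verschiebung]
      exact Ideal.mul_mem_left _ _ (Ideal.mem_span_singleton_self _)
    · rw [Ideal.mem_comap, map_natCast]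
      exact Ideal.mem_span_singleton_self _
  rw [pow_succ]
  obtain ⟨c, hc⟩ := Ideal.mem_span_singleton.1 (Ideal.mem_comap.1 (h1 hx))
  show (σ ^ k) (σ x) ∈ _
  rw [hc, map_mul, map_natCast]
  exact Ideal.mul_mem_right _ _ (Ideal.mem_span_singleton_self _)

theorem exists_vSharpPow_mem (hnil : IsVNilpotent Vs) (k : ℕ) :
    ∃ N, ∀ x, vSharpPow Vs N x ∈ (Ideal.span {(p : WittVector p R)} ^ k *
      (IV p R ⊔ Ideal.span {(p : WittVector p R)})) • (⊤ : Submodule (WittVector p R) (BC (σ ^ (N + 1)) P)) := by
  set J := IV p R ⊔ Ideal.span {(p : WittVector p R)} with hJ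
  obtain ⟨A, hA⟩ := hnil
  induction k with
  | zero => exact ⟨A, fun x => by rw [pow_zero, Ideal.one_eq_top, Ideal.top_mul]; exact hA x⟩
  | succ k ih =>
    obtain ⟨N, hN⟩ := ih
    refine ⟨A + 1 + N, fun x => ?_⟩
    rw [vSharpPow_add]
    have hstep : ∀ z, stepMap Vs N A z ∈ Ideal.span {(p : WittVector p R)} •
        (⊤ : Submodule (WittVector p R) (BC (σ ^ (A + 1 + N + 1)) P)) := by
      intro z
      induction z using BC.induction_on (σ ^ (N + 1)) with
      | zero => rw [map_zero]; exact Submodule.zero_mem _
      | tmul c y =>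
        rw [stepMap, BC.lift_tmul, LinearMap.comp_apply, LinearMap.comp_apply]
        refine Submodule.smul_mem _ _ ?_
        refine Submodule.smul_induction_on (hA y) (fun r hr v _ => ?_) (fun u v hu hv => ?_)
        · rw [map_smulₛₗ, map_smul]
          exact Submodule.smul_mem_smul (frobenius_pow_mem N hr) Submodule.mem_top
        · rw [map_add, map_add]; exact Submodule.add_mem _ hu hv
      | add a b ha hb => rw [map_add]; exact Submodule.add_mem _ ha hb
    have h1 : stepMap Vs N A (vSharpPow Vs N x) ∈
        ((Ideal.span {(p : WittVector p R)} ^ k * J) • (⊤ : Submodule (WittVector p R) (BC (σ ^ (N + 1)) P))).map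
          (stepMap Vs N A) := Submodule.mem_map_of_mem (hN x)
    rw [Submodule.map_smul'', Submodule.map_top] at h1
    have hr : LinearMap.range (stepMap Vs N A) ≤ Ideal.span {(p : WittVector p R)} •
        (⊤ : Submodule (WittVector p R) (BC (σ ^ (A + 1 + N + 1)) P)) := by
      rintro _ ⟨w, rfl⟩
      exact hstep w
    have h2 := Submodule.smul_mono le_rfl hr h1
    rw [← Submodule.smul_assoc, smul_eq_mul, mul_right_comm, ← pow_succ] at h2
    exact h2

end Iter

section Ext

variable {p : ℕ} [Fact p.Prime] {R : Type u} [CommRing R] {P : Type v} [AddCommGroup P]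
variable [Module (WittVector p R) P] (D : Display3n p R P)

theorem eq_of_vSharp {B : Type w} [CommRing B] {g : WittVector p R →+* B} {N : Type*} [AddCommGroup N]
    [Module B N] {f₁ f₂ : P →ₛₗ[g] N} (h : ∀ q : D.Q, f₁ (D.Vinv q) = f₂ (D.Vinv q)) : f₁ = f₂ :=
  LinearMap.ext_on D.span_range_Vinv (by rintro _ ⟨q, rfl⟩; exact h q)

theorem vSharp_Vinv {Vs} (h : IsVSharp D Vs) (q : D.Q) :
    Vs (D.Vinv q) = BC.tmul (WittVector.frobenius : WittVector p R →+* WittVector p R) 1 (q : P) := by
  simpa using h.app_smul_Vinv 1 q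

end Ext

section BaseChange

variable {p : ℕ} [Fact p.Prime] {S R : Type u} [CommRing S] [CommRing R] (f : S →+* R)
variable {P : Type v} [AddCommGroup P] [Module (WittVector p S) P]

local notation "Wf" => (WittVector.map f : WittVector p S →+* WittVector p R)

theorem map_frobenius_pow (k : ℕ) (x : WittVector p S) :
    ((WittVector.frobenius : WittVector p R →+* WittVector p R) ^ k) (WittVector.map f x) =
      WittVector.map f (((WittVector.frobenius : WittVector p S →+* WittVector p S) ^ k) x) := by
  induction k with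
  | zero => rfl
  | succ k ih =>
    rw [pow_succ', pow_succ']
    show WittVector.frobenius _ = WittVector.map f (WittVector.frobenius _)
    rw [ih, map_comp_frobenius_apply]

/-- `a ⊗ x ↦ f a ⊗ (1 ⊗ x)`. -/
noncomputable def twistBC (g : WittVector p S →+* WittVector p S) (g' : WittVector p R →+* WittVector p R)
    (h : ∀ x, g' (WittVector.map f x) = WittVector.map f (g x)) : BC g P →ₛₗ[Wf] BC g' (BC Wf P) :=
  let ψ : P →ₛₗ[(Wf).comp g] BC g' (BC Wf P) :=
    { toFun := fun x => BC.tmul g' 1 (BC.tmul Wf 1 x)
      map_add' := fun x y => by rw [BC.tmul_add, BC.tmul_add]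
      map_smul' := fun a x => by
        rw [← BC.tmul_apply_eq, BC.tmul_eq_smul_tmul_one Wf (WittVector.map f a), ← BC.tmul_apply_eq,
          BC.smul_tmul, mul_one, RingHom.comp_apply, h] }
  (BC.lift _ ψ).comp (BC.push g Wf)

theorem twistBC_tmul {g g'} (h) (a : WittVector p S) (x : P) :
    twistBC f g g' h (BC.tmul g a x) = BC.tmul g' (WittVector.map f a) (BC.tmul Wf 1 x) := by
  rw [twistBC, LinearMap.comp_apply, BC.push_tmul, BC.lift_tmul]
  show _ • BC.tmul g' 1 (BC.tmul Wf 1 x) = _
  rw [BC.smul_tmul, mul_one]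

theorem isDisplay_baseChange (hp : IsNilpotent (p : S)) (D : Display3n p S P) (hD : IsDisplay D)
    (DR : Display3n p R (BC Wf P)) (hDR : IsDispBaseChange f D DR) : IsDisplay DR := by
  obtain ⟨Vs, hVs, n, hn⟩ := hD
  obtain ⟨VR, hVR, -⟩ := existsUnique_vSharp DR (by simpa using hp.map f)
  have h0 : ∀ x : P, VR (BC.tmul Wf 1 x) =
      twistBC f _ _ (map_comp_frobenius_apply f) (Vs x) := fun x =>
    LinearMap.congr_fun (eq_of_vSharp D (f₁ := VR.comp (BC.ι Wf P))
      (f₂ := (twistBC f _ _ (map_comp_frobenius_apply f)).comp Vs) fun q => by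
      rw [LinearMap.comp_apply, LinearMap.comp_apply, BC.ι_apply, vSharp_Vinv D hVs, twistBC_tmul,
        map_one]
      have hq : BC.tmul Wf 1 (q : P) ∈ DR.Q := hDR.Q_eq ▸ tmul_mem f D 1 q.2
      have h2 := hDR.Vinv_tmul 1 q hq
      rw [map_one] at h2
      rw [← h2, vSharp_Vinv DR hVR]) x
  have key : ∀ (m : ℕ) (x : P), vSharpPow VR m (BC.tmul Wf 1 x) =
      twistBC f _ _ (map_frobenius_pow f (m + 1)) (vSharpPow Vs m x) := by
    intro m
    induction m with
    | zero =>
      intro x
      rw [vSharpPow_zero_apply, vSharpPow_zero_apply, h0]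
      generalize Vs x = z
      induction z using BC.induction_on (WittVector.frobenius : WittVector p S →+* WittVector p S) with
      | zero => simp only [map_zero]
      | tmul a y => rw [twistBC_tmul, BC.castHom_tmul, BC.castHom_tmul, twistBC_tmul]
      | add a b ha hb => simp only [map_add, ha, hb]
    | succ m ih =>
      intro x
      rw [vSharpPow_succ_apply, vSharpPow_succ_apply, h0]
      generalize Vs x = z
      induction z using BC.induction_on (WittVector.frobenius : WittVector p S →+* WittVector p S) with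
      | zero => simp only [map_zero]
      | tmul a y =>
        rw [twistBC_tmul, BC.map_tmul, BC.map_tmul, BC.lift_tmul, BC.lift_tmul, ih]
        generalize vSharpPow Vs m y = u
        induction u using BC.induction_on ((WittVector.frobenius : WittVector p S →+* WittVector p S) ^ (m + 1)) with
        | zero => simp only [map_zero, smul_zero]
        | tmul b w =>
          rw [twistBC_tmul, BC.push_tmul, BC.push_tmul, BC.smul_tmul, BC.smul_tmul, BC.castHom_tmul,
            BC.castHom_tmul, twistBC_tmul, map_mul, map_comp_frobenius_apply]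
        | add u₁ u₂ h₁ h₂ => simp only [map_add, smul_add, h₁, h₂]
      | add a b ha hb => simp only [map_add, ha, hb]
  refine ⟨VR, hVR, n, fun z => ?_⟩
  induction z using BC.induction_on Wf with
  | zero => rw [map_zero]; exact Submodule.zero_mem _
  | tmul a x =>
    rw [BC.tmul_eq_smul_tmul_one, map_smul, key]
    refine Submodule.smul_mem _ _ ?_
    refine Submodule.smul_induction_on (hn x) (fun r hr v _ => ?_) (fun u v hu hv => ?_)
    · rw [map_smulₛₗ]
      refine Submodule.smul_mem_smul ?_ Submodule.mem_top
      have h1 : IV p S ⊔ Ideal.span {(p : WittVector p S)} ≤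
          (IV p R ⊔ Ideal.span {(p : WittVector p R)}).comap Wf := by
        refine sup_le (Ideal.span_le.2 ?_) ((Ideal.span_singleton_le_iff_mem _).2 ?_)
        · rintro _ ⟨a, rfl⟩
          rw [SetLike.mem_coe, Ideal.mem_comap, map_verschiebung_apply]
          exact Ideal.mem_sup_left (verschiebung_mem_IV p R _)
        · rw [Ideal.mem_comap, map_natCast]
          exact Ideal.mem_sup_right (Ideal.mem_span_singleton_self _)
      exact h1 hr
    · rw [map_add]; exact Submodule.add_mem _ hu hv
  | add a b ha hb => rw [map_add]; exact Submodule.add_mem _ ha hb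

end BaseChange

end Groth.Agent.DispLib
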