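import Groth.Prelude.Def_Disp2
import Groth.Agent.DispLib.Idem
import Groth.Agent.DispLib.LevelOne
import Groth.Agent.S14855

/-!
# Normal decompositions and the linearised inverse Verschiebung of a 3n-display
-/

universe u v

namespace Groth.Agent.DispLib

open W4c1extbt610

variable {p : ℕ} [Fact p.Prime] {R : Type u} [CommRing R]

theorem IV_eq_ker : IV p R = RingHom.ker (WittVector.constantCoeff : WittVector p R →+* R) := by
  refine le_antisymm (Ideal.span_le.2 ?_) fun x hx => ?_
  · rintro _ ⟨a, rfl⟩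
    exact (Groth.Agent.S14855.mem_ker_iff _).2 ⟨a, rfl⟩
  · obtain ⟨a, rfl⟩ := (Groth.Agent.S14855.mem_ker_iff x).1 hx
    exact verschiebung_mem_IV p R a

theorem mem_IV_iff (x : WittVector p R) : x ∈ IV p R ↔ ∃ a, WittVector.verschiebung a = x := by
  rw [IV_eq_ker]; exact Groth.Agent.S14855.mem_ker_iff x

theorem isAdicComplete_IV [IsAdicComplete (Ideal.span {(p : R)}) R] :
    IsAdicComplete (IV p R) (WittVector p R) := by
  rw [IV_eq_ker]; exact Groth.Agent.S14855.complete_ker

theorem isAdicComplete_of_isNilpotent {A : Type u} [CommRing A] {x : A} (hx : IsNilpotent x) :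
    IsAdicComplete (Ideal.span {x}) A := by
  obtain ⟨N, hN⟩ := hx
  have h0 : ∀ n, N ≤ n → (Ideal.span {x} ^ n • ⊤ : Submodule A A) = ⊥ := fun n hn => by
    rw [smul_eq_mul, Ideal.mul_top, Ideal.span_singleton_pow, Ideal.span_singleton_eq_bot]
    exact pow_eq_zero_of_le hn hN
  exact {
    haus' := fun y hy => by
      have := hy N
      rwa [h0 N le_rfl, SModEq.bot] at this
    prec' := fun f hf => ⟨f N, fun n => by
      rcases le_total n N with h | h
      · exact hf h
      · have h1 := hf h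
        rw [h0 N le_rfl, SModEq.bot] at h1
        rw [h1]⟩ }

variable {P : Type v} [AddCommGroup P] [Module (WittVector p R) P]

/-- `F x = V⁻¹ (V 1 • x)`. -/
theorem F_eq_Vinv (D : Display3n p R P) (x : P) :
    D.F x = D.Vinv ⟨WittVector.verschiebung (1 : WittVector p R) • x,
      D.IV_smul_le (Submodule.smul_mem_smul (verschiebung_mem_IV p R 1) Submodule.mem_top)⟩ := by
  rw [D.Vinv_verschiebung_smul, one_smul]

section Split

variable (D : Display3n p R P) (L T : Submodule (WittVector p R) P) (hLT : IsCompl L T)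
  (hQ : D.Q = L ⊔ IV p R • T)

include hQ in
theorem le_Q : L ≤ D.Q := hQ ▸ le_sup_left

/-- The semilinear map `l + t ↦ V⁻¹ l + F t`. -/
noncomputable def phi : P →ₛₗ[(WittVector.frobenius : WittVector p R →+* WittVector p R)] P :=
  D.Vinv.comp (Submodule.inclusion (le_Q D L T hQ) ∘ₗ Submodule.projectionOnto L T hLT) +
    D.F.comp (T.subtype ∘ₗ Submodule.projectionOnto T L hLT.symm)

theorem phi_left (l : L) : phi D L T hLT hQ l = D.Vinv (Submodule.inclusion (le_Q D L T hQ) l) := by
  simp [phi]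

theorem phi_right (t : T) : phi D L T hLT hQ t = D.F t := by
  simp [phi]

include hLT hQ in
/-- An additive predicate on `Q` holds everywhere if it holds on `L` and on the `V a • t`. -/
theorem Q_induction {motive : D.Q → Prop} (hl : ∀ l : L, motive (Submodule.inclusion (le_Q D L T hQ) l))
    (ht : ∀ (a : WittVector p R) (t : T), motive ⟨WittVector.verschiebung a • (t : P),
      D.IV_smul_le (Submodule.smul_mem_smul (verschiebung_mem_IV p R a) Submodule.mem_top)⟩)
    (hadd : ∀ x y, motive x → motive y → motive (x + y)) (q : D.Q) : motive q := by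
  obtain ⟨x, hx⟩ := q
  have hx' : x ∈ L ⊔ IV p R • T := hQ ▸ hx
  obtain ⟨l, hl', z, hz, rfl⟩ := Submodule.mem_sup.1 hx'
  have hzQ : ∀ z ∈ IV p R • T, z ∈ D.Q := fun z hz => by rw [hQ]; exact Submodule.mem_sup_right hz
  have key : ∀ (hz : z ∈ IV p R • T), motive ⟨z, hzQ z hz⟩ := fun hz => by
    refine Submodule.smul_induction_on' hz (p := fun z hz => motive ⟨z, hzQ z hz⟩)
      (fun r hr t ht' => ?_) (fun a ha b hb hma hmb => hadd _ _ hma hmb)
    obtain ⟨a, rfl⟩ := (mem_IV_iff r).1 hr
    exact ht a ⟨t, ht'⟩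
  exact hadd ⟨l, le_Q D L T hQ hl'⟩ ⟨z, hzQ z hz⟩ (hl ⟨l, hl'⟩) (key hz)

theorem span_range_phi : Submodule.span (WittVector p R) (Set.range (phi D L T hLT hQ)) = ⊤ := by
  rw [eq_top_iff, ← D.span_range_Vinv, Submodule.span_le]
  rintro _ ⟨q, rfl⟩
  refine Q_induction D L T hLT hQ (motive := fun q => D.Vinv q ∈ Submodule.span (WittVector p R)
    (Set.range (phi D L T hLT hQ))) (fun l => ?_) (fun a t => ?_) (fun x y hx hy => ?_) q
  · rw [← phi_left D L T hLT hQ l]
    exact Submodule.subset_span ⟨_, rfl⟩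
  · rw [D.Vinv_verschiebung_smul, ← phi_right D L T hLT hQ t]
    exact Submodule.smul_mem _ _ (Submodule.subset_span ⟨_, rfl⟩)
  · rw [map_add]; exact Submodule.add_mem _ hx hy

theorem surjective_lift_phi : Function.Surjective (Dieu.BC.lift _ (phi D L T hLT hQ)) := by
  rw [← LinearMap.range_eq_top, eq_top_iff, ← span_range_phi D L T hLT hQ, Submodule.span_le]
  rintro _ ⟨x, rfl⟩
  exact ⟨Dieu.BC.ι _ P x, Dieu.BC.lift_ι _ _ x⟩

end Split

theorem natCast_mem_of_isMaximal (hp : IsNilpotent (p : R)) (m : Ideal (WittVector p R))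
    [m.IsMaximal] : IV p R ≤ m ∧ (p : WittVector p R) ∈ m := by
  haveI := isAdicComplete_of_isNilpotent hp
  haveI := isAdicComplete_IV (p := p) (R := R)
  have h1 : IV p R ≤ m := fun x hx => by
    have h2 := IsAdicComplete.le_jacobson_bot (IV p R) hx
    exact (Ideal.mem_sInf.1 h2) ⟨bot_le, ‹m.IsMaximal›⟩
  refine ⟨h1, ?_⟩
  obtain ⟨N, hN⟩ := hp
  refine (Ideal.IsMaximal.isPrime ‹_›).mem_of_pow_mem N (h1 ?_)
  rw [IV_eq_ker, RingHom.mem_ker, map_pow, map_natCast, hN]

theorem frobenius_sub_pow_mem (x : WittVector p R) {m : Ideal (WittVector p R)} (h1 : IV p R ≤ m)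
    (hp : (p : WittVector p R) ∈ m) : WittVector.frobenius x - x ^ p ∈ m := by
  obtain ⟨r, hr⟩ : ∃ r : R, WittVector.constantCoeff (WittVector.frobenius x - x ^ p) = (p : R) * r := by
    refine ⟨x.coeff 1, ?_⟩
    rw [map_sub, map_pow, sub_eq_iff_eq_add]
    show (WittVector.frobenius x).coeff 0 = _
    rw [WittVector.coeff_frobenius, WittVector.frobeniusPoly, WittVector.frobeniusPolyAux]
    simp [WittVector.constantCoeff, add_comm]
  have h3 : WittVector.frobenius x - x ^ p - (p : WittVector p R) * WittVector.teichmuller p r ∈ m := by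
    refine h1 ?_
    rw [IV_eq_ker, RingHom.mem_ker, map_sub, hr, map_mul, map_natCast, sub_eq_zero]
    exact congrArg _ (WittVector.teichmuller_coeff_zero p r).symm
  have h4 := m.add_mem h3 (m.mul_mem_right (WittVector.teichmuller p r) hp)
  rwa [sub_add_cancel] at h4

/-- Over a ring with `p` nilpotent the Frobenius of `W` fixes every maximal ideal. -/
theorem comap_frobenius_eq (hp : IsNilpotent (p : R)) (m : Ideal (WittVector p R)) [m.IsMaximal]
    (x : WittVector p R) : WittVector.frobenius x ∈ m ↔ x ∈ m := by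
  obtain ⟨h1, h2⟩ := natCast_mem_of_isMaximal hp m
  have h3 := frobenius_sub_pow_mem x h1 h2
  constructor
  · intro h
    have h4 := m.sub_mem h h3
    rw [sub_sub_cancel] at h4
    exact (Ideal.IsMaximal.isPrime ‹_›).mem_of_pow_mem p h4
  · intro h
    have h4 := m.add_mem h3 (Ideal.pow_mem_of_mem m h p (Fact.out : p.Prime).pos)
    rwa [sub_add_cancel] at h4

/-- A semilinear endomorphism with generating image is a semilinear isomorphism, if the twist fixes
all maximal ideals. -/
theorem injective_lift_of_span {A : Type u} [CommRing A] (σ : A →+* A)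
    (hσ : ∀ m : Ideal A, m.IsMaximal → ∀ x, σ x ∈ m ↔ x ∈ m)
    {M : Type v} [AddCommGroup M] [Module A M] [Module.Finite A M] [Module.Projective A M]
    (f : M →ₛₗ[σ] M) (hf : Function.Surjective (Dieu.BC.lift σ f)) :
    Function.Injective (Dieu.BC.lift σ f) := by
  classical
  set Φ := Dieu.BC.lift σ f with hΦ
  obtain ⟨s, hs⟩ := Module.projective_lifting_property Φ LinearMap.id hf
  have hs' : ∀ x, Φ (s x) = x := fun x => LinearMap.congr_fun hs x
  have hfinBC : Module.Finite A (Dieu.BC σ M) := by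
    obtain ⟨n, g, hg⟩ := Module.Finite.exists_fin (R := A) (M := M)
    refine ⟨Submodule.fg_def.2 ⟨_, Set.finite_range fun i => Dieu.BC.tmul σ 1 (g i), ?_⟩⟩
    rw [eq_top_iff]
    rintro z -
    induction z using Dieu.BC.induction_on σ with
    | zero => exact Submodule.zero_mem _
    | tmul b x =>
      rw [Dieu.BC.tmul_eq_smul_tmul_one]
      refine Submodule.smul_mem _ _ ?_
      have hx : x ∈ Submodule.span A (Set.range g) := hg ▸ Submodule.mem_top
      refine Submodule.span_induction (p := fun x _ => Dieu.BC.tmul σ 1 x ∈ _) ?_ ?_ ?_ ?_ hx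
      · rintro _ ⟨i, rfl⟩; exact Submodule.subset_span ⟨i, rfl⟩
      · rw [Dieu.BC.tmul_zero]; exact Submodule.zero_mem _
      · intro a b _ _ ha hb; rw [Dieu.BC.tmul_add]; exact Submodule.add_mem _ ha hb
      · intro a x _ hx
        rw [← Dieu.BC.tmul_apply_eq, Dieu.BC.tmul_eq_smul_tmul_one]
        exact Submodule.smul_mem _ _ hx
    | add a b ha hb => exact Submodule.add_mem _ ha hb
  have hker : LinearMap.ker Φ = LinearMap.range (LinearMap.id - s ∘ₗ Φ) := by
    refine le_antisymm (fun z hz => ?_) ?_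
    · exact ⟨z, by simp [LinearMap.mem_ker.1 hz]⟩
    · rintro _ ⟨z, rfl⟩
      simp [hs']
  have hfg : (LinearMap.ker Φ).FG := by
    rw [hker, ← Submodule.map_top]
    exact hfinBC.fg_top.map _
  suffices hann : ∀ m : Ideal A, m.IsMaximal → LinearMap.ker Φ ≤ m • LinearMap.ker Φ by
    rw [← LinearMap.ker_eq_bot, eq_bot_iff]
    intro z hz
    let J : Ideal A := (LinearMap.ker Φ).annihilator
    have hJ : J = ⊤ := by
      by_contra hne
      obtain ⟨m, hm, hle⟩ := Ideal.exists_le_maximal J hne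
      obtain ⟨r, hr1, hr0⟩ := Submodule.exists_sub_one_mem_and_smul_eq_zero_of_fg_of_le_smul m _
        hfg (hann m hm)
      have hr : r ∈ m := hle (Submodule.mem_annihilator.2 hr0)
      exact hm.ne_top ((Ideal.eq_top_iff_one m).2 (by simpa using m.sub_mem hr hr1))
    have h1 : (1 : A) ∈ J := hJ ▸ Submodule.mem_top
    simpa using Submodule.mem_annihilator.1 h1 z hz
  intro m hm z hz
  haveI := hm
  obtain ⟨n, x, hx, hind⟩ := exists_fibre_basis (C := M) m
  have hrep : ∀ y : M, ∃ c : Fin n → A, y - ∑ i, c i • x i ∈ m • (⊤ : Submodule A M) := fun y => by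
    have hy : y ∈ Submodule.span A (Set.range x) ⊔ m • ⊤ := by rw [hx]; exact Submodule.mem_top
    obtain ⟨a, ha, b, hb, rfl⟩ := Submodule.mem_sup.1 hy
    obtain ⟨c, rfl⟩ := (Submodule.mem_span_range_iff_exists_fun A).1 ha
    exact ⟨c, by simpa using hb⟩
  have hιm : ∀ y ∈ m • (⊤ : Submodule A M), Dieu.BC.ι σ M y ∈ m • (⊤ : Submodule A (Dieu.BC σ M)) := fun y hy => by
    refine Submodule.smul_induction_on hy (fun r hr v _ => ?_) (fun a b ha hb => ?_)
    · rw [map_smulₛₗ]
      exact Submodule.smul_mem_smul ((hσ m hm r).2 hr) Submodule.mem_top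
    · rw [map_add]; exact Submodule.add_mem _ ha hb
  have hgen : ∀ w : Dieu.BC σ M, ∃ c : Fin n → A,
      w - ∑ i, c i • Dieu.BC.ι σ M (x i) ∈ m • (⊤ : Submodule A (Dieu.BC σ M)) := by
    intro w
    induction w using Dieu.BC.induction_on σ with
    | zero => exact ⟨0, by simp⟩
    | tmul b y =>
      obtain ⟨c, hc⟩ := hrep y
      refine ⟨fun i => b * σ (c i), ?_⟩
      have h2 : Dieu.BC.tmul σ b y - ∑ i, (b * σ (c i)) • Dieu.BC.ι σ M (x i) =
          b • Dieu.BC.ι σ M (y - ∑ i, c i • x i) := by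
        simp only [map_sub, map_sum, map_smulₛₗ, smul_sub, Finset.smul_sum, smul_smul]
        rw [Dieu.BC.ι_apply, ← Dieu.BC.tmul_eq_smul_tmul_one]
      rw [h2]
      exact Submodule.smul_mem _ _ (hιm _ hc)
    | add a b ha hb =>
      obtain ⟨c, hc⟩ := ha; obtain ⟨d, hd⟩ := hb
      refine ⟨c + d, ?_⟩
      have := Submodule.add_mem _ hc hd
      simpa [add_smul, Finset.sum_add_distrib, add_sub_add_comm] using this
  have hΦm : ∀ w ∈ m • (⊤ : Submodule A (Dieu.BC σ M)), Φ w ∈ m • (⊤ : Submodule A M) := fun w hw => by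
    refine Submodule.smul_induction_on hw (fun r hr v _ => ?_) (fun a b ha hb => ?_)
    · rw [map_smul]; exact Submodule.smul_mem_smul hr Submodule.mem_top
    · rw [map_add]; exact Submodule.add_mem _ ha hb
  have hy : ∀ c : Fin n → A, Φ (∑ i, c i • Dieu.BC.ι σ M (x i)) = ∑ i, c i • f (x i) := fun c => by
    simp only [map_sum, map_smul, hΦ, Dieu.BC.lift_ι]
  choose H hH using fun j => hgen (s (x j))
  choose G hG using fun i => hrep (f (x i))
  have hH' : ∀ j, x j - ∑ i, H j i • f (x i) ∈ m • (⊤ : Submodule A M) := fun j => by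
    have := hΦm _ (hH j)
    rwa [map_sub, hs', hy] at this
  let mk := Ideal.Quotient.mk m
  have hHG : (Matrix.of H).map mk * (Matrix.of G).map mk = 1 := by
    refine Matrix.ext fun j l => ?_
    have h3 : ∑ l, ((∑ i, H j i * G i l) - (if j = l then 1 else 0)) • x l ∈ m • (⊤ : Submodule A M) := by
      have h4 : ∑ i, H j i • (f (x i) - ∑ l, G i l • x l) ∈ m • (⊤ : Submodule A M) :=
        Submodule.sum_mem _ fun i _ => Submodule.smul_mem _ _ (hG i)
      have h5 := Submodule.neg_mem _ (Submodule.add_mem _ (hH' j) h4)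
      convert h5 using 1
      simp only [sub_smul, Finset.sum_sub_distrib, Finset.sum_smul, smul_sub, Finset.smul_sum,
        smul_smul, ite_smul, one_smul, zero_smul, Finset.sum_ite_eq, Finset.mem_univ, if_true]
      rw [Finset.sum_comm]
      abel
    have h6 := hind _ h3 l
    rw [← Ideal.Quotient.mk_eq_mk_iff_sub_mem] at h6
    simpa [Matrix.mul_apply, Matrix.one_apply, mk, apply_ite (Ideal.Quotient.mk m)] using h6
  have hGH := mul_eq_one_comm.1 hHG
  obtain ⟨c, hc⟩ := hgen z
  have hcf : ∑ i, c i • f (x i) ∈ m • (⊤ : Submodule A M) := by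
    have := hΦm _ hc
    rw [map_sub, LinearMap.mem_ker.1 hz, zero_sub, hy] at this
    simpa using Submodule.neg_mem _ this
  have hcG : Matrix.vecMul (fun i => mk (c i)) ((Matrix.of G).map mk) = 0 := by
    funext l
    have h4 : ∑ i, c i • (f (x i) - ∑ l, G i l • x l) ∈ m • (⊤ : Submodule A M) :=
      Submodule.sum_mem _ fun i _ => Submodule.smul_mem _ _ (hG i)
    have h5 := Submodule.sub_mem _ hcf h4
    have h3 : ∑ l, (∑ i, c i * G i l) • x l ∈ m • (⊤ : Submodule A M) := by
      convert h5 using 1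
      simp only [smul_sub, Finset.sum_sub_distrib, Finset.sum_smul, Finset.smul_sum, smul_smul]
      rw [Finset.sum_comm]
      abel
    have h6 := hind _ h3 l
    rw [← Ideal.Quotient.eq_zero_iff_mem] at h6
    simpa [Matrix.vecMul, dotProduct, mk] using h6
  have hc0 : ∀ i, c i ∈ m := fun i => by
    have h7 := congrArg (fun v => Matrix.vecMul v ((Matrix.of H).map mk) i) hcG
    simp only [Matrix.vecMul_vecMul, hGH, Matrix.vecMul_one, Matrix.zero_vecMul, Pi.zero_apply] at h7
    exact Ideal.Quotient.eq_zero_iff_mem.1 h7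
  have hzm : z ∈ m • (⊤ : Submodule A (Dieu.BC σ M)) := by
    have := Submodule.add_mem _ hc (Submodule.sum_mem (m • (⊤ : Submodule A (Dieu.BC σ M)))
      (t := Finset.univ) (f := fun i => c i • Dieu.BC.ι σ M (x i))
      fun i _ => Submodule.smul_mem_smul (hc0 i) Submodule.mem_top)
    simpa using this
  have h8 : (LinearMap.id - s ∘ₗ Φ : Dieu.BC σ M →ₗ[A] Dieu.BC σ M) z ∈
      Submodule.map (LinearMap.id - s ∘ₗ Φ) (m • ⊤) := Submodule.mem_map_of_mem hzm
  rw [Submodule.map_smul'', Submodule.map_top, ← hker] at h8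
  simpa [LinearMap.mem_ker.1 hz] using h8

section Sharp

variable (D : Display3n p R P)

theorem existsUnique_vSharp (hp : IsNilpotent (p : R)) :
    ∃! Vs : P →ₗ[WittVector p R] Dieu.BC (WittVector.frobenius : WittVector p R →+* WittVector p R) P,
      Dieu.IsVSharp D Vs := by
  haveI := D.finite
  haveI := D.projective
  obtain ⟨L, T, hLT, hQ⟩ := D.exists_normal
  let φ := phi D L T hLT hQ
  let e := LinearEquiv.ofBijective (Dieu.BC.lift _ φ)
    ⟨injective_lift_of_span _ (fun m hm x => haveI := hm; comap_frobenius_eq hp m x) φ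
      (surjective_lift_phi D L T hLT hQ), surjective_lift_phi D L T hLT hQ⟩
  let σ : WittVector p R →+* WittVector p R := WittVector.frobenius
  let ψ : P →ₗ[WittVector p R] P := L.subtype ∘ₗ Submodule.projectionOnto L T hLT +
    (p : WittVector p R) • (T.subtype ∘ₗ Submodule.projectionOnto T L hLT.symm)
  let Vs := Dieu.BC.map σ ψ ∘ₗ e.symm.toLinearMap
  have hφ : ∀ x, Vs (φ x) = Dieu.BC.tmul σ 1 (ψ x) := fun x => by
    have h1 : e (Dieu.BC.tmul σ 1 x) = φ x := Dieu.BC.lift_ι σ φ x
    rw [LinearMap.comp_apply, ← h1, LinearEquiv.coe_coe, e.symm_apply_apply, Dieu.BC.map_tmul]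
  have hV : ∀ y : D.Q, Vs (D.Vinv y) = Dieu.BC.tmul σ 1 (y : P) := by
    refine Q_induction D L T hLT hQ (fun l => ?_) (fun a t => ?_) (fun x y hx hy => ?_)
    · rw [← phi_left D L T hLT hQ l]
      refine (hφ _).trans ?_
      simp [ψ]
    · rw [D.Vinv_verschiebung_smul, map_smul, ← phi_right D L T hLT hQ t]
      have h1 : ψ (t : P) = (p : WittVector p R) • (t : P) := by simp [ψ]
      refine (congrArg (a • ·) (hφ _)).trans ?_
      rw [h1, ← Dieu.BC.tmul_apply_eq, ← Dieu.BC.tmul_apply_eq, Dieu.BC.smul_tmul]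
      simp only [σ, map_natCast, WittVector.frobenius_verschiebung]
    · rw [map_add, map_add, hx, hy, Submodule.coe_add, Dieu.BC.tmul_add]
  refine ⟨Vs, ⟨fun w x => ?_, fun w y => ?_⟩, fun Vs' h' => ?_⟩
  · rw [map_smul, F_eq_Vinv, hV, ← Dieu.BC.tmul_apply_eq, Dieu.BC.smul_tmul, Dieu.BC.smul_tmul]
    simp only [σ, WittVector.frobenius_verschiebung, one_mul]
    rw [mul_comm]
  · rw [map_smul, hV, Dieu.BC.smul_tmul, mul_one]
  · apply LinearMap.ext_on D.span_range_Vinv
    rintro _ ⟨y, rfl⟩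
    rw [hV]
    simpa using h'.app_smul_Vinv 1 y

end Sharp

end Groth.Agent.DispLib
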