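import Mathlib.RingTheory.WittVector.Frobenius
import Mathlib.LinearAlgebra.Basis.Defs
import Mathlib.RingTheory.Ideal.Operations
import Mathlib.RingTheory.Nilpotent.Basic
import Mathlib.Algebra.Ring.GeomSum

/-!
# Rigidity of unit-root Frobenius modules over Witt vectors
-/

universe u v w z

open MvPolynomial

namespace Groth.Agent.DispLib

variable {p : ℕ} [hpF : Fact p.Prime] {S R : Type u} [CommRing S] [CommRing R] (φ : S →+* R)

theorem constantCoeff_frobeniusPolyAux (n : ℕ) :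
    constantCoeff (WittVector.frobeniusPolyAux p n) = 0 := by
  have h := WittVector.coeff_frobenius (p := p) (0 : WittVector p ℤ) n
  rw [map_zero, WittVector.zero_coeff, WittVector.frobeniusPoly, map_add, map_pow, map_mul, aeval_X,
    aeval_C, WittVector.zero_coeff, zero_pow hpF.out.ne_zero, zero_add] at h
  have h0 : (0 : WittVector p ℤ).coeff = (0 : ℕ → ℤ) := funext fun i => WittVector.zero_coeff p ℤ i
  rw [h0, show MvPolynomial.aeval (0 : ℕ → ℤ) (WittVector.frobeniusPolyAux p n) =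
    constantCoeff (WittVector.frobeniusPolyAux p n) by simp [MvPolynomial.aeval_zero]] at h
  exact (mul_eq_zero.1 h.symm).resolve_left (by simpa using hpF.out.ne_zero)

theorem aeval_mem_of_constantCoeff {I : Ideal S} (P : MvPolynomial ℕ ℤ) (hP : constantCoeff P = 0)
    (f : ℕ → S) (hf : ∀ i, f i ∈ I) : aeval f P ∈ I := by
  rw [← Ideal.Quotient.eq_zero_iff_mem, ← Ideal.Quotient.mkₐ_eq_mk ℤ, MvPolynomial.comp_aeval_apply]
  have : (fun i => Ideal.Quotient.mkₐ ℤ I (f i)) = (0 : ℕ → S ⧸ I) :=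
    funext fun i => Ideal.Quotient.eq_zero_iff_mem.2 (hf i)
  rw [this, MvPolynomial.aeval_zero, hP, map_zero]

theorem coeff_frobenius_eq (x : WittVector p S) (n : ℕ) :
    (WittVector.frobenius x).coeff n =
      x.coeff n ^ p + (p : S) * aeval x.coeff (WittVector.frobeniusPolyAux p n) := by
  rw [WittVector.coeff_frobenius, WittVector.frobeniusPoly]
  simp

/-- Frobenius is nilpotent on `W(𝔞)`. -/
theorem exists_iterate_frobenius_eq_zero (hp : IsNilpotent (p : S)) (N : ℕ)
    (hN : ∀ a : S, φ a = 0 → a ^ N = 0) :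
    ∃ M : ℕ, ∀ x ∈ RingHom.ker (WittVector.map (p := p) φ),
      (WittVector.frobenius : WittVector p S →+* WittVector p S)^[M] x = 0 := by
  obtain ⟨k, hk⟩ := hp
  have step1 : ∀ (x : WittVector p S) (m n : ℕ), ∃ b : S,
      ((WittVector.frobenius : WittVector p S →+* WittVector p S)^[m] x).coeff n =
        x.coeff n ^ p ^ m + (p : S) * b := by
    intro x m
    induction m with
    | zero => exact fun n => ⟨0, by simp⟩
    | succ m ih =>
      intro n
      obtain ⟨b, hb⟩ := ih n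
      rw [Function.iterate_succ_apply', coeff_frobenius_eq, hb]
      obtain ⟨c, hc⟩ := sub_dvd_pow_sub_pow (x.coeff n ^ p ^ m + (p : S) * b) (x.coeff n ^ p ^ m) p
      rw [add_sub_cancel_left, sub_eq_iff_eq_add] at hc
      refine ⟨b * c + aeval ((WittVector.frobenius : WittVector p S →+* WittVector p S)^[m] x).coeff
        (WittVector.frobeniusPolyAux p n), ?_⟩
      rw [hc, ← pow_mul, ← pow_succ]
      ring
  have step2 : ∀ (x : WittVector p S), (∀ n, x.coeff n ∈ Ideal.span {(p : S)}) → ∀ j n,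
      ((WittVector.frobenius : WittVector p S →+* WittVector p S)^[j] x).coeff n ∈
        Ideal.span {(p : S) ^ (j + 1)} := by
    intro x hx j
    induction j with
    | zero => simpa using hx
    | succ j ih =>
      intro n
      rw [Function.iterate_succ_apply', coeff_frobenius_eq]
      refine Ideal.add_mem _ ?_ ?_
      · rw [Ideal.mem_span_singleton]
        refine dvd_trans ?_ (pow_dvd_pow_of_dvd (Ideal.mem_span_singleton.1 (ih n)) p)
        rw [← pow_mul]
        exact pow_dvd_pow _ (by have := hpF.out.two_le; nlinarith)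
      · rw [Ideal.mem_span_singleton, pow_succ' _ (j + 1)]
        exact mul_dvd_mul_left _ (Ideal.mem_span_singleton.1
          (aeval_mem_of_constantCoeff _ (constantCoeff_frobeniusPolyAux n) _ ih))
  refine ⟨k + N, fun x hx => ?_⟩
  have hcoeff : ∀ n, x.coeff n ^ p ^ N = 0 := fun n =>
    pow_eq_zero_of_le (Nat.lt_pow_self hpF.out.one_lt).le (hN _ (by
      rw [← WittVector.map_coeff, RingHom.mem_ker.1 hx, WittVector.zero_coeff]))
  rw [Function.iterate_add_apply]
  ext n
  rw [WittVector.zero_coeff]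
  have h := step2 ((WittVector.frobenius : WittVector p S →+* WittVector p S)^[N] x) (fun i => by
    obtain ⟨b, hb⟩ := step1 x N i
    rw [hb, hcoeff, zero_add]
    exact Ideal.mul_mem_right _ _ (Ideal.mem_span_singleton_self _)) k n
  rwa [pow_succ, hk, zero_mul, Ideal.span_singleton_eq_bot.2 rfl, Ideal.mem_bot] at h

section Lift

variable {A : Type u} [CommRing A] (σ : A →+* A)
  {P₁ : Type v} [AddCommGroup P₁] [Module A P₁] {P₂ : Type w} [AddCommGroup P₂] [Module A P₂]
  {ι : Type z} (b : Module.Basis ι A P₁) (b' : Module.Basis ι A P₁)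
  (F₁ : P₁ →ₛₗ[σ] P₁) (F₂ : P₂ →ₛₗ[σ] P₂)

/-- The operator `α ↦ F₂ α F₁⁻¹`. -/
noncomputable def twist (α : P₁ →ₗ[A] P₂) : P₁ →ₗ[A] P₂ :=
  b'.constr ℕ fun i => F₂ (α (b i))

theorem twist_add (α β : P₁ →ₗ[A] P₂) :
    twist σ b b' F₂ (α + β) = twist σ b b' F₂ α + twist σ b b' F₂ β := by
  unfold twist
  rw [← map_add]
  congr 1
  funext i
  simp

theorem twist_sum {κ : Type*} (s : Finset κ) (f : κ → P₁ →ₗ[A] P₂) :
    twist σ b b' F₂ (∑ j ∈ s, f j) = ∑ j ∈ s, twist σ b b' F₂ (f j) :=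
  map_sum (AddMonoidHom.mk' (twist σ b b' F₂) (twist_add σ b b' F₂)) f s

theorem twist_F₁ (hb : ∀ i, b' i = F₁ (b i)) (α : P₁ →ₗ[A] P₂) (x : P₁) :
    twist σ b b' F₂ α (F₁ x) = F₂ (α x) := by
  have : (twist σ b b' F₂ α).comp F₁ = F₂.comp α := b.ext fun i => by
    show twist σ b b' F₂ α (F₁ (b i)) = F₂ (α (b i))
    rw [← hb, twist, Module.Basis.constr_basis]
  exact LinearMap.congr_fun this x

theorem twist_eq_self_iff (hb : ∀ i, b' i = F₁ (b i)) (α : P₁ →ₗ[A] P₂) :
    twist σ b b' F₂ α = α ↔ ∀ x, F₂ (α x) = α (F₁ x) := by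
  refine ⟨fun h x => ?_, fun h => b'.ext fun i => ?_⟩
  · rw [← twist_F₁ σ b b' F₁ F₂ hb α x, h]
  · rw [hb, twist_F₁ σ b b' F₁ F₂ hb, h]

theorem twist_mem {c c' : Ideal A} (hc : ∀ a ∈ c, σ a ∈ c') (α : P₁ →ₗ[A] P₂)
    (hα : ∀ x, α x ∈ c • (⊤ : Submodule A P₂)) (x : P₁) :
    twist σ b b' F₂ α x ∈ c' • (⊤ : Submodule A P₂) := by
  have hF : ∀ y ∈ c • (⊤ : Submodule A P₂), F₂ y ∈ c' • (⊤ : Submodule A P₂) := by
    intro y hy
    refine Submodule.smul_induction_on hy (fun r hr v _ => ?_) (fun y z hy hz => ?_)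
    · rw [map_smulₛₗ]
      exact Submodule.smul_mem_smul (hc r hr) Submodule.mem_top
    · rw [map_add]; exact Submodule.add_mem _ hy hz
  have hx : x ∈ Submodule.span A (Set.range b') := b'.span_eq.symm ▸ Submodule.mem_top
  induction hx using Submodule.span_induction with
  | mem y hy =>
    obtain ⟨i, rfl⟩ := hy
    rw [twist, Module.Basis.constr_basis]
    exact hF _ (hα _)
  | zero => rw [map_zero]; exact Submodule.zero_mem _
  | add y z _ _ hy hz => rw [map_add]; exact Submodule.add_mem _ hy hz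
  | smul r y _ hy => rw [map_smul]; exact Submodule.smul_mem _ _ hy

theorem twist_iterate_eq_zero {c : Ideal A} {M : ℕ} (hM : ∀ a ∈ c, (⇑σ)^[M] a = 0)
    (α : P₁ →ₗ[A] P₂) (hα : ∀ x, α x ∈ c • (⊤ : Submodule A P₂)) :
    (twist σ b b' F₂)^[M] α = 0 := by
  have h : ∀ j, ∀ x, (twist σ b b' F₂)^[j] α x ∈
      Ideal.span ((⇑σ)^[j] '' (c : Set A)) • (⊤ : Submodule A P₂) := by
    intro j
    induction j with
    | zero => simpa using hα
    | succ j ih =>
      intro x
      rw [Function.iterate_succ_apply']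
      refine twist_mem σ b b' F₂ (fun a ha => ?_) _ ih x
      have h1 := Ideal.mem_map_of_mem σ ha
      rw [Ideal.map_span, ← Set.image_comp, ← Function.iterate_succ' (⇑σ) j] at h1
      exact h1
  refine LinearMap.ext fun x => ?_
  have h1 := h M x
  have h0 : Ideal.span ((⇑σ)^[M] '' (c : Set A)) = ⊥ := by
    rw [Ideal.span_eq_bot]
    rintro _ ⟨a, ha, rfl⟩
    exact hM a ha
  rw [h0, Submodule.bot_smul, Submodule.mem_bot] at h1
  rw [h1, LinearMap.zero_apply]

/-- Existence and uniqueness of lifts of homomorphisms. -/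
theorem exists_lift (hb : ∀ i, b' i = F₁ (b i)) {c : Ideal A} (hc : ∀ a ∈ c, σ a ∈ c) {M : ℕ}
    (hM : ∀ a ∈ c, (⇑σ)^[M] a = 0) (α₀ : P₁ →ₗ[A] P₂)
    (hα₀ : ∀ x, F₂ (α₀ x) - α₀ (F₁ x) ∈ c • (⊤ : Submodule A P₂)) :
    ∃ α : P₁ →ₗ[A] P₂, (∀ x, α x - α₀ x ∈ c • (⊤ : Submodule A P₂)) ∧
      ∀ x, F₂ (α x) = α (F₁ x) := by
  set T := twist σ b b' F₂ with hT
  set δ := T α₀ - α₀ with hδ
  have hδc : ∀ x, δ x ∈ c • (⊤ : Submodule A P₂) := by
    intro x
    have hx : x ∈ Submodule.span A (Set.range b') := b'.span_eq.symm ▸ Submodule.mem_top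
    induction hx using Submodule.span_induction with
    | mem y hy =>
      obtain ⟨i, rfl⟩ := hy
      rw [hδ, LinearMap.sub_apply, hT, hb, twist_F₁ σ b b' F₁ F₂ hb]
      exact hα₀ _
    | zero => rw [map_zero]; exact Submodule.zero_mem _
    | add y z _ _ hy hz => rw [map_add]; exact Submodule.add_mem _ hy hz
    | smul r y _ hy => rw [map_smul]; exact Submodule.smul_mem _ _ hy
  have hiter : ∀ j x, T^[j] δ x ∈ c • (⊤ : Submodule A P₂) := by
    intro j
    induction j with
    | zero => exact hδc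
    | succ j ih =>
      intro x
      rw [Function.iterate_succ_apply']
      exact twist_mem σ b b' F₂ hc _ ih x
  refine ⟨α₀ + ∑ j ∈ Finset.range M, T^[j] δ, fun x => ?_, ?_⟩
  · rw [LinearMap.add_apply, add_sub_cancel_left, LinearMap.sum_apply]
    exact Submodule.sum_mem _ fun j _ => hiter j x
  · rw [← twist_eq_self_iff σ b b' F₁ F₂ hb, twist_add, twist_sum]
    have h1 : ∑ j ∈ Finset.range M, T (T^[j] δ) = (∑ j ∈ Finset.range M, T^[j] δ) - δ := by
      have h2 := Finset.sum_range_succ (fun j => T^[j] δ) M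
      rw [twist_iterate_eq_zero σ b b' F₂ hM δ hδc, add_zero, Finset.sum_range_succ'] at h2
      simp only [Function.iterate_succ_apply', Function.iterate_zero_apply] at h2
      rw [← h2, add_sub_cancel_right]
    rw [h1, hδ]
    abel

theorem lift_unique (hb : ∀ i, b' i = F₁ (b i)) {c : Ideal A} {M : ℕ}
    (hM : ∀ a ∈ c, (⇑σ)^[M] a = 0) (α α' : P₁ →ₗ[A] P₂)
    (h : ∀ x, α x - α' x ∈ c • (⊤ : Submodule A P₂)) (hα : ∀ x, F₂ (α x) = α (F₁ x))
    (hα' : ∀ x, F₂ (α' x) = α' (F₁ x)) : α = α' := by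
  have hfix : twist σ b b' F₂ (α - α') = α - α' := by
    rw [twist_eq_self_iff σ b b' F₁ F₂ hb]
    intro x
    rw [LinearMap.sub_apply, LinearMap.sub_apply, map_sub, hα, hα']
  have h1 := twist_iterate_eq_zero σ b b' F₂ hM (α - α') h
  rw [Function.iterate_fixed hfix] at h1
  exact sub_eq_zero.1 h1

end Lift

end Groth.Agent.DispLib
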